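import Groth.Agent.AlgSp.K603.Chev
import Groth.Agent.AlgSp.K631.BaseZ
import Groth.Agent.AlgSp.K597.ProperSub
import Groth.Agent.AlgSp.K625.Prod
import Groth.Agent.S9926

/-!
# Chevalley's theorem over an arbitrary base: separatedness and change of base
-/

set_option autoImplicit false
universe u
open CategoryTheory CategoryTheory.Limits AlgebraicGeometry Opposite
open AlgSp

namespace K603.ChevBase

open K603.Chev K595.ChBase

section
variable {S : Scheme.{u}}

/-- The terminal sheaf is separated. -/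
theorem isSeparatedSp_base : IsSeparatedSp ((yon S).obj (Over.mk (𝟙 S))) := by
  have h : IsIso (Limits.diag ((yon S).obj (Over.mk (𝟙 S)))) := by
    refine ⟨prod.fst, prod.lift_fst _ _, ?_⟩
    apply Limits.prod.hom_ext <;> exact (K625.Prod.isTerminalBase S).hom_ext _ _
  exact MorphismProperty.of_isIso (RepWith @IsClosedImmersion) _

theorem isSeparatedSp_yon [S.IsSeparated] (T : Over S) (hT : IsAffine T.left) : IsSeparatedSp ((yon S).obj T) := by
  have h0 : IsSeparated T.hom := by
    have : T.hom ≫ terminal.from S = terminal.from T.left := Subsingleton.elim _ _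
    have h1 : IsSeparated (T.hom ≫ terminal.from S) := by rw [this]; infer_instance
    exact IsSeparated.of_comp T.hom (terminal.from S)
  have h1 : RepWith @IsSeparated ((yon S).map (K625.Prod.toBase T)) := (repWith_yon_map_iff _ _).2 (by
    change IsSeparated T.hom
    exact h0)
  exact K608.SepAbs.isSeparatedSp_of_isSeparatedMor _ ((K595.DiagBasic.isSeparatedMor_iff_repWith h1.1).2 h1)
    isSeparatedSp_base

/-- `f : X ⟶ Y` surjective and universally closed, `X` affine: `Y` is separated. -/
theorem isSeparatedSp_of_surjective_univClosed [S.IsSeparated] {Y : Sp S} (hY : IsAlgSpace Y) {T : Over S}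
    (hT : IsAffine T.left) (f : (yon S).obj T ⟶ Y) (hfs : IsSurjectiveMor f) (hf : IsUnivClosedMor f) :
    IsSeparatedSp Y := by
  let X' : Space S := ⟨(yon S).obj T, IsAlgSpace.yon_obj T⟩
  let Y' : Space S := ⟨Y, hY⟩
  let B : Space S := ⟨(yon S).obj (Over.mk (𝟙 S)), IsAlgSpace.yon_obj _⟩
  let f' : X' ⟶ Y' := ⟨f⟩
  let q : Y' ⟶ B := ⟨(K625.Prod.isTerminalBase S).from Y⟩
  have h1 := (Groth.Agent.S9926.result f' (f' ≫ q) q rfl hfs hf).2
    (K608.SepAbs.isSeparatedMor_of_isSeparatedSp _ (isSeparatedSp_yon T hT))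
  exact K608.SepAbs.isSeparatedSp_of_isSeparatedMor _ h1 isSeparatedSp_base

/-- **Chevalley's theorem**: `f : X ⟶ Y` finite surjective, `X` affine, `Y` an algebraic space over any base. -/
theorem aff_of_finite {Y : Sp S} (hY : IsAlgSpace Y) {T : Over S} (hT : IsAffine T.left) (f : (yon S).obj T ⟶ Y)
    (hf : RepWith @IsFinite f) (hfs : RepWith @Surjective f) : Aff Y := by
  let g : S ⟶ ⊤_ Scheme.{u} := terminal.from S
  let T' : Over (⊤_ Scheme.{u}) := (Over.map g).obj T
  have hT' : IsAffine T'.left := hT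
  let f' : (yon (⊤_ Scheme.{u})).obj T' ⟶ (L g).obj Y := yonHom T ≫ (L g).map f
  have hf' : RepWith @IsFinite f' := MorphismProperty.RespectsIso.precomp _ _ _ (repWith_L hf)
  have hfs' : RepWith @Surjective f' := MorphismProperty.RespectsIso.precomp _ _ _ (repWith_L hfs)
  have hY' := isAlgSpace_L (g := g) hY
  have hsep : IsSeparatedSp ((L g).obj Y) := isSeparatedSp_of_surjective_univClosed hY' hT' f'
    (K609.Points.surjective_map_of_repWith_surjective hfs')
    ((K596.Univ.repWith_universallyClosed_iff hf'.1).1 (K598.RepKit.repWith_mono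
      (fun _ _ f (_ : IsFinite f) => (inferInstance : UniversallyClosed f)) hf'))
  obtain ⟨T'', hT'', ⟨e⟩⟩ := K603.Chev.aff_of_finite hY' hsep hT' f' hf' hfs'
  obtain ⟨T₀, ⟨e1⟩, ⟨e2⟩⟩ := K631.BaseZ.exists_rep_of_L e
  exact ⟨T₀, IsAffine.of_isIso e1.hom, ⟨e2⟩⟩

end

end K603.ChevBase
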