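import Groth.Agent.Ega43.DvrScheme
import Groth.Agent.Fdesc.QuasiCompactTop
import Mathlib.RingTheory.PowerSeries.Inverse
import Mathlib.RingTheory.DiscreteValuationRing.Basic

/-!
# Discrete valuation rings through a point in the closure of the image (schemes)
-/

set_option autoImplicit false
universe u
open CategoryTheory CategoryTheory.Limits AlgebraicGeometry Opposite

namespace K603.DvrSch

/-- A point in the closure of the image of a morphism of finite type to a locally Noetherian scheme
is reached by a discrete valuation ring whose generic point lifts. -/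
theorem exists_dvr_of_mem_closure {X Y : Scheme.{u}} (f : X ⟶ Y) [LocallyOfFiniteType f]
    [QuasiCompact f] [IsLocallyNoetherian Y] (y : Y) (hy : y ∈ closure (Set.range f)) :
    ∃ (A : Type u) (_ : CommRing A) (_ : IsDomain A) (_ : IsDiscreteValuationRing A)
      (α : Spec (CommRingCat.of A) ⟶ Y) (κ : Spec (CommRingCat.of (FractionRing A)) ⟶ X),
      κ ≫ f = Spec.map (CommRingCat.ofHom (algebraMap A (FractionRing A))) ≫ α ∧
      α (IsLocalRing.closedPoint A) = y := by
  obtain ⟨x, hx⟩ := Groth.Agent.Fdesc.QuasiCompactTop.exists_specializes_of_mem_closure_range f y hy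
  by_cases hne : f x = y
  · let k := X.residueField x
    let c : k ⟶ CommRingCat.of (PowerSeries k) := CommRingCat.ofHom (PowerSeries.C (R := k))
    refine ⟨PowerSeries k, inferInstance, inferInstance, inferInstance,
      Spec.map c ≫ X.fromSpecResidueField x ≫ f,
      Spec.map (CommRingCat.ofHom (algebraMap (PowerSeries k) (FractionRing (PowerSeries k)))) ≫
        Spec.map c ≫ X.fromSpecResidueField x, ?_, ?_⟩
    · simp only [Category.assoc]
    · rw [← hne, Scheme.Hom.comp_apply, Scheme.Hom.comp_apply, Scheme.fromSpecResidueField_apply]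
  · obtain ⟨R, _, _, _, _, _, g, hg1, hg2⟩ :=
      Groth.Agent.Ega43.DvrScheme.exists_dvr_of_specializes_of_locallyOfFiniteType f x hx hne
    let e : FractionRing R ≃ₐ[R] (X.residueField x) := FractionRing.algEquiv R (X.residueField x)
    refine ⟨R, inferInstance, inferInstance, inferInstance, g,
      Spec.map (CommRingCat.ofHom (e.symm.toAlgHom : X.residueField x →ₐ[R] FractionRing R).toRingHom) ≫
        X.fromSpecResidueField x, ?_, hg1⟩
    rw [Category.assoc, ← hg2, ← Category.assoc, ← Spec.map_comp]
    congr 2
    ext r
    simp


end K603.DvrSch
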