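import Groth.Agent.AlgSp.K603.Points
import Groth.Agent.Ega43.UnivClosedAffine

/-!
# Closedness of base changes via affine spaces: the scheme part and the chart reduction
-/

set_option autoImplicit false
universe u
open CategoryTheory CategoryTheory.Limits AlgebraicGeometry Opposite
open AlgSp

namespace K603.UnivClosedAux

section SchemePart

open Groth.Agent.Ega43.UnivClosedAffine

variable {R B : Type u} [CommRing R] [CommRing B] [Algebra R B]

/-- A closed subset of `U ×_R B` missing the fibre over `y` is separated from that fibre by an open subset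
of an affine space over `U`. -/
theorem exists_separating {X P : Scheme.{u}} [CompactSpace X] (f : X ⟶ Spec (.of R)) {fst : P ⟶ X}
    {snd : P ⟶ Spec (.of B)}
    (hpb : IsPullback fst snd f (Spec.map (CommRingCat.ofHom (algebraMap R B))))
    (Z : Set P) (hZ : IsClosed Z) (y : PrimeSpectrum B) (hy : ∀ z ∈ Z, snd z ≠ y) :
    ∃ (n : ℕ) (b : ULift.{u} (Fin n) → Γ(Spec (.of B), ⊤)) (W : (𝔸(ULift.{u} (Fin n); X)).Opens),
      (∀ z ∈ Z, AffineSpace.homOfVector fst (fun i => snd.appTop (b i)) z ∉ W) ∧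
      (∀ x : P, snd x = y → AffineSpace.homOfVector fst (fun i => snd.appTop (b i)) x ∈ W) := by
  let 𝒰 := X.affineCover.finiteSubcover
  have hoi : ∀ j : 𝒰.I₀, IsOpenImmersion (𝒰.f j) := fun j ↦ inferInstance
  choose F hF b W' using fun j : 𝒰.I₀ ↦ @exists_piece' R B _ _ _ X P f fst snd hpb _ (𝒰.f j)
    (hoi j) Z hZ y hy
  have hN : Finite (Σ j, F j) := inferInstance
  obtain ⟨n, ⟨e⟩⟩ := Finite.exists_equiv_fin (Σ j, F j)
  let N := ULift.{u} (Fin n)
  let e' : (Σ j, F j) ≃ N := e.trans Equiv.ulift.symm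
  let bN : N → Γ(Spec (.of B), ⊤) := fun k ↦ b (e'.symm k).1 (e'.symm k).2
  choose W hW1 hW2 using fun j ↦ W' j N (fun k => e' ⟨j, k⟩) bN (fun k ↦ by
    simp only [bN]
    rw [Equiv.symm_apply_apply])
  refine ⟨n, bN, ⨆ j, W j, fun z hz hzW => ?_, fun x hx => ?_⟩
  · obtain ⟨j, hj⟩ := TopologicalSpace.Opens.mem_iSup.mp hzW
    exact hW1 j z hz hj
  · obtain ⟨j, hj⟩ : ∃ j, fst x ∈ Set.range (𝒰.f j) := 𝒰.exists_eq (fst x) |>.imp fun _ ⟨a, ha⟩ ↦ ⟨a, ha⟩
    exact TopologicalSpace.Opens.mem_iSup.mpr ⟨j, hW2 j x hx hj⟩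

end SchemePart

variable {S : Scheme.{u}}

open K603.Points

/-- Closedness of a map of points can be checked after base change to etale charts of the target. -/
theorem isClosedMap_of_charts {P Z : Sp S} (s : P ⟶ Z)
    (H : ∀ z : AlgSp.Points Z, ∃ (T : Over S) (a : (yon S).obj T ⟶ Z) (t : ↥T.left),
      RepWith @Etale a ∧ AlgSp.Points.ofPt a t = z ∧
      ∀ (P' : Sp S) (fst : P' ⟶ P) (snd : P' ⟶ (yon S).obj T), IsPullback fst snd s a →
        IsClosedMap (AlgSp.Points.map snd)) : IsClosedMap (AlgSp.Points.map s) := by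
  intro C hC
  rw [← isOpen_compl_iff, isOpen_iff_forall_mem_open]
  intro z hz
  obtain ⟨T, a, t, ha, rfl, h⟩ := H z
  have sq := IsPullback.of_hasPullback s a
  have hcl := h _ _ _ sq _ (hC.preimage (AlgSp.Points.continuous_map (pullback.fst s a)))
  have hO : IsOpen (AlgSp.Points.schemeHomeo T ⁻¹' (AlgSp.Points.map (pullback.snd s a) ''
      (AlgSp.Points.map (pullback.fst s a) ⁻¹' C))ᶜ) :=
    hcl.isOpen_compl.preimage (AlgSp.Points.schemeHomeo T).continuous
  refine ⟨_, ?_, isOpenMap_ofPt_of_etale a ha _ hO, ⟨t, ?_, rfl⟩⟩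
  · rintro _ ⟨t', ht', rfl⟩ ⟨c, hc, e⟩
    apply ht'
    obtain ⟨q, hq1, hq2⟩ := exists_of_isPullback sq c (AlgSp.Points.schemeEquiv T t')
      (e.trans (ofPt_eq_map a t'))
    exact ⟨q, by rwa [Set.mem_preimage, hq1], hq2⟩
  · rintro ⟨q, hq, e⟩
    apply hz
    refine ⟨_, hq, ?_⟩
    rw [ofPt_eq_map, ← AlgSp.Points.map_comp, sq.w, AlgSp.Points.map_comp]
    congr 1

theorem injective_of_mono {F G : Sp S} (j : F ⟶ G) [Mono j] : Function.Injective (AlgSp.Points.map j) := by
  intro x z e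
  obtain ⟨p, hp1, hp2⟩ := exists_of_isPullback (IsKernelPair.id_of_mono j) x z e
  rw [← hp1, ← hp2]

end K603.UnivClosedAux
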