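import Groth.Agent.AlgSp.K598.Charts

/-!
# Zorn's lemma for closed subspaces

`exists_maximal`: if a property `P` of sheaves passes from limits of cofiltered systems of closed subspaces of `Y` to
some member, and fails for `Y`, then there is a closed subspace minimal among those which do not have `P`.
-/

set_option autoImplicit false
universe u
open CategoryTheory CategoryTheory.Limits AlgebraicGeometry Opposite
open AlgSp K598.ClFam K598.Charts K598.RepKit

namespace K603.ClChain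

variable {S : Scheme.{u}} {Y : Sp S}

theorem exists_trans {A B : Fam Y} (h : A ≤ B) : ∃ k : B.sheaf ⟶ A.sheaf, k ≫ A.ι = B.ι :=
  (A.factors_iff' B.ι).2 fun T g => by
    rw [eq_bot_iff, ← (B.factors_yon_iff' (g ≫ B.ι)).1 ⟨g, rfl⟩]
    exact h T _

/-- The inclusion of closed subspaces. -/
noncomputable def trans {A B : Fam Y} (h : A ≤ B) : B.sheaf ⟶ A.sheaf := (exists_trans h).choose

theorem trans_ι {A B : Fam Y} (h : A ≤ B) : trans h ≫ A.ι = B.ι := (exists_trans h).choose_spec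

theorem repWith_trans {A B : Fam Y} (h : A ≤ B) : RepWith @IsClosedImmersion (trans h) := by
  have sq : IsPullback (𝟙 B.sheaf) (trans h) B.ι A.ι := by
    refine ⟨⟨by rw [Category.id_comp, trans_ι]⟩, ⟨PullbackCone.IsLimit.mk _ (fun s => s.fst) ?_ ?_ ?_⟩⟩
    · intro s; rw [Category.comp_id]
    · intro s
      rw [← cancel_mono A.ι, Category.assoc, trans_ι, s.condition]
    · intro s m h1 _
      rw [← h1, Category.comp_id]
  exact (repWith_isStableUnderBaseChange (S := S) @IsClosedImmersion).of_isPullback sq B.repWith_ι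

section
variable {ι : Type u} [Preorder ι] (F : ι → Fam Y) (hF : Monotone F)

/-- The system of closed subspaces of an increasing system of ideals. -/
noncomputable def diag : ιᵒᵖ ⥤ Sp S where
  obj i := (F i.unop).sheaf
  map f := trans (hF (leOfHom f.unop))
  map_id i := by rw [← cancel_mono (F i.unop).ι, trans_ι, Category.id_comp]
  map_comp {i j k} f g := by rw [← cancel_mono (F k.unop).ι, trans_ι, Category.assoc, trans_ι, trans_ι]

/-- The sum of the ideals. -/
noncomputable def sup : Fam Y := Fam.sSup fun A => ∃ i, F i = A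

omit [Preorder ι] in
theorem le_sup (i : ι) : F i ≤ sup F := Fam.le_sSup ⟨i, rfl⟩

/-- The cone given by the intersection of the closed subspaces. -/
noncomputable def cone : Cone (diag F hF) where
  pt := (sup F).sheaf
  π :=
    { app := fun i => trans (le_sup F i.unop)
      naturality := fun i j f => by
        change 𝟙 _ ≫ trans (le_sup F j.unop) = trans (le_sup F i.unop) ≫ trans (hF (leOfHom f.unop))
        rw [← cancel_mono (F j.unop).ι, Category.id_comp, Category.assoc, trans_ι, trans_ι, trans_ι] }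

theorem isLimit [Nonempty ι] [IsDirected ι (· ≤ ·)] : Nonempty (IsLimit (cone F hF)) := by
  have key : ∀ s : Cone (diag F hF), ∃ l : s.pt ⟶ (sup F).sheaf,
      ∀ i : ι, l ≫ trans (le_sup F i) = (s.π.app (op i) : s.pt ⟶ (F i).sheaf) := by
    intro s
    obtain ⟨i₀⟩ := ‹Nonempty ι›
    let π : ∀ i : ι, s.pt ⟶ (F i).sheaf := fun i => s.π.app (op i)
    have hπ : ∀ (i k : ι) (h : i ≤ k), π i = π k ≫ trans (hF h) := fun i k h => (s.w (homOfLE h).op).symm
    have h1 : ∀ i, π i ≫ (F i).ι = π i₀ ≫ (F i₀).ι := by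
      intro i
      obtain ⟨k, hk1, hk2⟩ := exists_ge_ge i i₀
      rw [hπ i k hk1, hπ i₀ k hk2, Category.assoc, Category.assoc, trans_ι, trans_ι]
    obtain ⟨l, hl⟩ := ((sup F).factors_iff' (π i₀ ≫ (F i₀).ι)).2 fun T g => by
      change SupSet.sSup {I | ∃ A : Fam Y, (∃ i, F i = A) ∧ A.I (g ≫ π i₀ ≫ (F i₀).ι) = I} = ⊥
      rw [sSup_eq_bot]
      rintro _ ⟨_, ⟨i, rfl⟩, rfl⟩
      rw [← h1 i]
      exact ((F i).factors_yon_iff' _).1 ⟨g ≫ π i, by rw [Category.assoc]⟩
    refine ⟨l, fun i => ?_⟩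
    change l ≫ trans (le_sup F i) = π i
    rw [← cancel_mono (F i).ι, Category.assoc, trans_ι, hl]
    exact (h1 i).symm
  choose l hl using key
  refine ⟨IsLimit.mk l (fun s i => hl s i.unop) fun s m hm => ?_⟩
  obtain ⟨i₀⟩ := ‹Nonempty ι›
  have h1 : ∀ m' : s.pt ⟶ (sup F).sheaf, m' ≫ trans (le_sup F i₀) = l s ≫ trans (le_sup F i₀) → m' = l s := by
    intro m' h
    have h2 := congrArg (· ≫ (F i₀).ι) h
    simp only [Category.assoc, trans_ι] at h2
    exact (cancel_mono (sup F).ι).1 h2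
  refine h1 m ?_
  rw [hl]
  exact hm (op i₀)

end

/-- **Zorn's lemma for closed subspaces.** -/
theorem exists_maximal {W : Over S} {p : (yon S).obj W ⟶ Y} (hp : RepWith @Etale p) (hp' : RepWith @Surjective p)
    (P : Sp S → Prop) (hP : ∀ {F G : Sp S}, (F ≅ G) → P F → P G)
    (hlim : ∀ {I : Type u} [SmallCategory I] [IsCofiltered I] (D : I ⥤ Sp S)
      (_ : ∀ i, ∃ k : D.obj i ⟶ Y, RepWith @IsClosedImmersion k)
      (_ : ∀ (i j : I) (φ : i ⟶ j), RepWith @IsClosedImmersion (D.map φ))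
      (c : Cone D) (_ : IsLimit c), P c.pt → ∃ i, P (D.obj i)) (hY : ¬ P Y) :
    ∃ A : Fam Y, ¬ P A.sheaf ∧ ∀ B : Fam Y, A ≤ B → A ≠ B → P B.sheaf := by
  have hch := ChartFam.single hp hp'
  let bot : Fam Y := ⟨fun _ => ⊥, fun φ g => by rw [Scheme.IdealSheafData.comap_bot]⟩
  have hbot : ¬ P bot.sheaf := by
    intro h
    obtain ⟨k, hk⟩ := (bot.factors_iff' (𝟙 Y)).2 fun T g => rfl
    have hiso : IsIso bot.ι := ⟨k, by rw [← cancel_mono bot.ι, Category.assoc, hk, Category.id_comp,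
      Category.comp_id], hk⟩
    exact hY (hP (asIso bot.ι) h)
  have hz : ∀ c ⊆ {A : Fam Y | ¬ P A.sheaf}, IsChain (· ≤ ·) c → ∀ y ∈ c,
      ∃ ub ∈ {A : Fam Y | ¬ P A.sheaf}, ∀ z ∈ c, z ≤ ub := by
    intro c hc hchain y hy
    let ι : Type u := {K : W.left.IdealSheafData // ∃ A ∈ c, A.I p = K}
    choose F hFc hFI using fun K : ι => K.2
    have hFle : ∀ {A B : Fam Y}, A.I p ≤ B.I p → A ≤ B := fun h => hch.le_of_le fun _ => h
    have hmono : Monotone F := fun K L hKL => hFle (by rw [hFI, hFI]; exact hKL)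
    have : Nonempty ι := ⟨⟨y.I p, y, hy, rfl⟩⟩
    have : IsDirected ι (· ≤ ·) := ⟨fun K L => by
      rcases hchain.total (hFc K) (hFc L) with h | h
      · exact ⟨L, by have := h W p; rwa [hFI, hFI] at this, le_rfl⟩
      · exact ⟨K, le_rfl, by have := h W p; rwa [hFI, hFI] at this⟩⟩
    obtain ⟨hlimc⟩ := isLimit F hmono
    refine ⟨sup F, fun h => ?_, fun z hz => ?_⟩
    · obtain ⟨i, hi⟩ := hlim (diag F hmono) (fun i => ⟨(F i.unop).ι, (F i.unop).repWith_ι⟩)
        (fun i j φ => repWith_trans (hmono (leOfHom φ.unop))) (cone F hmono) hlimc h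
      exact hc (hFc i.unop) hi
    · have h1 : z ≤ F ⟨z.I p, z, hz, rfl⟩ := hFle (by rw [hFI])
      exact h1.trans (le_sup F _)
  obtain ⟨A, -, hA⟩ := zorn_le_nonempty₀ {A : Fam Y | ¬ P A.sheaf} hz bot hbot
  refine ⟨A, hA.prop, fun B hAB hne => ?_⟩
  by_contra hB
  exact hne (le_antisymm hAB (hA.le_of_ge hB hAB))

end K603.ClChain
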