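import Groth.Agent.AlgSp.K603.ClChain

/-!
# Minimal closed subspaces without a property
-/

set_option autoImplicit false
universe u
open CategoryTheory CategoryTheory.Limits AlgebraicGeometry Opposite
open AlgSp K598.ClFam K598.Charts K598.RepKit

namespace K603.ClChain

variable {S : Scheme.{u}} {Y : Sp S}

/-- There is a closed subspace minimal among those without `P`. -/
theorem exists_minimal {W : Over S} {p : (yon S).obj W ⟶ Y} (hp : RepWith @Etale p) (hp' : RepWith @Surjective p)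
    (P : Sp S → Prop) (hP : ∀ {F G : Sp S}, (F ≅ G) → P F → P G)
    (hlim : ∀ {I : Type u} [SmallCategory I] [IsCofiltered I] (D : I ⥤ Sp S)
      (_ : ∀ i, ∃ k : D.obj i ⟶ Y, RepWith @IsClosedImmersion k)
      (_ : ∀ (i j : I) (φ : i ⟶ j), RepWith @IsClosedImmersion (D.map φ))
      (c : Cone D) (_ : IsLimit c), P c.pt → ∃ i, P (D.obj i)) (hY : ¬ P Y) :
    ∃ (Z : Sp S) (i : Z ⟶ Y), RepWith @IsClosedImmersion i ∧ ¬ P Z ∧
      ∀ (Z' : Sp S) (i' : Z' ⟶ Z), RepWith @IsClosedImmersion i' → ¬ IsIso i' → P Z' := by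
  obtain ⟨A, hA, hmin⟩ := exists_maximal hp hp' P hP hlim hY
  refine ⟨A.sheaf, A.ι, A.repWith_ι, hA, fun Z' i' hi' hniso => ?_⟩
  have hc : RepWith @IsClosedImmersion (i' ≫ A.ι) := (RepWith @IsClosedImmersion).comp_mem _ _ hi' A.repWith_ι
  let B := ofClosed (i' ≫ A.ι) hc
  have h1 : A ≤ B := by
    have := (exists_hom_iff_le hc A.repWith_ι).1 ⟨i', rfl⟩
    rwa [ofClosed_ι] at this
  have h2 : A ≠ B := by
    intro h
    apply hniso
    obtain ⟨e, he, -⟩ := exists_iso_of_eq hc A.repWith_ι (by rw [ofClosed_ι]; exact h.symm)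
    have : e.hom = i' := (cancel_mono A.ι).1 he
    rw [← this]
    infer_instance
  obtain ⟨e, -, -⟩ := exists_iso_of_eq hc B.repWith_ι (by rw [ofClosed_ι])
  exact hP e.symm (hmin B h1 h2)

end K603.ClChain
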