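import Groth.Agent.AlgSp.K603.Eff
import Groth.Agent.AlgSp.K610.Coeq
import Groth.Agent.AlgSp.K613.Cover
import Groth.Agent.AlgSp.K598.Charts
import Groth.Agent.AlgSp.K609.Sep
import Groth.Agent.Divis.IdealComap
import Mathlib.AlgebraicGeometry.Morphisms.LocalFlatDescent

/-!
# Affine charts with affine relations, and effective pairs of ring maps
-/

set_option autoImplicit false
universe u
open CategoryTheory CategoryTheory.Limits AlgebraicGeometry Opposite
open AlgSp

namespace K603.Dict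

open K603.Eff

variable {S : Scheme.{u}}

/-- An affine chart of `Y` with affine relation scheme. -/
structure Pres (Y : Sp S) {W R : Over S} (s t : R ⟶ W) (p : (yon S).obj W ⟶ Y) : Prop where
  aW : IsAffine W.left
  aR : IsAffine R.left
  et : RepWith @Etale p
  surj : RepWith @Surjective p
  pb : IsPullback ((yon S).map s) ((yon S).map t) p p

/-- The functor of functions. -/
noncomputable abbrev Γf {R W : Over S} (s : R ⟶ W) : Γ(W.left, ⊤) ⟶ Γ(R.left, ⊤) := s.left.appTop

namespace Pres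

variable {Y : Sp S} {W R : Over S} {s t : R ⟶ W} {p : (yon S).obj W ⟶ Y}

theorem etale_s (h : Pres Y s t p) : Etale s.left :=
  (repWith_yon_map_iff @Etale s).1 (MorphismProperty.of_isPullback h.pb.flip h.et)

theorem etale_t (h : Pres Y s t p) : Etale t.left :=
  (repWith_yon_map_iff @Etale t).1 (MorphismProperty.of_isPullback h.pb h.et)

theorem surj_s (h : Pres Y s t p) : Surjective s.left :=
  (repWith_yon_map_iff @Surjective s).1 (MorphismProperty.of_isPullback h.pb.flip h.surj)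

theorem surj_t (h : Pres Y s t p) : Surjective t.left :=
  (repWith_yon_map_iff @Surjective t).1 (MorphismProperty.of_isPullback h.pb h.surj)

theorem ff_s (h : Pres Y s t p) : (Γf s).hom.FaithfullyFlat := by
  have := h.aW
  have := h.aR
  have := h.etale_s
  have := h.surj_s
  exact (Flat.flat_and_surjective_iff_faithfullyFlat_of_isAffine s.left).1 ⟨inferInstance, inferInstance⟩

theorem ff_t (h : Pres Y s t p) : (Γf t).hom.FaithfullyFlat := by
  have := h.aW
  have := h.aR
  have := h.etale_t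
  have := h.surj_t
  exact (Flat.flat_and_surjective_iff_faithfullyFlat_of_isAffine t.left).1 ⟨inferInstance, inferInstance⟩

theorem fSurj (h : Pres Y s t p) : K613.Cover.FSurj p :=
  K613.Cover.FSurj.of_repWith (K598.Charts.repWith_flat_of_etale h.et) (K598.Charts.repWith_lfp_of_etale h.et) h.surj

/-- The triple overlap. -/
theorem exists_triple (h : Pres Y s t p) : ∃ (E : CommRingCat.{u}) (inl inr d1 : Γ(R.left, ⊤) ⟶ E),
    IsPushout (Γf t) (Γf s) inl inr ∧ Γf s ≫ d1 = Γf s ≫ inl ∧ Γf t ≫ d1 = Γf t ≫ inr := by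
  have := h.aW
  have := h.aR
  let R2 : Over S := pullback t s
  let p₁ : R2 ⟶ R := pullback.fst t s
  let p₂ : R2 ⟶ R := pullback.snd t s
  have hsq : IsPullback p₁ p₂ t s := IsPullback.of_hasPullback t s
  obtain ⟨m, hm⟩ := (yon S).map_surjective (h.pb.lift ((yon S).map (p₁ ≫ s)) ((yon S).map (p₂ ≫ t)) (by
    rw [Functor.map_comp, Functor.map_comp, Category.assoc, Category.assoc, h.pb.w, ← h.pb.w, ← Category.assoc,
      ← Category.assoc, ← Functor.map_comp, ← Functor.map_comp, ← hsq.w, Functor.map_comp, Functor.map_comp,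
      Category.assoc, Category.assoc, h.pb.w]))
  have hm1 : m ≫ s = p₁ ≫ s := (yon S).map_injective (by
    rw [Functor.map_comp, hm]; exact h.pb.lift_fst _ _ _)
  have hm2 : m ≫ t = p₂ ≫ t := (yon S).map_injective (by
    rw [Functor.map_comp, hm]; exact h.pb.lift_snd _ _ _)
  have hsq' := hsq.map (Over.forget S)
  refine ⟨Γ(R2.left, ⊤), Γf p₁, Γf p₂, Γf m, isPushout_appTop_of_isPullback hsq', ?_, ?_⟩
  · have e1 : (m ≫ s).left = (p₁ ≫ s).left := by rw [hm1]
    rw [Over.comp_left, Over.comp_left] at e1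
    have e2 := congrArg Scheme.Hom.appTop e1
    rw [Scheme.Hom.comp_appTop, Scheme.Hom.comp_appTop] at e2
    exact e2
  · have e1 : (m ≫ t).left = (p₂ ≫ t).left := by rw [hm2]
    rw [Over.comp_left, Over.comp_left] at e1
    have e2 := congrArg Scheme.Hom.appTop e1
    rw [Scheme.Hom.comp_appTop, Scheme.Hom.comp_appTop] at e2
    exact e2

end Pres

/-- An affine quotient makes the pair effective. -/
theorem hasQuot_of_iso {Y : Sp S} {W R : Over S} {s t : R ⟶ W} {p : (yon S).obj W ⟶ Y} (h : Pres Y s t p)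
    {T : Over S} (hT : IsAffine T.left) (e : (yon S).obj T ≅ Y) : HasQuot (Γf s) (Γf t) := by
  have := h.aW
  have := h.aR
  obtain ⟨q, hq⟩ := (yon S).map_surjective (p ≫ e.inv)
  have hqe : (yon S).map q ≫ e.hom = p := by rw [hq, Category.assoc, e.inv_hom_id, Category.comp_id]
  have h1 : Etale q.left := K610.Coeq.prop_of_comp_iso e hqe h.et
  have h2 : Surjective q.left := K610.Coeq.prop_of_comp_iso e hqe h.surj
  have h3 : IsPullback ((yon S).map s) ((yon S).map t) ((yon S).map q) ((yon S).map q) := by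
    rw [hq]
    exact IsPullback.of_iso h.pb (Iso.refl _) (Iso.refl _) (Iso.refl _) e.symm (by simp) (by simp) (by simp) (by simp)
  have h4 : IsPullback s t q q := IsPullback.of_map (yon S) ((yon S).map_injective (by
    rw [Functor.map_comp, Functor.map_comp, h3.w])) h3
  have h5 := h4.map (Over.forget S)
  exact ⟨_, Γf q, (Flat.flat_and_surjective_iff_faithfullyFlat_of_isAffine q.left).1 ⟨inferInstance, inferInstance⟩,
    isPushout_appTop_of_isPullback h5⟩

/-- An effective pair gives an affine quotient. -/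
theorem exists_iso_of_hasQuot [IsAffine S] {Y : Sp S} {W R : Over S} {s t : R ⟶ W} {p : (yon S).obj W ⟶ Y}
    (h : Pres Y s t p) (hq : HasQuot (Γf s) (Γf t)) :
    ∃ T : Over S, IsAffine T.left ∧ Nonempty ((yon S).obj T ≅ Y) := by
  have := h.aW
  have := h.aR
  obtain ⟨A, q, hq⟩ := hq
  obtain ⟨σ, hσ⟩ := hq.exists_lift W.hom.appTop (by
    rw [← Scheme.Hom.comp_appTop, ← Scheme.Hom.comp_appTop, Over.w, Over.w])
  let T : Over S := Over.mk (Spec.map σ ≫ S.isoSpec.inv)
  let π : W ⟶ T := Over.homMk (W.left.isoSpec.hom ≫ Spec.map q) (by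
    change (W.left.isoSpec.hom ≫ Spec.map q) ≫ Spec.map σ ≫ S.isoSpec.inv = W.hom
    rw [Category.assoc, ← Category.assoc (Spec.map q), ← Spec.map_comp, hσ, ← Category.assoc,
      Scheme.isoSpec_hom_naturality, Category.assoc, Iso.hom_inv_id, Category.comp_id])
  have h1 : IsPullback s.left t.left π.left π.left := by
    have h2 := isPullback_SpecMap_of_isPushout _ _ _ _ hq.po
    refine IsPullback.of_iso h2 R.left.isoSpec.symm W.left.isoSpec.symm W.left.isoSpec.symm (Iso.refl _) ?_ ?_ ?_ ?_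
    · exact (Scheme.isoSpec_inv_naturality s.left)
    · exact (Scheme.isoSpec_inv_naturality t.left)
    · simp [π]
    · simp [π]
  have hfs : Flat (Spec.map q) ∧ Surjective (Spec.map q) := flat_and_surjective_SpecMap_iff q |>.2 hq.ff
  have h2 : Flat π.left := by
    have := hfs.1
    change Flat (W.left.isoSpec.hom ≫ Spec.map q)
    infer_instance
  have h3 : Surjective π.left := by
    have := hfs.2
    change Surjective (W.left.isoSpec.hom ≫ Spec.map q)
    infer_instance
  have h4 : QuasiCompact π.left := by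
    change QuasiCompact (W.left.isoSpec.hom ≫ Spec.map q)
    infer_instance
  have h5 : LocallyOfFinitePresentation π.left := by
    have := h.etale_s
    exact MorphismProperty.of_isPullback_of_descendsAlong (P := @LocallyOfFinitePresentation)
      (Q := @Surjective ⊓ @Flat ⊓ @QuasiCompact) h1 ⟨⟨h3, h2⟩, h4⟩ (inferInstance : LocallyOfFinitePresentation s.left)
  have h6 : K613.Cover.FSurj ((yon S).map π) :=
    K613.Cover.FSurj.of_repWith ((repWith_yon_map_iff _ _).2 h2) ((repWith_yon_map_iff _ _).2 h5)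
      ((repWith_yon_map_iff _ _).2 h3)
  obtain ⟨e, he⟩ := K610.Coeq.exists_iso h.fSurj h6 h.pb (K610.Coeq.isPullback_yon h1)
  exact ⟨T, (inferInstance : IsAffine (Spec A)), ⟨e⟩⟩

/-- Base change of a kernel pair. -/
theorem exists_kp_lift {C : Type*} [Category C] {X X' U U' R R' : C} {φ : X' ⟶ X} {p : U ⟶ X} {p' : U' ⟶ X'}
    {u : U' ⟶ U} (sq : IsPullback p' u φ p) {r₁ r₂ : R ⟶ U} (hR : IsPullback r₁ r₂ p p) {r₁' r₂' : R' ⟶ U'}
    (hR' : IsPullback r₁' r₂' p' p') :
    ∃ ρ : R' ⟶ R, ρ ≫ r₁ = r₁' ≫ u ∧ ρ ≫ r₂ = r₂' ≫ u ∧ IsPullback r₁' ρ u r₁ ∧ IsPullback r₂' ρ u r₂ := by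
  have hw : (r₁' ≫ u) ≫ p = (r₂' ≫ u) ≫ p := by
    rw [Category.assoc, Category.assoc, ← sq.w, ← Category.assoc, ← Category.assoc, hR'.w]
  refine ⟨hR.lift _ _ hw, hR.lift_fst _ _ _, hR.lift_snd _ _ _, ?_, ?_⟩
  · refine (IsPullback.of_right (h₁₂ := r₂) (h₂₂ := p) (v₁₃ := p) ?_ (hR.lift_fst _ _ _) hR.flip).flip
    rw [hR.lift_snd, ← sq.w]
    exact hR'.flip.paste_horiz sq.flip
  · refine (IsPullback.of_right (h₁₂ := r₁) (h₂₂ := p) (v₁₃ := p) ?_ (hR.lift_snd _ _ _) hR).flip
    rw [hR.lift_fst, ← sq.w]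
    exact hR'.paste_horiz sq.flip

theorem exists_kp_lift_yon {X X' : Sp S} {U U' R R' : Over S} {φ : X' ⟶ X} {p : (yon S).obj U ⟶ X}
    {p' : (yon S).obj U' ⟶ X'} {u : U' ⟶ U} (sq : IsPullback p' ((yon S).map u) φ p) {r₁ r₂ : R ⟶ U}
    (hR : IsPullback ((yon S).map r₁) ((yon S).map r₂) p p) {r₁' r₂' : R' ⟶ U'}
    (hR' : IsPullback ((yon S).map r₁') ((yon S).map r₂') p' p') :
    ∃ ρ : R' ⟶ R, IsPullback r₁' ρ u r₁ ∧ IsPullback r₂' ρ u r₂ := by
  obtain ⟨ρ', h1, h2, h3, h4⟩ := exists_kp_lift sq hR hR'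
  obtain ⟨ρ, rfl⟩ := (yon S).map_surjective ρ'
  exact ⟨ρ, IsPullback.of_map_of_faithful (yon S) h3, IsPullback.of_map_of_faithful (yon S) h4⟩

/-- Closed subspaces have presentations by closed sub-pairs. -/
theorem Pres.exists_sub {Y : Sp S} {W R : Over S} {s t : R ⟶ W} {p : (yon S).obj W ⟶ Y} (h : Pres Y s t p)
    (hY : IsAlgSpace Y) {Z : Sp S} {i : Z ⟶ Y} (hi : RepWith @IsClosedImmersion i) :
    ∃ (W₀ R₀ : Over S) (s₀ t₀ : R₀ ⟶ W₀) (p₀ : (yon S).obj W₀ ⟶ Z) (w : W₀ ⟶ W) (ρ : R₀ ⟶ R),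
      Pres Z s₀ t₀ p₀ ∧ IsPullback p₀ ((yon S).map w) i p ∧
        Sub (Γf s) (Γf t) (Γf w) (Γf ρ) (Γf s₀) (Γf t₀) := by
  have := h.aW
  have := h.aR
  obtain ⟨W₀, w, p₀, sq⟩ := hi.1 p
  have hw : IsClosedImmersion w.left := hi.2 _ _ _ sq
  have hZ : IsAlgSpace Z := K598.RepKit.isAlgSpace_of_repWith_isClosedImmersion hi hY
  obtain ⟨R₀, s₀, t₀, hR₀⟩ := K609.Sep.exists_isPullback_yon hZ.diag p₀ p₀
  obtain ⟨ρ, h1, h2⟩ := exists_kp_lift_yon sq h.pb hR₀
  have h1' : IsPullback s₀.left ρ.left w.left s.left := h1.map (Over.forget S)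
  have h2' : IsPullback t₀.left ρ.left w.left t.left := h2.map (Over.forget S)
  have hρ : IsClosedImmersion ρ.left := MorphismProperty.of_isPullback (P := @IsClosedImmersion) h1' hw
  obtain ⟨hW₀, hws⟩ := IsClosedImmersion.isAffine_surjective_of_isAffine w.left
  obtain ⟨hR₀', -⟩ := IsClosedImmersion.isAffine_surjective_of_isAffine ρ.left
  refine ⟨W₀, R₀, s₀, t₀, p₀, w, ρ, ⟨hW₀, hR₀', MorphismProperty.of_isPullback sq.flip h.et,
    MorphismProperty.of_isPullback sq.flip h.surj, hR₀⟩, sq, hws, ?_, ?_⟩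
  · exact (isPushout_appTop_of_isPullback h1').flip
  · exact (isPushout_appTop_of_isPullback h2').flip

/-- The closed subspace of an invariant ideal. -/
theorem Pres.exists_fam {Y : Sp S} {W R : Over S} {s t : R ⟶ W} {p : (yon S).obj W ⟶ Y} (h : Pres Y s t p)
    (J : Ideal Γ(W.left, ⊤)) (hJ : Inv (Γf s) (Γf t) J) :
    ∃ A : K598.ClFam.Fam Y, A.I p = Scheme.IdealSheafData.ofIdealTop J := by
  have := h.aW
  have := h.aR
  have h0 : ∀ (f : R ⟶ W), ((Scheme.IdealSheafData.ofIdealTop J).comap f.left).ideal ⟨⊤, isAffineOpen_top _⟩ =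
      J.map (Γf f).hom := by
    intro f
    rw [Groth.Agent.Divis.IdealComap.ideal_comap_top]
    congr 1
    simp
  obtain ⟨A, hA⟩ := (K598.Charts.ChartFam.single h.et h.surj).exists_fam
    (fun _ => Scheme.IdealSheafData.ofIdealTop J) (by
      intro _ _ R' a b hab
      obtain ⟨r, hr⟩ := (yon S).map_surjective (h.pb.lift _ _ hab)
      have e1 : r ≫ s = a := (yon S).map_injective (by
        rw [Functor.map_comp, hr]; exact h.pb.lift_fst _ _ _)
      have e2 : r ≫ t = b := (yon S).map_injective (by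
        rw [Functor.map_comp, hr]; exact h.pb.lift_snd _ _ _)
      rw [← e1, ← e2, Over.comp_left, Over.comp_left, Scheme.IdealSheafData.comap_comp,
        Scheme.IdealSheafData.comap_comp]
      congr 1
      apply Scheme.IdealSheafData.ext_of_isAffine
      rw [h0, h0]
      exact hJ)
  exact ⟨A, hA PUnit.unit⟩

end K603.Dict
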