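import Groth.Agent.AlgSp.K603.Eff
import Mathlib.RingTheory.Finiteness.Basic
import Mathlib.LinearAlgebra.Span.Basic
import Mathlib.RingTheory.TensorProduct.Maps

/-!
# Finite generation of the cover by descended elements
-/

set_option autoImplicit false
universe u
open CategoryTheory TensorProduct

namespace K603.Gen

variable {AX B BX : CommRingCat.{u}}

theorem exists_finite_gen (fB : B ⟶ BX) (qX : AX ⟶ BX) (hfin : fB.hom.Finite)
    (hsurj : Function.Surjective (Algebra.TensorProduct.productMap qX.hom.toIntAlgHom fB.hom.toIntAlgHom)) :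
    ∃ (κ : Type u) (_ : Fintype κ) (x : κ → AX), ∀ y : BX, ∃ b : κ → B, y = ∑ j, fB (b j) * qX (x j) := by
  classical
  let aB : Algebra B BX := fB.hom.toAlgebra
  have hfin' : Module.Finite B BX := hfin
  have h1 : ∀ y : BX, y ∈ Submodule.span B (Set.range qX) := by
    intro y
    obtain ⟨z, rfl⟩ := hsurj y
    induction z using TensorProduct.induction_on with
    | zero => rw [map_zero]; exact zero_mem _
    | add a b ha hb => rw [map_add]; exact add_mem ha hb
    | tmul a b =>
      rw [Algebra.TensorProduct.productMap_apply_tmul]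
      have : qX.hom a * fB.hom b = b • (qX a : BX) := by
        rw [mul_comm]; rfl
      change qX.hom a * fB.hom b ∈ _
      rw [this]
      exact Submodule.smul_mem _ _ (Submodule.subset_span ⟨a, rfl⟩)
  obtain ⟨G, hG⟩ := hfin'.1
  have h2 : ∀ y : BX, ∃ F : Finset AX, y ∈ Submodule.span B (qX '' (F : Set AX)) := by
    intro y
    obtain ⟨T, hT, hy⟩ := Submodule.mem_span_finite_of_mem_span (h1 y)
    choose g hg using fun t : T => hT t.2
    refine ⟨Finset.univ.image g, Submodule.span_mono ?_ hy⟩
    intro t ht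
    exact ⟨g ⟨t, ht⟩, by simp, hg ⟨t, ht⟩⟩
  choose F hF using h2
  let F' : Finset AX := G.biUnion F
  refine ⟨F', inferInstance, fun j => j.1, fun y => ?_⟩
  have h3 : (⊤ : Submodule B BX) ≤ Submodule.span B (Set.range fun j : F' => qX j.1) := by
    rw [← hG, Submodule.span_le]
    intro y hy
    refine Submodule.span_mono ?_ (hF y)
    rintro _ ⟨a, ha, rfl⟩
    exact ⟨⟨a, Finset.mem_biUnion.2 ⟨y, hy, ha⟩⟩, rfl⟩
  obtain ⟨c, hc⟩ := (Submodule.mem_span_range_iff_exists_fun B).1 (h3 (Submodule.mem_top (x := y)))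
  exact ⟨c, hc.symm⟩

end K603.Gen
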