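import Groth.Agent.AlgSp.K603.Step
import Groth.Agent.AlgSp.K603.Dict
import Groth.Agent.AlgSp.K603.Gen
import Groth.Agent.AlgSp.K603.ClMin
import Groth.Agent.AlgSp.K608.SepAbs
import Groth.Agent.AlgSp.K647.QcIdl
import Groth.Agent.AlgSp.K596.QC
import Groth.Agent.S10006

/-!
# Chevalley's theorem for a finite surjective morphism from an affine scheme to a separated algebraic space
-/

set_option autoImplicit false
universe u
open CategoryTheory CategoryTheory.Limits AlgebraicGeometry Opposite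
open AlgSp

namespace K603.Chev

open K603.Eff K603.Dict

variable {S : Scheme.{u}}

/-- affine schemes -/
def Aff (Y : Sp S) : Prop := ∃ T : Over S, IsAffine T.left ∧ Nonempty ((yon S).obj T ≅ Y)

theorem Aff.of_iso {Y Z : Sp S} (e : Y ≅ Z) (h : Aff Y) : Aff Z := by
  obtain ⟨T, hT, ⟨e'⟩⟩ := h
  exact ⟨T, hT, ⟨e' ≪≫ e⟩⟩

theorem isNilpotent_of_surjective {X Y : Scheme.{u}} [IsAffine X] [IsAffine Y] (f : X ⟶ Y) [Surjective f]
    (b : Γ(Y, ⊤)) (h : f.appTop b = 0) : IsNilpotent b := by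
  rw [Scheme.isNilpotent_iff_basicOpen_eq_bot]
  have h1 : f ⁻¹ᵁ (Y.basicOpen b) = X.basicOpen (f.appTop b) := Scheme.preimage_basicOpen f b
  rw [h, Scheme.basicOpen_zero] at h1
  ext y
  constructor
  · intro hy
    obtain ⟨x, rfl⟩ := f.surjective y
    have : x ∈ f ⁻¹ᵁ (Y.basicOpen b) := hy
    rw [h1] at this
    exact this
  · intro hy; exact absurd hy (fun h => h)

/-- Invariant ideals of the chart are unions of invariant ideals of finite type. -/
theorem exists_ext {Y : Sp S} (hQC : K647.QcIdl.QC Y) {W R : Over S} {s t : R ⟶ W} {p : (yon S).obj W ⟶ Y}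
    (h : Pres Y s t p) (K : Ideal Γ(W.left, ⊤)) (hK : Inv (Γf s) (Γf t) K) (b : Γ(W.left, ⊤)) (hb : b ∈ K) :
    ∃ J : Ideal Γ(W.left, ⊤), Inv (Γf s) (Γf t) J ∧ J.FG ∧ b ∈ J ∧ J ≤ K := by
  have := h.aW
  have := h.aR
  obtain ⟨A, hA⟩ := h.exists_fam K hK
  have h1 : ∀ I : Ideal Γ(W.left, ⊤), (Scheme.IdealSheafData.ofIdealTop I).ideal ⟨⊤, isAffineOpen_top _⟩ = I :=
    fun I => by simp
  obtain ⟨B, hBA, hFT, hKB⟩ := hQC A W p (Scheme.IdealSheafData.ofIdealTop (Ideal.span {b})) (by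
      intro U
      rw [Scheme.IdealSheafData.ofIdealTop_ideal, Ideal.map_span, Set.image_singleton]
      exact ⟨{_}, by simp; rfl⟩) (by
      rw [hA]
      apply Scheme.IdealSheafData.le_of_isAffine
      rw [h1, h1]
      rw [Ideal.span_singleton_le_iff_mem]
      exact hb)
  refine ⟨(B.I p).ideal ⟨⊤, isAffineOpen_top _⟩, ?_, hFT p _, ?_, ?_⟩
  · unfold K603.Eff.Inv
    rw [← Groth.Agent.Divis.IdealComap.ideal_comap_top, ← Groth.Agent.Divis.IdealComap.ideal_comap_top,
      ← B.comap, ← B.comap, h.pb.w]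
  · have h2 := hKB ⟨⊤, isAffineOpen_top _⟩
    rw [h1] at h2
    exact h2 (Ideal.mem_span_singleton_self b)
  · have h2 := hBA W p ⟨⊤, isAffineOpen_top _⟩
    rw [hA, h1] at h2
    exact h2

theorem isSeparatedSp_of_mono {X Z : Sp S} (hsep : IsSeparatedSp X) (i : Z ⟶ X) [Mono i] : IsSeparatedSp Z := by
  have sq : IsPullback i (Limits.diag Z) (Limits.diag X) (prod.map i i) := by
    refine K608.Gpd.isPullback_of_exists_unique ?_ ?_ ?_
    · apply Limits.prod.hom_ext <;> simp
    · intro T a b h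
      have h1 : a = (b ≫ prod.fst) ≫ i := by
        have := congrArg (· ≫ prod.fst) h
        simpa [prod.lift_fst] using this
      have h2 : a = (b ≫ prod.snd) ≫ i := by
        have := congrArg (· ≫ prod.snd) h
        simpa [prod.lift_snd] using this
      have h3 : b ≫ prod.fst = b ≫ prod.snd := by rw [← cancel_mono i, ← h1, ← h2]
      refine ⟨b ≫ prod.fst, h1.symm, ?_⟩
      apply Limits.prod.hom_ext
      · rw [Category.assoc, prod.lift_fst, Category.comp_id]
      · rw [Category.assoc, prod.lift_snd, Category.comp_id, h3]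
    · intro T l l' h1 _
      exact (cancel_mono i).1 h1
  exact MorphismProperty.of_isPullback (P := RepWith @IsClosedImmersion) sq hsep

theorem isQuasiSeparatedSp_of_isSeparatedSp {X : Sp S} (h : IsSeparatedSp X) : IsQuasiSeparatedSp X :=
  K598.RepKit.repWith_mono (fun _ _ f (_ : IsClosedImmersion f) => (inferInstance : QuasiCompact f)) h

/-- the data on a chart -/
theorem hasQuot_of_minimal [IsAffine S] {Z : Sp S} (hZ : IsAlgSpace Z) (hZs : IsSeparatedSp Z)
    (hQC : K647.QcIdl.QC Z) {T : Over S} (hT : IsAffine T.left) (f : (yon S).obj T ⟶ Z) (hf : RepWith @IsFinite f)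
    (hfs : RepWith @Surjective f)
    (hmin : ∀ (Z' : Sp S) (i' : Z' ⟶ Z), RepWith @IsClosedImmersion i' → ¬ IsIso i' → Aff Z')
    {W : Over S} {p : (yon S).obj W ⟶ Z} (hW : IsAffine W.left) (hp : RepWith @Etale p)
    (hp' : RepWith @Surjective p) : Aff Z := by
  obtain ⟨R, s, t, hR⟩ := K609.Sep.exists_isPullback_yon hZ.diag p p
  obtain ⟨hRa, -⟩ := K609.Sep.affine_pullback hZs hR
  have pres : Pres Z s t p := ⟨hW, hRa, hp, hp', hR⟩
  obtain ⟨X₁, a, b, sq⟩ := K609.Sep.exists_isPullback_yon hZ.diag f p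
  obtain ⟨hX₁, hsurj⟩ := K609.Sep.affine_pullback hZs sq
  have ha : Etale a.left := (repWith_yon_map_iff @Etale a).1 (MorphismProperty.of_isPullback sq.flip hp)
  have has : Surjective a.left := (repWith_yon_map_iff @Surjective a).1 (MorphismProperty.of_isPullback sq.flip hp')
  have hb : IsFinite b.left := (repWith_yon_map_iff @IsFinite b).1 (MorphismProperty.of_isPullback sq hf)
  have hbs : Surjective b.left := (repWith_yon_map_iff @Surjective b).1 (MorphismProperty.of_isPullback sq hfs)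
  let X₂ : Over S := pullback a a
  let s₁ : X₂ ⟶ X₁ := pullback.fst a a
  let t₁ : X₂ ⟶ X₁ := pullback.snd a a
  have hX₂ : IsPullback s₁ t₁ a a := IsPullback.of_hasPullback a a
  obtain ⟨ρ, h1, h2⟩ := exists_kp_lift_yon sq hR (hX₂.map (yon S))
  have hX₂' : IsPullback s₁.left t₁.left a.left a.left := hX₂.map (Over.forget S)
  have h1' : IsPullback s₁.left ρ.left b.left s.left := h1.map (Over.forget S)
  have h2' : IsPullback t₁.left ρ.left b.left t.left := h2.map (Over.forget S)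
  have hE : IsEff (Γf a) (Γf s₁) (Γf t₁) :=
    ⟨(Flat.flat_and_surjective_iff_faithfullyFlat_of_isAffine a.left).1 ⟨inferInstance, inferInstance⟩,
      isPushout_appTop_of_isPullback hX₂'⟩
  have hbfin : (Γf b).hom.Finite := ((HasAffineProperty.iff_of_isAffine (P := @IsFinite) (f := b.left)).1 hb).2
  obtain ⟨κ, _, x, hgen⟩ := K603.Gen.exists_finite_gen (Γf b) (Γf a) hbfin hsurj
  obtain ⟨E, inl, inr, d1, hEp, e1, e2⟩ := pres.exists_triple
  refine exists_iso_of_hasQuot pres (K603.Step.hasQuot_of_minimal (isPushout_appTop_of_isPullback h1').flip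
    (isPushout_appTop_of_isPullback h2').flip hE pres.ff_s pres.ff_t.flat hEp e1 e2 x hgen
    (fun c hc => isNilpotent_of_surjective b.left c hc) ?_ (fun K hK c hc => exists_ext hQC pres K hK c hc))
  intro J hJ hJ0 B0 C0 χ γ s0 t0 sub hk
  obtain ⟨A, hA⟩ := pres.exists_fam J hJ
  have hniso : ¬ IsIso A.ι := by
    intro hiso
    apply hJ0
    have h3 : A.I p = ⊥ := (A.factors_yon_iff' p).1 ⟨p ≫ inv A.ι, by simp⟩
    rw [hA] at h3
    have h4 := congrArg (fun I => Scheme.IdealSheafData.ideal I ⟨⊤, isAffineOpen_top W.left⟩) h3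
    simpa using h4
  obtain ⟨T', hT', ⟨e⟩⟩ := hmin _ A.ι A.repWith_ι hniso
  obtain ⟨W₀, R₀, s₀, t₀, p₀, w, r, pres₀, sq₀, sub₀⟩ := pres.exists_sub hZ A.repWith_ι
  have hk₀ : RingHom.ker (Γf w).hom = J := by
    have h3 := K598.ClFam.ofClosed_eq A.repWith_ι sq₀
    rw [K598.ClFam.ofClosed_ι, hA, Scheme.ker_of_isAffine] at h3
    have h4 := congrArg (fun I => Scheme.IdealSheafData.ideal I ⟨⊤, isAffineOpen_top W.left⟩) h3
    simpa using h4.symm
  exact K603.Step.hasQuot_of_ker_eq sub₀ sub (hk₀.trans hk.symm) (hasQuot_of_iso pres₀ hT' e)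

/-- **Chevalley's theorem**: `f : X ⟶ Y` finite surjective, `X` affine, `Y` a separated algebraic space over an affine
base. Then `Y` is affine. -/
theorem aff_of_finite [IsAffine S] {Y : Sp S} (hY : IsAlgSpace Y) (hYs : IsSeparatedSp Y) {T : Over S}
    (hT : IsAffine T.left) (f : (yon S).obj T ⟶ Y) (hf : RepWith @IsFinite f) (hfs : RepWith @Surjective f) :
    Aff Y := by
  have hYqc : IsQuasiCompactSp Y := K596.QC.isQuasiCompactSp_of_surjective hY f
    (K609.Points.surjective_map_of_repWith_surjective hfs)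
    (K609.QC.compactSpace_points (K596.QC.isQuasiCompactSp_yon T))
  obtain ⟨W, p, hW, hp, hp'⟩ := K609.QC.exists_affine_chart hYqc
  have hcl : ∀ {Z : Sp S} {i : Z ⟶ Y}, RepWith @IsClosedImmersion i → IsAlgSpace Z ∧ IsSeparatedSp Z ∧
      IsQuasiCompactSp Z := by
    intro Z i hi
    have := K598.RepKit.mono_of_repWith_isClosedImmersion hi
    exact ⟨K598.RepKit.isAlgSpace_of_repWith_isClosedImmersion hi hY, isSeparatedSp_of_mono hYs i,
      K596.QC.isQuasiCompactSp_of_repWith hYqc (K598.RepKit.repWith_mono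
        (fun _ _ f (_ : IsClosedImmersion f) => (inferInstance : QuasiCompact f)) hi)⟩
  by_contra hcon
  obtain ⟨Z, i, hi, hZ, hmin⟩ := K603.ClChain.exists_minimal hp hp' Aff (fun e h => h.of_iso e)
    (fun {I} _ _ D hD hDc c hc hcpt => by
      obtain ⟨T', hT', ⟨e⟩⟩ := hcpt
      choose k hk using hD
      obtain ⟨i, T'', hT'', ⟨e'⟩⟩ := Groth.Agent.S10006.result S D (fun i => (hcl (hk i)).1)
        (fun i j φ => K597.Affine.isAffineMor_iff.2 (K598.RepKit.repWith_mono
          (fun _ _ f (_ : IsClosedImmersion f) => (inferInstance : IsAffineHom f)) (hDc i j φ)))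
        (fun i => (hcl (hk i)).2.2) (fun i => isQuasiSeparatedSp_of_isSeparatedSp (hcl (hk i)).2.1) c hc T' hT' e
      exact ⟨i, T'', hT'', ⟨e'⟩⟩) hcon
  obtain ⟨hZa, hZs, hZqc⟩ := hcl hi
  obtain ⟨W₁, p₁, hW₁, hp₁, hp₁'⟩ := K609.QC.exists_affine_chart hZqc
  obtain ⟨T₀, w, g, sq⟩ := hi.1 f
  have hw : IsClosedImmersion w.left := hi.2 _ _ _ sq
  have hT₀ : IsAffine T₀.left := isAffine_of_isAffineHom w.left
  exact hZ (hasQuot_of_minimal hZa hZs (K647.QcIdl.qc_of_qcqs ⟨Z, hZa⟩ hZqc (isQuasiSeparatedSp_of_isSeparatedSp hZs))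
    hT₀ g (MorphismProperty.of_isPullback sq.flip hf) (MorphismProperty.of_isPullback sq.flip hfs) hmin hW₁ hp₁ hp₁')

end K603.Chev
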