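import Groth.Agent.Sga3C.QuotNilRing
import Mathlib.RingTheory.Flat.FaithfullyFlat.Algebra
import Mathlib.RingTheory.RingHom.FaithfullyFlat
import Mathlib.CategoryTheory.Limits.Shapes.Pullback.IsPullback.Basic
import Mathlib.CategoryTheory.ConcreteCategory.EpiMono

/-!
# Effective pairs of ring maps `B ⇉ C` : `C = B ⊗_A B` for a faithfully flat `A → B`

Calculus of the condition that the affine (étale) equivalence relation `Spec C ⇉ Spec B` has an affine quotient.
-/

set_option autoImplicit false
universe u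
open CategoryTheory CategoryTheory.Limits TensorProduct

namespace K603.Eff

variable {A B C D : CommRingCat.{u}}

/-- `C = B ⊗_A B` and `A → B` is faithfully flat. -/
structure IsEff (q : A ⟶ B) (s t : B ⟶ C) : Prop where
  ff : q.hom.FaithfullyFlat
  po : IsPushout q q s t

/-- There is an affine quotient. -/
def HasQuot (s t : B ⟶ C) : Prop := ∃ (A : CommRingCat.{u}) (q : A ⟶ B), IsEff q s t

theorem IsEff.exists_of_eq {q : A ⟶ B} {s t : B ⟶ C} (h : IsEff q s t) (b : B) (hb : s b = t b) :
    ∃ a, q a = b :=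
  Groth.Agent.Sga3C.QuotNilRing.exists_of_eq h.ff h.po b hb

theorem IsEff.injective {q : A ⟶ B} {s t : B ⟶ C} (h : IsEff q s t) : Function.Injective q :=
  RingHom.FaithfullyFlat.injective h.ff

/-- An ideal invariant for the pair `s`, `t`. -/
def Inv (s t : B ⟶ C) (J : Ideal B) : Prop := J.map s.hom = J.map t.hom

theorem Inv.mul {s t : B ⟶ C} {I J : Ideal B} (hI : Inv s t I) (hJ : Inv s t J) : Inv s t (I * J) := by
  unfold Inv at *
  rw [Ideal.map_mul, Ideal.map_mul, hI, hJ]

theorem Inv.sup {s t : B ⟶ C} {I J : Ideal B} (hI : Inv s t I) (hJ : Inv s t J) : Inv s t (I ⊔ J) := by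
  unfold Inv at *
  rw [Ideal.map_sup, Ideal.map_sup, hI, hJ]

theorem Inv.top (s t : B ⟶ C) : Inv s t ⊤ := by
  unfold Inv
  rw [Ideal.map_top, Ideal.map_top]

theorem Inv.prod {s t : B ⟶ C} {ι : Type*} (F : Finset ι) (I : ι → Ideal B) (hI : ∀ i ∈ F, Inv s t (I i)) :
    Inv s t (∏ i ∈ F, I i) := by
  classical
  induction F using Finset.induction_on with
  | empty => rw [Finset.prod_empty, Ideal.one_eq_top]; exact Inv.top s t
  | insert i F hi ih =>
    rw [Finset.prod_insert hi]
    exact (hI i (Finset.mem_insert_self _ _)).mul (ih fun j hj => hI j (Finset.mem_insert_of_mem hj))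

/-- Flat base change of linear relations: `CX = C ⊗_B BX`, `s` flat; a relation with coefficients in `C` between
elements of `BX` is a combination of relations with coefficients in `B`. -/
theorem mem_span_of_relation {BX CX : CommRingCat.{u}} {s : B ⟶ C} {fB : B ⟶ BX} {fC : C ⟶ CX} {sX : BX ⟶ CX}
    (po : IsPushout s fB fC sX) (hs : s.hom.Flat) {κ : Type*} [Fintype κ] (y : κ → BX) (c : κ → C)
    (h : ∑ j, fC (c j) * sX (y j) = 0) :
    c ∈ Submodule.span C ((fun b : κ → B => fun j => s (b j)) '' {b | ∑ j, fB (b j) * y j = 0}) := by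
  classical
  let := s.hom.toAlgebra
  let := fB.hom.toAlgebra
  obtain ⟨ψ, hψ⟩ := Groth.Agent.Sga3C.QuotNilRing.exists_equiv_of_isPushout po
  have hfl : Module.Flat B C := hs
  let L : (κ → B) →ₗ[B] BX :=
    { toFun := fun b => ∑ j, fB (b j) * y j
      map_add' := fun a b => by
        rw [← Finset.sum_add_distrib]
        exact Finset.sum_congr rfl fun j _ => by rw [Pi.add_apply, map_add, add_mul]
      map_smul' := fun r b => by
        change ∑ j, fB (r * b j) * y j = fB r * ∑ j, fB (b j) * y j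
        rw [Finset.mul_sum]
        exact Finset.sum_congr rfl fun j _ => by rw [map_mul, mul_assoc] }
  have hex : Function.Exact (L.ker.subtype.lTensor C) (L.lTensor C) :=
    Module.Flat.lTensor_exact C (LinearMap.exact_subtype_ker_map L)
  let z : C ⊗[B] (κ → B) := ∑ j, c j ⊗ₜ[B] (Pi.single j 1 : κ → B)
  have hz : L.lTensor C z = 0 := by
    apply ψ.injective
    rw [map_zero, map_sum, map_sum, ← h]
    refine Finset.sum_congr rfl fun j _ => ?_
    rw [LinearMap.lTensor_tmul, hψ]
    congr 2
    change ∑ i, fB ((Pi.single j 1 : κ → B) i) * y i = y j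
    rw [Finset.sum_eq_single j]
    · rw [Pi.single_eq_same, map_one, one_mul]
    · intro i _ hi
      rw [Pi.single_eq_of_ne hi, map_zero, zero_mul]
    · intro hj; exact absurd (Finset.mem_univ j) hj
  obtain ⟨w, hw⟩ := (hex z).1 hz
  -- evaluation `C ⊗ (κ → B) → (κ → C)`
  let ev : C ⊗[B] (κ → B) →ₗ[B] (κ → C) := TensorProduct.lift
    { toFun := fun c' =>
        { toFun := fun b => fun j => c' * s (b j)
          map_add' := fun a b => by
            funext j
            change c' * s (a j + b j) = c' * s (a j) + c' * s (b j)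
            rw [map_add, mul_add]
          map_smul' := fun r b => by
            funext j
            change c' * s (r * b j) = s r * (c' * s (b j))
            rw [map_mul]; ring }
      map_add' := fun a b => by
        ext x j
        simp [add_mul]
      map_smul' := fun r a => by
        apply LinearMap.ext
        intro x
        funext j
        change (s r * a) * s (x j) = s r * (a * s (x j))
        ring }
  have hev : ev z = c := by
    funext i
    rw [map_sum, Finset.sum_apply]
    rw [Finset.sum_eq_single i]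
    · change c i * s ((Pi.single i 1 : κ → B) i) = c i
      rw [Pi.single_eq_same, map_one, mul_one]
    · intro j _ hj
      change c j * s ((Pi.single j 1 : κ → B) i) = 0
      rw [Pi.single_eq_of_ne hj.symm, map_zero, mul_zero]
    · intro hj; exact absurd (Finset.mem_univ i) hj
  rw [← hev, ← hw]
  clear hw
  induction w using TensorProduct.induction_on with
  | zero => rw [map_zero, map_zero]; exact zero_mem _
  | add x y hx hy => rw [map_add, map_add]; exact add_mem hx hy
  | tmul c' b =>
    have h1 : ev (L.ker.subtype.lTensor C (c' ⊗ₜ b)) = c' • (fun j => s ((b : κ → B) j)) := rfl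
    rw [h1]
    exact Submodule.smul_mem _ _ (Submodule.subset_span ⟨b, b.2, rfl⟩)

theorem isPushout_id (s : B ⟶ C) : IsPushout s (𝟙 B) (𝟙 C) s := IsPushout.of_vert_isIso ⟨by simp⟩

/-- Flat base change commutes with intersections of ideals. -/
theorem map_inf_le {s : B ⟶ C} (hs : s.hom.Flat) (I J : Ideal B) :
    I.map s.hom ⊓ J.map s.hom ≤ (I ⊓ J).map s.hom := by
  rintro c ⟨hc1, hc2⟩
  obtain ⟨n, a, x, hx⟩ := Submodule.mem_span_set'.1 hc1
  obtain ⟨m, b, y, hy⟩ := Submodule.mem_span_set'.1 hc2
  choose x' hx' hxx using fun i => (x i).2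
  choose y' hy' hyy using fun i => (y i).2
  have e1 : ∑ i, a i * s (x' i) = c := by
    rw [← hx]
    exact Finset.sum_congr rfl fun i _ => by rw [smul_eq_mul, ← hxx i]
  have e2 : ∑ i, b i * s (y' i) = c := by
    rw [← hy]
    exact Finset.sum_congr rfl fun i _ => by rw [smul_eq_mul, ← hyy i]
  let z : Fin n ⊕ Fin m → B := Sum.elim x' y'
  let c' : Fin n ⊕ Fin m → C := Sum.elim a (fun i => - b i)
  have h1 := mem_span_of_relation (isPushout_id s) hs z c' (by
    rw [Fintype.sum_sum_type]
    have : ∑ i, (𝟙 C : C ⟶ C) (c' (Sum.inl i)) * s (z (Sum.inl i)) = c := e1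
    rw [this]
    have : ∑ i, (𝟙 C : C ⟶ C) (c' (Sum.inr i)) * s (z (Sum.inr i)) = - c := by
      rw [← e2, ← Finset.sum_neg_distrib]
      exact Finset.sum_congr rfl fun i _ => neg_mul _ _
    rw [this, add_neg_cancel])
  let L : (Fin n ⊕ Fin m → C) →ₗ[C] C :=
    { toFun := fun w => ∑ i, w (Sum.inl i) * s (x' i)
      map_add' := fun u v => by
        rw [← Finset.sum_add_distrib]
        exact Finset.sum_congr rfl fun j _ => by rw [Pi.add_apply, add_mul]
      map_smul' := fun r u => by
        rw [RingHom.id_apply, smul_eq_mul, Finset.mul_sum]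
        exact Finset.sum_congr rfl fun j _ => by rw [Pi.smul_apply, smul_eq_mul, mul_assoc] }
  have h2 : Submodule.span C ((fun b : Fin n ⊕ Fin m → B => fun j => s (b j)) ''
      {b | ∑ j, (𝟙 B : B ⟶ B) (b j) * z j = 0}) ≤ Submodule.comap L ((I ⊓ J).map s.hom) := by
    rw [Submodule.span_le]
    rintro _ ⟨u, hu, rfl⟩
    have hu' : ∑ i, u (Sum.inl i) * x' i + ∑ i, u (Sum.inr i) * y' i = 0 := by
      rw [← hu, Fintype.sum_sum_type]; rfl
    have h3 : L (fun j => s (u j)) = s (∑ i, u (Sum.inl i) * x' i) := by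
      rw [map_sum]
      change ∑ i, s (u (Sum.inl i)) * s (x' i) = _
      exact Finset.sum_congr rfl fun j _ => (map_mul s.hom _ _).symm
    change L (fun j => s (u j)) ∈ (I ⊓ J).map s.hom
    rw [h3]
    refine Ideal.mem_map_of_mem s.hom ⟨I.sum_mem fun i _ => I.mul_mem_left _ (hx' i), ?_⟩
    rw [eq_neg_of_add_eq_zero_left hu']
    exact J.neg_mem (J.sum_mem fun i _ => J.mul_mem_left _ (hy' i))
  have h3 : L c' ∈ (I ⊓ J).map s.hom := h2 h1
  have h4 : L c' = c := e1
  rwa [h4] at h3

/-- The relation lemma for an annihilator. -/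
theorem mem_map_of_mul_eq_zero {BX CX : CommRingCat.{u}} {s : B ⟶ C} {fB : B ⟶ BX} {fC : C ⟶ CX} {sX : BX ⟶ CX}
    (po : IsPushout s fB fC sX) (hs : s.hom.Flat) (y : BX) (c : C) (h : fC c * sX y = 0) (J : Ideal B)
    (hJ : ∀ b, fB b * y = 0 → b ∈ J) : c ∈ J.map s.hom := by
  have h1 := mem_span_of_relation po hs (fun _ : Unit => y) (fun _ : Unit => c) (by simpa using h)
  have h2 : Submodule.span C ((fun b : Unit → B => fun j => s (b j)) ''
      {b | ∑ j : Unit, fB (b j) * y = 0}) ≤
      Submodule.comap (LinearMap.proj (R := C) (φ := fun _ : Unit => (C : Type u)) ()) (J.map s.hom) := by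
    rw [Submodule.span_le]
    rintro _ ⟨b, hb, rfl⟩
    have hb' : fB (b ()) * y = 0 := by simpa using hb
    exact Ideal.mem_map_of_mem s.hom (hJ _ hb')
  exact h2 h1

/-- Descent of invariant ideals. -/
theorem IsEff.map_comap {q : A ⟶ B} {s t : B ⟶ C} (h : IsEff q s t) {J : Ideal B} (hJ : Inv s t J) :
    (J.comap q.hom).map q.hom = J := by
  apply le_antisymm Ideal.map_comap_le
  intro x hx
  let := q.hom.toAlgebra
  have hff : Module.FaithfullyFlat A B := h.ff
  obtain ⟨ψ, hψ⟩ := Groth.Agent.Sga3C.QuotNilRing.exists_equiv_of_isPushout h.po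
  let K : Ideal A := J.comap q.hom
  -- the injection `A / K → B / J`
  let Jm : Submodule A B := J.restrictScalars A
  let i : (A ⧸ K) →ₗ[A] (B ⧸ Jm) := K.liftQ (Jm.mkQ ∘ₗ Algebra.linearMap A B) (by
    intro a ha
    rw [LinearMap.mem_ker, LinearMap.comp_apply, Submodule.mkQ_apply, Submodule.Quotient.mk_eq_zero]
    exact ha)
  have hi : Function.Injective i := by
    rw [← LinearMap.ker_eq_bot, Submodule.ker_liftQ_eq_bot]
    intro a ha
    rw [LinearMap.mem_ker, LinearMap.comp_apply, Submodule.mkQ_apply, Submodule.Quotient.mk_eq_zero] at ha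
    exact ha
  have hi' : Function.Injective (i.lTensor B) := Module.Flat.lTensor_preserves_injective_linearMap i hi
  -- `x ⊗ 1 = 0` in `B ⊗ B / J`
  have key : ∀ c : C, c ∈ J.map t.hom → Jm.mkQ.lTensor B (ψ.symm c) = 0 := by
    intro c hc
    refine Submodule.span_induction (p := fun c _ => Jm.mkQ.lTensor B (ψ.symm c) = 0) ?_ ?_ ?_ ?_ hc
    · rintro _ ⟨j, hj, rfl⟩
      have : ψ.symm (t.hom j) = (1 : B) ⊗ₜ[A] j := by
        rw [RingEquiv.symm_apply_eq, hψ, map_one, one_mul]
      rw [this, LinearMap.lTensor_tmul]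
      have h0 : Jm.mkQ j = 0 := by
        rw [Submodule.mkQ_apply, Submodule.Quotient.mk_eq_zero]; exact hj
      rw [h0, TensorProduct.tmul_zero]
    · rw [map_zero, map_zero]
    · intro a b _ _ ha hb
      rw [map_add, map_add, ha, hb, add_zero]
    · intro a b _ hb
      rw [smul_eq_mul, map_mul]
      -- the kernel is an ideal
      generalize ψ.symm a = w
      generalize ψ.symm b = v at hb
      have hv' : v ∈ LinearMap.range (Jm.subtype.lTensor B) := by
        have hex := lTensor_exact B (LinearMap.exact_subtype_mkQ Jm) (Submodule.mkQ_surjective Jm)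
        exact (hex v).1 hb
      obtain ⟨v', rfl⟩ := hv'
      clear hb
      induction v' using TensorProduct.induction_on with
      | zero => rw [map_zero, mul_zero, map_zero]
      | add v v' hv hv' => rw [map_add, mul_add, map_add, hv, hv', add_zero]
      | tmul b' j =>
        rw [LinearMap.lTensor_tmul]
        induction w using TensorProduct.induction_on with
        | zero => rw [zero_mul, map_zero]
        | add w w' hw hw' => rw [add_mul, map_add, hw, hw', add_zero]
        | tmul b₁ b₂ =>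
          rw [Algebra.TensorProduct.tmul_mul_tmul, LinearMap.lTensor_tmul]
          have h0 : Jm.mkQ (b₂ * Jm.subtype j) = 0 := by
            rw [Submodule.mkQ_apply, Submodule.Quotient.mk_eq_zero]
            exact J.mul_mem_left _ j.2
          rw [h0, TensorProduct.tmul_zero]
  have h1 : Jm.mkQ.lTensor B (ψ.symm (s.hom x)) = 0 := by
    apply key
    rw [← hJ]
    exact Ideal.mem_map_of_mem _ hx
  have h2 : ψ.symm (s.hom x) = x ⊗ₜ[A] (1 : B) := by
    rw [RingEquiv.symm_apply_eq, hψ, map_one, mul_one]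
  rw [h2, LinearMap.lTensor_tmul] at h1
  have h3 : x ⊗ₜ[A] (Submodule.Quotient.mk (1 : A) : A ⧸ K) = 0 := by
    apply hi'
    rw [map_zero, LinearMap.lTensor_tmul]
    have : i (Submodule.Quotient.mk (1 : A)) = Jm.mkQ (1 : B) := by
      change Jm.mkQ (algebraMap A B 1) = _
      rw [map_one]
    rw [this]
    exact h1
  -- hence `x ∈ K B`
  have h4 : x ∈ K • (⊤ : Submodule A B) := by
    have := LinearMap.ker_tensorProductMk (R := A) (Q := B) (I := K)
    have h5 : (1 : A ⧸ K) ⊗ₜ[A] x = 0 := by
      have := congrArg (TensorProduct.comm A B (A ⧸ K)) h3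
      rw [TensorProduct.comm_tmul, map_zero] at this
      exact this
    rw [← this, LinearMap.mem_ker]
    exact h5
  have h5 : x ∈ (K.map q.hom).restrictScalars A := by
    have := Ideal.smul_top_eq_map (R := A) (S := B) K
    rw [this] at h4
    exact h4
  exact h5

theorem faithfullyFlat_of_isPushout {R S R' S' : CommRingCat.{u}} {f : R ⟶ S} {g : R ⟶ R'}
    {inl : S ⟶ S'} {inr : R' ⟶ S'} (h : IsPushout f g inl inr) (hf : f.hom.FaithfullyFlat) :
    inr.hom.FaithfullyFlat := by
  let i1 : Algebra R S := f.hom.toAlgebra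
  let i2 : Algebra R R' := g.hom.toAlgebra
  let i3 : Algebra S S' := inl.hom.toAlgebra
  let i4 : Algebra R' S' := inr.hom.toAlgebra
  let i5 : Algebra R S' := (f ≫ inl).hom.toAlgebra
  have j1 : IsScalarTower R S S' := IsScalarTower.of_algebraMap_eq fun _ => rfl
  have j2 : IsScalarTower R R' S' := IsScalarTower.of_algebraMap_eq fun x =>
    congr($(h.w).hom x)
  have : Algebra.IsPushout R S R' S' := CommRingCat.isPushout_iff_isPushout.1 h
  exact RingHom.FaithfullyFlat.isStableUnderBaseChange R S R' S' hf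

theorem flat_of_isPushout {R S R' S' : CommRingCat.{u}} {f : R ⟶ S} {g : R ⟶ R'}
    {inl : S ⟶ S'} {inr : R' ⟶ S'} (h : IsPushout f g inl inr) (hf : f.hom.Flat) :
    inr.hom.Flat := by
  let i1 : Algebra R S := f.hom.toAlgebra
  let i2 : Algebra R R' := g.hom.toAlgebra
  let i3 : Algebra S S' := inl.hom.toAlgebra
  let i4 : Algebra R' S' := inr.hom.toAlgebra
  let i5 : Algebra R S' := (f ≫ inl).hom.toAlgebra
  have j1 : IsScalarTower R S S' := IsScalarTower.of_algebraMap_eq fun _ => rfl
  have j2 : IsScalarTower R R' S' := IsScalarTower.of_algebraMap_eq fun x =>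
    congr($(h.w).hom x)
  have : Algebra.IsPushout R S R' S' := CommRingCat.isPushout_iff_isPushout.1 h
  exact RingHom.Flat.isStableUnderBaseChange R S R' S' hf

/-- Effectiveness is stable under base change. -/
theorem IsEff.baseChange {q : A ⟶ B} {s t : B ⟶ C} (h : IsEff q s t) {A' B' C' : CommRingCat.{u}}
    {α : A ⟶ A'} {β : B ⟶ B'} {γ : C ⟶ C'} {q' : A' ⟶ B'} {s' t' : B' ⟶ C'} (hq : IsPushout q α β q')
    (hs : IsPushout s β γ s') (ht : IsPushout t β γ t') (w : q' ≫ s' = q' ≫ t') : IsEff q' s' t' := by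
  refine ⟨faithfullyFlat_of_isPushout hq h.ff, ?_⟩
  have h1 := h.po.paste_vert ht
  rw [hq.w, hs.w] at h1
  exact IsPushout.of_top h1 w hq

theorem surjective_of_isPushout {B0 C0 : CommRingCat.{u}} {s : B ⟶ C} {χB : B ⟶ B0} {χC : C ⟶ C0} {s0 : B0 ⟶ C0}
    (po : IsPushout s χB χC s0) (hχ : Function.Surjective χB.hom) : Function.Surjective χC.hom := by
  let := s.hom.toAlgebra
  let := χB.hom.toAlgebra
  obtain ⟨ψ, hψ⟩ := Groth.Agent.Sga3C.QuotNilRing.exists_equiv_of_isPushout po
  intro y
  obtain ⟨z, rfl⟩ := ψ.surjective y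
  induction z using TensorProduct.induction_on with
  | zero => exact ⟨0, by rw [map_zero, map_zero]⟩
  | add a b ha hb =>
    obtain ⟨a', ha⟩ := ha
    obtain ⟨b', hb⟩ := hb
    exact ⟨a' + b', by rw [map_add, map_add, ha, hb]⟩
  | tmul c b =>
    obtain ⟨b', rfl⟩ := hχ b
    refine ⟨c * s b', ?_⟩
    rw [hψ, map_mul]
    congr 1
    exact congr($(po.w).hom b')

theorem exists_lift {R S T : Type*} [CommRing R] [CommRing S] [CommRing T] (f : R →+* S)
    (hf : Function.Surjective f) (g : R →+* T) (h : RingHom.ker f ≤ RingHom.ker g) : ∃ k : S →+* T, k.comp f = g :=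
  ⟨RingHom.liftOfSurjective f hf ⟨g, h⟩,
    RingHom.liftOfRightInverse_comp f _ (Function.rightInverse_surjInv hf) ⟨g, h⟩⟩

theorem ker_of_isPushout {B0 C0 : CommRingCat.{u}} {s : B ⟶ C} {χB : B ⟶ B0} {χC : C ⟶ C0} {s0 : B0 ⟶ C0}
    (po : IsPushout s χB χC s0) (hχ : Function.Surjective χB.hom) :
    RingHom.ker χC.hom = (RingHom.ker χB.hom).map s.hom := by
  apply le_antisymm
  · intro c hc
    let K := (RingHom.ker χB.hom).map s.hom
    let m : C ⟶ CommRingCat.of (C ⧸ K) := CommRingCat.ofHom (Ideal.Quotient.mk K)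
    obtain ⟨f, hf'⟩ := exists_lift χB.hom hχ ((Ideal.Quotient.mk K).comp s.hom) (by
      intro b hb
      rw [RingHom.mem_ker, RingHom.comp_apply, Ideal.Quotient.eq_zero_iff_mem]
      exact Ideal.mem_map_of_mem _ hb)
    have hf : s ≫ m = χB ≫ CommRingCat.ofHom f := by
      ext b
      exact congr($hf' b).symm
    have h1 : χC ≫ po.desc m (CommRingCat.ofHom f) hf = m := po.inl_desc _ _ _
    have h2 : m c = 0 := by
      rw [← h1, CommRingCat.comp_apply]
      have : χC c = 0 := hc
      rw [this, map_zero]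
    exact Ideal.Quotient.eq_zero_iff_mem.1 h2
  · rw [Ideal.map_le_iff_le_comap]
    intro b hb
    rw [Ideal.mem_comap, RingHom.mem_ker]
    have h1 : χC (s b) = s0 (χB b) := congr($(po.w).hom b)
    have h2 : χB b = 0 := hb
    exact h1.trans (by rw [h2, map_zero])

/-- A square with surjective verticals is a pushout when the kernel downstairs is generated by the one upstairs. -/
theorem isPushout_of_surjective {B0 C0 : CommRingCat.{u}} {s : B ⟶ C} {χB : B ⟶ B0} {χC : C ⟶ C0} {s0 : B0 ⟶ C0}
    (w : s ≫ χC = χB ≫ s0) (hB : Function.Surjective χB.hom) (hC : Function.Surjective χC.hom)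
    (hker : RingHom.ker χC.hom ≤ (RingHom.ker χB.hom).map s.hom) : IsPushout s χB χC s0 := by
  have hepi : Epi χB := ConcreteCategory.epi_of_surjective _ hB
  have hepi' : Epi χC := ConcreteCategory.epi_of_surjective _ hC
  have key : ∀ (T : CommRingCat.{u}) (x : B0 ⟶ T) (y : C ⟶ T), s ≫ y = χB ≫ x →
      ∃ z : C0 ⟶ T, χC ≫ z = y := by
    intro T x y hxy
    have h1 : RingHom.ker χC.hom ≤ RingHom.ker y.hom := by
      refine hker.trans ?_
      rw [Ideal.map_le_iff_le_comap]
      intro r hr
      rw [Ideal.mem_comap, RingHom.mem_ker]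
      have h2 : y (s r) = x (χB r) := congr($(hxy).hom r)
      have h3 : χB r = 0 := hr
      exact h2.trans (by rw [h3, map_zero])
    refine ⟨CommRingCat.ofHom (RingHom.liftOfSurjective χC.hom hC ⟨y.hom, h1⟩), ?_⟩
    ext c
    exact RingHom.liftOfRightInverse_comp_apply _ _ (Function.rightInverse_surjInv hC) _ c
  refine ⟨⟨w⟩, ⟨PushoutCocone.IsColimit.mk _ (fun c => (key _ c.inr c.inl c.condition).choose) ?_ ?_ ?_⟩⟩
  · intro c
    exact (key _ c.inr c.inl c.condition).choose_spec
  · intro c
    rw [← cancel_epi χB, ← reassoc_of% w, (key _ c.inr c.inl c.condition).choose_spec, c.condition]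
  · intro c m h1 h2
    rw [← cancel_epi χC, (key _ c.inr c.inl c.condition).choose_spec]
    exact h1

/-- A closed sub-pair: `Spec B0 ⊂ Spec B` closed, with the same preimages in `Spec C`. -/
structure Sub {B0 C0 : CommRingCat.{u}} (s t : B ⟶ C) (χB : B ⟶ B0) (χC : C ⟶ C0) (s0 t0 : B0 ⟶ C0) : Prop where
  surj : Function.Surjective χB.hom
  hs : IsPushout s χB χC s0
  ht : IsPushout t χB χC t0

theorem Sub.inv {B0 C0 : CommRingCat.{u}} {s t : B ⟶ C} {χB : B ⟶ B0} {χC : C ⟶ C0} {s0 t0 : B0 ⟶ C0}
    (h : Sub s t χB χC s0 t0) : Inv s t (RingHom.ker χB.hom) := by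
  unfold Inv
  rw [← ker_of_isPushout h.hs h.surj, ← ker_of_isPushout h.ht h.surj]

/-- The closed sub-pair given by an invariant ideal. -/
theorem exists_sub {s t : B ⟶ C} {J : Ideal B} (hJ : Inv s t J) :
    ∃ (s0 t0 : CommRingCat.of (B ⧸ J) ⟶ CommRingCat.of (C ⧸ J.map s.hom)),
      Sub s t (CommRingCat.ofHom (Ideal.Quotient.mk J)) (CommRingCat.ofHom (Ideal.Quotient.mk (J.map s.hom))) s0 t0 := by
  refine ⟨CommRingCat.ofHom (Ideal.quotientMap _ s.hom Ideal.le_comap_map),
    CommRingCat.ofHom (Ideal.quotientMap _ t.hom (by rw [hJ]; exact Ideal.le_comap_map)),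
    Ideal.Quotient.mk_surjective, ?_, ?_⟩
  · refine isPushout_of_surjective (by ext; rfl) Ideal.Quotient.mk_surjective Ideal.Quotient.mk_surjective ?_
    simp
  · refine isPushout_of_surjective (by ext; rfl) Ideal.Quotient.mk_surjective Ideal.Quotient.mk_surjective ?_
    simp [← hJ.symm]

/-- Effectiveness passes to closed sub-pairs. -/
theorem IsEff.sub {B0 C0 : CommRingCat.{u}} {q : A ⟶ B} {s t : B ⟶ C} (h : IsEff q s t) {χB : B ⟶ B0} {χC : C ⟶ C0}
    {s0 t0 : B0 ⟶ C0} (hsub : Sub s t χB χC s0 t0) :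
    ∃ (A0 : CommRingCat.{u}) (α : A ⟶ A0) (q0 : A0 ⟶ B0), Function.Surjective α.hom ∧ IsPushout q α χB q0 ∧
      IsEff q0 s0 t0 := by
  let K : Ideal A := (RingHom.ker χB.hom).comap q.hom
  let α : A ⟶ CommRingCat.of (A ⧸ K) := CommRingCat.ofHom (Ideal.Quotient.mk K)
  let q0 : CommRingCat.of (A ⧸ K) ⟶ B0 := CommRingCat.ofHom (Ideal.Quotient.lift K (χB.hom.comp q.hom) (by
    intro a ha; exact ha))
  have hα : Function.Surjective α.hom := Ideal.Quotient.mk_surjective
  have w : q ≫ χB = α ≫ q0 := by ext; rfl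
  have hpo : IsPushout q α χB q0 := by
    refine isPushout_of_surjective w hα hsub.surj ?_
    have : RingHom.ker α.hom = K := Ideal.mk_ker
    rw [this, h.map_comap hsub.inv]
  refine ⟨_, α, q0, hα, hpo, h.baseChange hpo hsub.hs hsub.ht ?_⟩
  have hepi : Epi α := ConcreteCategory.epi_of_surjective _ hα
  rw [← cancel_epi α, ← reassoc_of% w, ← reassoc_of% w, ← hsub.hs.w, ← hsub.ht.w, reassoc_of% h.po.w]

/-- The universal property of the quotient. -/
theorem IsEff.exists_lift {q : A ⟶ B} {s t : B ⟶ C} (h : IsEff q s t) {T : CommRingCat.{u}} (x : T ⟶ B)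
    (hx : x ≫ s = x ≫ t) : ∃ y : T ⟶ A, y ≫ q = x := by
  choose y hy using fun a : T => h.exists_of_eq (x a) (congr($hx a))
  refine ⟨CommRingCat.ofHom
    { toFun := y
      map_one' := h.injective (by rw [hy, map_one, map_one])
      map_mul' := fun a b => h.injective (by rw [hy, map_mul, map_mul, hy, hy])
      map_zero' := h.injective (by rw [hy, map_zero, map_zero])
      map_add' := fun a b => h.injective (by rw [hy, map_add, map_add, hy, hy]) }, ?_⟩
  ext a
  exact hy a

theorem IsEff.mono {q : A ⟶ B} {s t : B ⟶ C} (h : IsEff q s t) : Mono q :=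
  ConcreteCategory.mono_of_injective _ h.injective

/-- Two quotients of a pair are isomorphic. -/
theorem IsEff.exists_iso {A' : CommRingCat.{u}} {q : A ⟶ B} {q' : A' ⟶ B} {s t : B ⟶ C} (h : IsEff q s t)
    (h' : IsEff q' s t) : ∃ e : A ≅ A', e.hom ≫ q' = q := by
  obtain ⟨x, hx⟩ := h'.exists_lift q h.po.w
  obtain ⟨y, hy⟩ := h.exists_lift q' h'.po.w
  have := h.mono
  have := h'.mono
  exact ⟨⟨x, y, by rw [← cancel_mono q, Category.assoc, hy, hx, Category.id_comp],
    by rw [← cancel_mono q', Category.assoc, hx, hy, Category.id_comp]⟩, hx⟩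

/-- The equalizer of a pair of ring maps. -/
noncomputable abbrev EqL (s t : B ⟶ C) : CommRingCat.{u} := CommRingCat.of (RingHom.eqLocus s.hom t.hom)

noncomputable abbrev eqι (s t : B ⟶ C) : EqL s t ⟶ B := CommRingCat.ofHom (RingHom.eqLocus s.hom t.hom).subtype

theorem eqι_w (s t : B ⟶ C) : eqι s t ≫ s = eqι s t ≫ t := by
  ext ⟨a, ha⟩
  exact ha

theorem eqι_injective (s t : B ⟶ C) : Function.Injective (eqι s t) := Subtype.val_injective

/-- A pair with a quotient has the equalizer as its quotient. -/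
theorem IsEff.eqι {q : A ⟶ B} {s t : B ⟶ C} (h : IsEff q s t) : IsEff (eqι s t) s t := by
  obtain ⟨y, hy⟩ := h.exists_lift (K603.Eff.eqι s t) (eqι_w s t)
  have hyi : Function.Bijective y := by
    constructor
    · intro a b hab
      apply eqι_injective s t
      have h1 := congrArg q hab
      have h2 : ∀ a, q (y a) = K603.Eff.eqι s t a := fun a => congr($hy a)
      rwa [h2, h2] at h1
    · intro a
      have ha : s (q a) = t (q a) := congr($(h.po.w) a)
      refine ⟨⟨q a, ha⟩, h.injective ?_⟩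
      exact congr($hy ⟨q a, ha⟩)
  have : IsIso y := (ConcreteCategory.isIso_iff_bijective y).2 hyi
  refine ⟨?_, ?_⟩
  · rw [← hy, CommRingCat.hom_comp]
    exact RingHom.FaithfullyFlat.stableUnderComposition _ _
      (RingHom.FaithfullyFlat.of_bijective hyi) h.ff
  · exact IsPushout.of_iso h.po (asIso y).symm (Iso.refl _) (Iso.refl _) (Iso.refl _)
      (by simp [← hy]) (by simp [← hy]) (by simp) (by simp)

end K603.Eff
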