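import Groth.Agent.AlgSp.K603.Eff
import Mathlib.RingTheory.Flat.FaithfullyFlat.Descent
import Mathlib.RingTheory.RingHom.Flat
import Mathlib.LinearAlgebra.TensorProduct.Pi

/-!
# Effectivity when the cover is free on descended elements
-/

set_option autoImplicit false
universe u
open CategoryTheory CategoryTheory.Limits TensorProduct

namespace K603.Free

open K603.Eff

theorem isPushout_of_basis {A B AX BX : CommRingCat.{u}} {i : A ⟶ B} {g : A ⟶ AX} {f : B ⟶ BX} {q : AX ⟶ BX}
    (w : i ≫ f = g ≫ q) {κ : Type*} [Fintype κ] (x : κ → AX)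
    (h1 : Function.Bijective (fun c : κ → A => ∑ j, g (c j) * x j))
    (h2 : Function.Bijective (fun b : κ → B => ∑ j, f (b j) * q (x j))) : IsPushout i g f q := by
  classical
  let a1 : Algebra A B := i.hom.toAlgebra
  let a2 : Algebra A AX := g.hom.toAlgebra
  let a3 : Algebra B BX := f.hom.toAlgebra
  let a4 : Algebra AX BX := q.hom.toAlgebra
  let a5 : Algebra A BX := (i ≫ f).hom.toAlgebra
  have t1 : IsScalarTower A B BX := IsScalarTower.of_algebraMap_eq fun _ => rfl
  have t2 : IsScalarTower A AX BX := IsScalarTower.of_algebraMap_eq fun x => congr($w x)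
  let L1 : (κ → A) →ₗ[A] AX :=
    { toFun := fun c => ∑ j, g (c j) * x j
      map_add' := fun a b => by
        rw [← Finset.sum_add_distrib]
        exact Finset.sum_congr rfl fun j _ => by rw [Pi.add_apply, map_add, add_mul]
      map_smul' := fun r b => by
        change ∑ j, g (r * b j) * x j = g r * ∑ j, g (b j) * x j
        rw [Finset.mul_sum]
        exact Finset.sum_congr rfl fun j _ => by rw [map_mul, mul_assoc] }
  let L2 : (κ → B) →ₗ[B] BX :=
    { toFun := fun c => ∑ j, f (c j) * q (x j)
      map_add' := fun a b => by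
        rw [← Finset.sum_add_distrib]
        exact Finset.sum_congr rfl fun j _ => by rw [Pi.add_apply, map_add, add_mul]
      map_smul' := fun r b => by
        change ∑ j, f (r * b j) * q (x j) = f r * ∑ j, f (b j) * q (x j)
        rw [Finset.mul_sum]
        exact Finset.sum_congr rfl fun j _ => by rw [map_mul, mul_assoc] }
  let e1 : (κ → A) ≃ₗ[A] AX := LinearEquiv.ofBijective L1 h1
  let e2 : (κ → B) ≃ₗ[B] BX := LinearEquiv.ofBijective L2 h2
  let e : B ⊗[A] AX ≃ₗ[B] BX :=
    ((TensorProduct.AlgebraTensorModule.congr (LinearEquiv.refl B B) e1.symm).trans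
      (TensorProduct.piScalarRight A B B κ)).trans e2
  have he : ∀ y : AX, e (1 ⊗ₜ[A] y) = q y := by
    intro y
    obtain ⟨c, rfl⟩ := e1.surjective y
    have h3 : e ((1 : B) ⊗ₜ[A] e1 c) = e2 (TensorProduct.piScalarRight A B B κ ((1 : B) ⊗ₜ[A] c)) := by
      simp [e]
    rw [h3]
    have h4 : TensorProduct.piScalarRight A B B κ ((1 : B) ⊗ₜ[A] c) = fun j => i (c j) := by
      funext j
      rw [TensorProduct.piScalarRight_apply, TensorProduct.piScalarRightHom_tmul]
      change i (c j) * 1 = _
      rw [mul_one]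
    rw [h4]
    change ∑ j, f (i (c j)) * q (x j) = q (∑ j, g (c j) * x j)
    rw [map_sum]
    exact Finset.sum_congr rfl fun j _ => by rw [map_mul]; congr 1; exact congr($w (c j))
  have : Algebra.IsPushout A B AX BX := by
    constructor
    exact IsBaseChange.of_equiv e he
  exact CommRingCat.isPushout_iff_isPushout.2 this

/-- Faithful flatness descends. -/
theorem ff_desc {A B AX BX : CommRingCat.{u}} {i : A ⟶ B} {g : A ⟶ AX} {f : B ⟶ BX} {q : AX ⟶ BX}
    (sq : IsPushout i g f q) (hg : g.hom.FaithfullyFlat) (hq : q.hom.FaithfullyFlat) : i.hom.FaithfullyFlat := by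
  rw [RingHom.FaithfullyFlat.iff_flat_and_comap_surjective]
  constructor
  · let a1 : Algebra A B := i.hom.toAlgebra
    let a2 : Algebra A AX := g.hom.toAlgebra
    let a3 : Algebra B BX := f.hom.toAlgebra
    let a4 : Algebra AX BX := q.hom.toAlgebra
    let a5 : Algebra A BX := (i ≫ f).hom.toAlgebra
    have t1 : IsScalarTower A B BX := IsScalarTower.of_algebraMap_eq fun _ => rfl
    have t2 : IsScalarTower A AX BX := IsScalarTower.of_algebraMap_eq fun x => congr($(sq.w) x)
    have P : Algebra.IsPushout A AX B BX := CommRingCat.isPushout_iff_isPushout.1 sq.flip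
    have f1 : Module.FaithfullyFlat A AX := hg
    have f2 : Module.Flat AX BX := hq.flat
    have f3 : Module.Flat AX (AX ⊗[A] B) := Module.Flat.of_linearEquiv P.out.equiv
    exact Module.Flat.of_flat_tensorProduct A B AX
  · intro P
    obtain ⟨Q, rfl⟩ := (RingHom.FaithfullyFlat.iff_flat_and_comap_surjective.1 hg).2 P
    obtain ⟨R, rfl⟩ := (RingHom.FaithfullyFlat.iff_flat_and_comap_surjective.1 hq).2 Q
    refine ⟨PrimeSpectrum.comap f.hom R, ?_⟩
    rw [← PrimeSpectrum.comap_comp_apply, ← PrimeSpectrum.comap_comp_apply]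
    congr 1
    exact congr(($sq.w).hom)

/-- Bijectivity descends. -/
theorem isIso_desc {P C CX CX' : CommRingCat.{u}} {θ : P ⟶ C} {g : P ⟶ CX} {f : C ⟶ CX'} {q : CX ⟶ CX'}
    (sq : IsPushout θ g f q) (hg : g.hom.FaithfullyFlat) [IsIso q] : IsIso θ := by
  let a1 : Algebra P C := θ.hom.toAlgebra
  let a2 : Algebra P CX := g.hom.toAlgebra
  let a3 : Algebra C CX' := f.hom.toAlgebra
  let a4 : Algebra CX CX' := q.hom.toAlgebra
  let a5 : Algebra P CX' := (θ ≫ f).hom.toAlgebra
  have t1 : IsScalarTower P C CX' := IsScalarTower.of_algebraMap_eq fun _ => rfl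
  have t2 : IsScalarTower P CX CX' := IsScalarTower.of_algebraMap_eq fun x => congr($(sq.w) x)
  have po : Algebra.IsPushout P CX C CX' := CommRingCat.isPushout_iff_isPushout.1 sq.flip
  have f1 : Module.FaithfullyFlat P CX := hg
  have hq : Function.Bijective q := (ConcreteCategory.isIso_iff_bijective q).1 inferInstance
  let e : CX ⊗[P] C ≃ₐ[CX] CX' := Algebra.IsPushout.equiv P CX C CX'
  have h1 : Function.Bijective (algebraMap CX (CX ⊗[P] C)) := by
    have : (algebraMap CX (CX ⊗[P] C) : CX → CX ⊗[P] C) = e.symm ∘ q := by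
      funext x
      exact (e.symm.commutes x).symm
    rw [this]
    exact e.symm.bijective.comp hq
  have h2 := Module.FaithfullyFlat.bijective_of_tensorProduct (R := P) (S := CX) (T := C) h1
  exact (ConcreteCategory.isIso_iff_bijective θ).2 h2

variable {AX BX CX B C : CommRingCat.{u}} {s t : B ⟶ C} {fB : B ⟶ BX} {fC : C ⟶ CX} {sX tX : BX ⟶ CX}
  {qX : AX ⟶ BX}

/-- Descent of effectivity along a cover `g : A ⟶ AX` with `BX = B ⊗_A AX`. -/
theorem isEff_of_cover {A : CommRingCat.{u}} {i : A ⟶ B} {g : A ⟶ AX} (w : i ≫ s = i ≫ t)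
    (ht : IsPushout t fB fC tX) (hs : IsPushout s fB fC sX) (hX : IsEff qX sX tX)
    (sq : IsPushout i g fB qX) (hg : g.hom.FaithfullyFlat) : IsEff i s t := by
  refine ⟨ff_desc sq hg hX.ff, ?_⟩
  have po := IsPushout.of_hasPushout i i
  let θ : pushout i i ⟶ C := po.desc s t w
  have hθ1 : pushout.inl i i ≫ θ = s := po.inl_desc _ _ _
  have hθ2 : pushout.inr i i ≫ θ = t := po.inr_desc _ _ _
  have big : IsPushout i (i ≫ fB) (fB ≫ sX) tX := by
    rw [sq.w]; exact sq.paste_vert hX.po
  have fin : IsPushout (pushout.inr i i) fB (θ ≫ fC) tX := by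
    refine IsPushout.of_top (h₁₁ := i) (v₁₁ := i) (v₁₂ := pushout.inl i i) ?_ ?_ po
    · rw [reassoc_of% hθ1, hs.w]; exact big
    · rw [reassoc_of% hθ2, ht.w]
  have hfB : fB.hom.FaithfullyFlat := faithfullyFlat_of_isPushout sq.flip hg
  have hθC : (θ ≫ fC).hom.FaithfullyFlat := faithfullyFlat_of_isPushout fin.flip hfB
  have last : IsPushout θ (θ ≫ fC) fC (𝟙 CX) := by
    refine IsPushout.of_left (h₁₁ := pushout.inr i i) (v₁₁ := fB) (h₂₁ := tX) ?_ (by simp) fin
    rw [hθ2, Category.comp_id]; exact ht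
  have : IsIso θ := isIso_desc last hθC
  exact IsPushout.of_iso po (Iso.refl _) (Iso.refl _) (Iso.refl _) (asIso θ) (by simp) (by simp) (by simpa using hθ1)
    (by simpa using hθ2)

/-- **The free case.** -/
theorem isEff_of_basis (hs : IsPushout s fB fC sX) (ht : IsPushout t fB fC tX) (hX : IsEff qX sX tX)
    (hflat : s.hom.Flat) {κ : Type u} [Fintype κ] [Nonempty κ] (x : κ → AX)
    (h : Function.Bijective (fun b : κ → B => ∑ j, fB (b j) * qX (x j))) : IsEff (eqι s t) s t := by
  classical
  obtain ⟨g, hg⟩ := hX.exists_lift (eqι s t ≫ fB) (by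
    rw [Category.assoc, Category.assoc, ← hs.w, ← ht.w, reassoc_of% eqι_w s t])
  have hg' : ∀ a, qX (g a) = fB (eqι s t a) := fun a => congr($hg a)
  have hinj : ∀ b : κ → B, ∑ j, fB (b j) * qX (x j) = 0 → b = 0 := fun b hb => h.1 (by
    change ∑ j, fB (b j) * qX (x j) = ∑ j, fB ((0 : κ → B) j) * qX (x j)
    rw [hb]
    exact (Finset.sum_eq_zero fun j _ => by rw [Pi.zero_apply, map_zero, zero_mul]).symm)
  have h1 : Function.Bijective (fun c : κ → EqL s t => ∑ j, g (c j) * x j) := by
    constructor
    · intro c d hcd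
      have h2 := congrArg qX hcd
      have h3 : ∀ c : κ → EqL s t, qX (∑ j, g (c j) * x j) = ∑ j, fB (eqι s t (c j)) * qX (x j) := fun c => by
        rw [map_sum]
        exact Finset.sum_congr rfl fun j _ => by rw [map_mul, hg']
      change qX (∑ j, g (c j) * x j) = qX (∑ j, g (d j) * x j) at h2
      rw [h3, h3] at h2
      have h4 := h.1 (a₁ := fun j => eqι s t (c j)) (a₂ := fun j => eqι s t (d j)) h2
      funext j
      exact eqι_injective s t (congrFun h4 j)
    · intro α
      obtain ⟨b, hb⟩ := h.2 (qX α)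
      change ∑ j, fB (b j) * qX (x j) = qX α at hb
      have h2 : ∑ j, fC (s (b j) - t (b j)) * sX (qX (x j)) = 0 := by
        have e1 : ∑ j, fC (s (b j)) * sX (qX (x j)) = sX (qX α) := by
          rw [← hb, map_sum]
          exact Finset.sum_congr rfl fun j _ => by rw [map_mul]; congr 1; exact congr($(hs.w) (b j))
        have e2 : ∑ j, fC (t (b j)) * sX (qX (x j)) = sX (qX α) := by
          have e3 : ∀ α, sX (qX α) = tX (qX α) := fun α => congr($(hX.po.w) α)
          rw [e3, ← hb, map_sum]
          exact Finset.sum_congr rfl fun j _ => by rw [map_mul, e3]; congr 1; exact congr($(ht.w) (b j))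
        have e3 : ∑ j, fC (s (b j) - t (b j)) * sX (qX (x j)) =
            ∑ j, fC (s (b j)) * sX (qX (x j)) - ∑ j, fC (t (b j)) * sX (qX (x j)) := by
          rw [← Finset.sum_sub_distrib]
          exact Finset.sum_congr rfl fun j _ => by rw [map_sub, sub_mul]
        rw [e3, e1, e2, sub_self]
      have h3 := mem_span_of_relation hs hflat (fun j => qX (x j)) (fun j => s (b j) - t (b j)) h2
      have h4 : (fun b : κ → B => fun j => s (b j)) '' {b | ∑ j, fB (b j) * qX (x j) = 0} ⊆ {0} := by
        rintro _ ⟨b', hb', rfl⟩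
        have : b' = 0 := hinj b' hb'
        rw [this]
        exact funext fun j => map_zero s.hom
      have h5 := Submodule.span_mono (R := C) h4 h3
      rw [Submodule.span_singleton_eq_bot.2 rfl] at h5
      have h6 : ∀ j, s (b j) = t (b j) := fun j => sub_eq_zero.1 (congrFun h5 j)
      refine ⟨fun j => ⟨b j, h6 j⟩, hX.injective ?_⟩
      change qX (∑ j, g ⟨b j, h6 j⟩ * x j) = _
      rw [map_sum, ← hb]
      exact Finset.sum_congr rfl fun j _ => by rw [map_mul, hg']; rfl
  have sq : IsPushout (eqι s t) g fB qX := isPushout_of_basis hg.symm x h1 h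
  have hff : g.hom.FaithfullyFlat := by
    let a2 : Algebra (EqL s t) AX := g.hom.toAlgebra
    let L1 : (κ → EqL s t) →ₗ[EqL s t] AX :=
      { toFun := fun c => ∑ j, g (c j) * x j
        map_add' := fun a b => by
          rw [← Finset.sum_add_distrib]
          exact Finset.sum_congr rfl fun j _ => by rw [Pi.add_apply, map_add, add_mul]
        map_smul' := fun r b => by
          change ∑ j, g (r * b j) * x j = g r * ∑ j, g (b j) * x j
          rw [Finset.mul_sum]
          exact Finset.sum_congr rfl fun j _ => by rw [map_mul, mul_assoc] }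
    let e1 : (κ → EqL s t) ≃ₗ[EqL s t] AX := LinearEquiv.ofBijective L1 h1
    exact Module.FaithfullyFlat.of_linearEquiv (EqL s t) (κ →₀ EqL s t)
      (((Finsupp.linearEquivFunOnFinite (EqL s t) (EqL s t) κ).trans e1).symm)
  exact isEff_of_cover (eqι_w s t) ht hs hX sq hff

end K603.Free
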