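import Groth.Agent.AlgSp.K603.Loc
import Groth.Agent.S0399

/-!
# Gluing quotients along an invariant nonzerodivisor
-/

set_option autoImplicit false
universe u
open CategoryTheory CategoryTheory.Limits TensorProduct

namespace K603.Glue

open K603.Eff K603.Loc

/-- Flatness from the two parts `D(a)`, `V(a)`, in `CommRingCat`. -/
theorem flat_of_parts {A B B' Q B1 : CommRingCat.{u}} {i : A ⟶ B} (a : A)
    (hA : ∀ x : A, a * x = 0 → x = 0) (hB : ∀ x : B, i a * x = 0 → x = 0)
    {β : B ⟶ B'} {i' : LR a ⟶ B'} (sq : IsPushout i (lι a) β i') (hi' : i'.hom.Flat)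
    {f : A ⟶ Q} {χ : B ⟶ B1} {q : Q ⟶ B1} (sq1 : IsPushout i f χ q) (hf : Function.Surjective f)
    (hker : RingHom.ker f.hom = Ideal.span {a}) (hq : q.hom.Flat) : i.hom.Flat := by
  let a1 : Algebra A B := i.hom.toAlgebra
  have m1 : Module.Flat (Localization.Away a) (LocalizedModule (Submonoid.powers a) B) := by
    let a2 : Algebra B B' := β.hom.toAlgebra
    let a3 : Algebra (LR a) B' := i'.hom.toAlgebra
    let a4 : Algebra A B' := (i ≫ β).hom.toAlgebra
    have t1 : IsScalarTower A B B' := IsScalarTower.of_algebraMap_eq fun _ => rfl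
    have t2 : IsScalarTower A (LR a) B' := IsScalarTower.of_algebraMap_eq fun x => congr($(sq.w) x)
    have P : Algebra.IsPushout A (LR a) B B' := CommRingCat.isPushout_iff_isPushout.1 sq.flip
    have hB' : Module.Flat (LR a) B' := hi'
    let e1 : (LR a) ⊗[A] B ≃ₗ[LR a] B' := P.out.equiv
    let e2 : Localization.Away a ⊗[A] B ≃ₗ[Localization.Away a] LocalizedModule (Submonoid.powers a) B :=
      (LocalizedModule.isBaseChange (Submonoid.powers a) B).equiv
    have f1 : Module.Flat (Localization.Away a) (Localization.Away a ⊗[A] B) := Module.Flat.of_linearEquiv e1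
    exact Module.Flat.of_linearEquiv e2.symm
  have m2 : Module.Flat (A ⧸ Ideal.span {a}) ((A ⧸ Ideal.span {a}) ⊗[A] B) := by
    let Q' : CommRingCat.{u} := CommRingCat.of (A ⧸ Ideal.span {a})
    obtain ⟨k, hk⟩ := K603.Eff.exists_lift (Ideal.Quotient.mk (Ideal.span {a})) Ideal.Quotient.mk_surjective f.hom
      (by rw [Ideal.mk_ker, hker])
    have hkb : Function.Bijective k := by
      constructor
      · rw [injective_iff_map_eq_zero]
        intro x hx
        obtain ⟨y, rfl⟩ := Ideal.Quotient.mk_surjective x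
        rw [Ideal.Quotient.eq_zero_iff_mem, ← hker]
        exact (congr($hk y)).symm.trans hx
      · intro y
        obtain ⟨x, rfl⟩ := hf y
        exact ⟨Ideal.Quotient.mk _ x, congr($hk x)⟩
    let κ : Q' ⟶ Q := CommRingCat.ofHom k
    have hκ : IsIso κ := (ConcreteCategory.isIso_iff_bijective κ).2 hkb
    let π : A ⟶ Q' := CommRingCat.ofHom (algebraMap A (A ⧸ Ideal.span {a}))
    have hπ : π ≫ κ = f := by ext x; exact congr($hk x)
    have sq2 : IsPushout i π χ (κ ≫ q) :=
      IsPushout.of_iso sq1 (Iso.refl _) (Iso.refl _) (asIso κ).symm (Iso.refl _) (by simp) (by simp [← hπ]) (by simp)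
        (by simp)
    let a2 : Algebra B B1 := χ.hom.toAlgebra
    let a3 : Algebra (A ⧸ Ideal.span {a}) B1 := (κ ≫ q).hom.toAlgebra
    let a4 : Algebra A B1 := (i ≫ χ).hom.toAlgebra
    have t1 : IsScalarTower A B B1 := IsScalarTower.of_algebraMap_eq fun _ => rfl
    have t2 : IsScalarTower A (A ⧸ Ideal.span {a}) B1 := IsScalarTower.of_algebraMap_eq fun x => congr($(sq2.w) x)
    have P : Algebra.IsPushout A (A ⧸ Ideal.span {a}) B B1 := CommRingCat.isPushout_iff_isPushout.1 sq2.flip
    let e1 : (A ⧸ Ideal.span {a}) ⊗[A] B ≃ₗ[A ⧸ Ideal.span {a}] B1 := P.out.equiv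
    have hB1 : Module.Flat (A ⧸ Ideal.span {a}) B1 := by
      have h1 : κ.hom.Flat := RingHom.Flat.of_bijective hkb
      exact RingHom.Flat.comp h1 hq
    exact Module.Flat.of_linearEquiv e1
  have h1 : a ∈ nonZeroDivisors A := by
    rw [mem_nonZeroDivisors_iff]
    exact ⟨fun x hx => hA x hx, fun x hx => hA x (by rw [mul_comm]; exact hx)⟩
  have h2 : IsSMulRegular B a := by
    intro x y hxy
    apply sub_eq_zero.1
    apply hB
    rw [mul_sub, sub_eq_zero]
    exact hxy
  exact Groth.Agent.S0399.result a h1 h2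

/-- **Gluing quotients along an invariant nonzerodivisor.** -/
theorem isEff_glue {B C B1 C1 : CommRingCat.{u}} {s t : B ⟶ C} {b : B} {c : C} (hsb : s b = c) (htb : t b = c)
    (hbB : ∀ x : B, b * x = 0 → x = 0) (hcC : ∀ x : C, c * x = 0 → x = 0)
    (Ha : ∀ (s' t' : LR b ⟶ LR c), IsPushout s (lι b) (lι c) s' → IsPushout t (lι b) (lι c) t' →
      IsEff (eqι s' t') s' t')
    {χ : B ⟶ B1} {γ : C ⟶ C1} {s0 t0 : B1 ⟶ C1} (sub : Sub s t χ γ s0 t0) (hker : RingHom.ker χ.hom = Ideal.span {b})
    (H1 : HasQuot s0 t0) (hsurj : ∀ x : B, γ (s x) = γ (t x) → ∃ y : B, s (x + b * y) = t (x + b * y)) :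
    IsEff (eqι s t) s t := by
  obtain ⟨A1, q1, hq1⟩ := H1
  let i := eqι s t
  let a : EqL s t := ⟨b, hsb.trans htb.symm⟩
  have hib : i a = b := rfl
  have haA : ∀ x : EqL s t, a * x = 0 → x = 0 := fun x hx => by
    apply eqι_injective s t
    rw [map_zero]
    apply hbB
    have := congrArg i hx
    rwa [map_mul, map_zero] at this
  -- the closed part
  obtain ⟨f, hf⟩ := hq1.exists_lift (i ≫ χ) (by
    rw [Category.assoc, Category.assoc, ← sub.hs.w, ← sub.ht.w, reassoc_of% eqι_w s t])
  have hf' : ∀ x, q1 (f x) = χ (i x) := fun x => congr($hf x)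
  have hfs : Function.Surjective f := fun y => by
    obtain ⟨x, hx⟩ := sub.surj (q1 y)
    have h1 : γ (s x) = γ (t x) := by
      have e1 : γ (s x) = s0 (χ x) := congr($(sub.hs.w) x)
      have e2 : γ (t x) = t0 (χ x) := congr($(sub.ht.w) x)
      have e3 : s0 (q1 y) = t0 (q1 y) := congr($(hq1.po.w) y)
      have hx' : χ x = q1 y := hx
      rw [e1, e2, hx', e3]
    obtain ⟨y', hy'⟩ := hsurj x h1
    refine ⟨⟨x + b * y', hy'⟩, hq1.injective ?_⟩
    rw [hf']
    change χ (x + b * y') = _
    have h2 : χ b = 0 := by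
      have : b ∈ RingHom.ker χ.hom := by rw [hker]; exact Ideal.mem_span_singleton_self b
      exact this
    rw [map_add, map_mul, h2, zero_mul, add_zero]
    exact hx
  have hkf : RingHom.ker f.hom = Ideal.span {a} := by
    apply le_antisymm
    · intro x hx
      have hx' : f x = 0 := hx
      have h1 : i x ∈ RingHom.ker χ.hom := by
        change χ (i x) = 0
        rw [← hf', hx', map_zero]
      rw [hker, Ideal.mem_span_singleton'] at h1
      obtain ⟨y, hy⟩ := h1
      have h2 : s y = t y := by
        apply sub_eq_zero.1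
        apply hcC
        have h3 : s (i x) = t (i x) := congr($(eqι_w s t) x)
        rw [← hy, map_mul, map_mul, hsb, htb] at h3
        rw [mul_sub, mul_comm c, mul_comm c, h3, sub_self]
      rw [Ideal.mem_span_singleton']
      refine ⟨⟨y, h2⟩, eqι_injective s t ?_⟩
      exact hy
    · rw [Ideal.span_singleton_le_iff_mem]
      change f a = 0
      apply hq1.injective
      rw [hf', map_zero]
      have : b ∈ RingHom.ker χ.hom := by rw [hker]; exact Ideal.mem_span_singleton_self b
      exact this
  have sq1 : IsPushout i f χ q1 := by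
    refine isPushout_of_surjective hf.symm hfs sub.surj ?_
    rw [hker, hkf, Ideal.map_span, Set.image_singleton]
    exact le_rfl
  -- the open part
  have := epi_lι a
  have := epi_lι b
  have := epi_lι c
  obtain ⟨i', sq⟩ := exists_map i hib
  obtain ⟨s', hs'⟩ := exists_map s hsb
  obtain ⟨t', ht'⟩ := exists_map t htb
  have hE := Ha s' t' hs' ht'
  have hi'w : i' ≫ s' = i' ≫ t' := by
    rw [← cancel_epi (lι a), ← reassoc_of% sq.w, ← reassoc_of% sq.w, ← hs'.w, ← ht'.w, reassoc_of% eqι_w s t]
  obtain ⟨y, hy⟩ := hE.exists_lift i' hi'w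
  have hy' : ∀ z, eqι s' t' (y z) = i' z := fun z => congr($hy z)
  have sqe : ∀ z, i' (lι a z) = lι b (i z) := fun z => congr($(sq.w) z).symm
  have hyb : Function.Bijective y := by
    constructor
    · rw [injective_iff_map_eq_zero y.hom]
      intro z hz
      obtain ⟨n, x, hx⟩ := surj a z
      have h1 : i' z = 0 := by
        rw [← hy']
        have : y z = 0 := hz
        rw [this, map_zero]
      have h2 : lι b (i x) = 0 := by rw [← sqe, ← hx, map_mul, h1, mul_zero]
      have h3 : i x = 0 := injective b hbB (by rw [h2, map_zero])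
      have h4 : x = 0 := eqι_injective s t (by rw [map_zero]; exact h3)
      rw [h4, map_zero] at hx
      exact ((isUnit_pow a n).mul_right_eq_zero).1 hx
    · rintro ⟨z, hz⟩
      have hz' : s' z = t' z := hz
      obtain ⟨n, x, hx⟩ := surj b z
      have h1 : s x = t x := by
        apply injective c hcC
        have e1 : lι c (s x) = s' (lι b x) := congr($(hs'.w) x)
        have e2 : lι c (t x) = t' (lι b x) := congr($(ht'.w) x)
        rw [e1, e2, ← hx, map_mul, map_mul, hz']
        congr 1
        have e3 : s' (lι b (b ^ n)) = lι c (s (b ^ n)) := congr($(hs'.w) (b ^ n)).symm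
        have e4 : t' (lι b (b ^ n)) = lι c (t (b ^ n)) := congr($(ht'.w) (b ^ n)).symm
        have e5 : s (b ^ n) = t (b ^ n) := by rw [map_pow, map_pow, hsb, htb]
        rw [e3, e4, e5]
      obtain ⟨ε, hε⟩ := (isUnit_pow a n).exists_left_inv
      refine ⟨ε * lι a ⟨x, h1⟩, eqι_injective s' t' ?_⟩
      rw [hy']
      change i' (ε * lι a ⟨x, h1⟩) = z
      rw [map_mul, sqe]
      change i' ε * lι b x = z
      rw [← hx, ← mul_assoc]
      have h2 : i' ε * lι b (b ^ n) = 1 := by
        have h3 : lι b (b ^ n) = i' (lι a (a ^ n)) := by rw [sqe]; rfl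
        rw [h3, ← map_mul, hε, map_one]
      rw [h2, one_mul]
  have hyi : IsIso y := (ConcreteCategory.isIso_iff_bijective y).2 hyb
  have hE' : IsEff i' s' t' := by
    refine ⟨?_, IsPushout.of_iso hE.po (asIso y).symm (Iso.refl _) (Iso.refl _) (Iso.refl _)
      (by simp [← hy]) (by simp [← hy]) (by simp) (by simp)⟩
    rw [← hy, CommRingCat.hom_comp]
    exact RingHom.FaithfullyFlat.stableUnderComposition _ _ (RingHom.FaithfullyFlat.of_bijective hyb) hE.ff
  -- flatness
  have hfl : i.hom.Flat := flat_of_parts a haA hbB sq hE'.ff.flat sq1 hfs hkf hq1.ff.flat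
  have hff : i.hom.FaithfullyFlat := by
    rw [RingHom.FaithfullyFlat.iff_flat_and_comap_surjective]
    refine ⟨hfl, fun P => ?_⟩
    by_cases ha : a ∈ P.asIdeal
    · obtain ⟨P1, rfl⟩ : ∃ P1, PrimeSpectrum.comap f.hom P1 = P := by
        have : P ∈ Set.range (PrimeSpectrum.comap f.hom) := by
          rw [range_comap_of_surjective _ _ hfs, hkf]
          exact (Ideal.span_singleton_le_iff_mem _).2 ha
        exact this
      obtain ⟨Q, rfl⟩ := (RingHom.FaithfullyFlat.iff_flat_and_comap_surjective.1 hq1.ff).2 P1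
      refine ⟨PrimeSpectrum.comap χ.hom Q, ?_⟩
      rw [← PrimeSpectrum.comap_comp_apply, ← PrimeSpectrum.comap_comp_apply]
      congr 1
      exact congr(($hf.symm).hom)
    · obtain ⟨P1, rfl⟩ : ∃ P1, PrimeSpectrum.comap (lι a).hom P1 = P := by
        have : P ∈ Set.range (PrimeSpectrum.comap (algebraMap (EqL s t) (Localization.Away a))) := by
          rw [PrimeSpectrum.localization_away_comap_range (Localization.Away a) a]
          exact ha
        exact this
      obtain ⟨Q, rfl⟩ := (RingHom.FaithfullyFlat.iff_flat_and_comap_surjective.1 hE'.ff).2 P1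
      refine ⟨PrimeSpectrum.comap (lι b).hom Q, ?_⟩
      rw [← PrimeSpectrum.comap_comp_apply, ← PrimeSpectrum.comap_comp_apply]
      congr 1
      exact congr(($(sq.w)).hom)
  refine ⟨hff, ?_⟩
  have po := IsPushout.of_hasPushout i i
  let θ : pushout i i ⟶ C := po.desc s t (eqι_w s t)
  have hθ1 : pushout.inl i i ≫ θ = s := po.inl_desc _ _ _
  have hθ2 : pushout.inr i i ≫ θ = t := po.inr_desc _ _ _
  let p : (pushout i i : CommRingCat.{u}) := pushout.inr i i b
  have hθp : θ p = c := by rw [← htb]; exact congr($hθ2 b)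
  have hinr : (pushout.inr i i).hom.Flat := flat_of_isPushout po hfl
  have hp : ∀ x, p * x = 0 → x = 0 := fun x hx => by
    have h1 := mem_map_of_mul_eq_zero (isPushout_id (pushout.inr i i)) hinr b x ?_ ⊥ ?_
    · rw [Ideal.map_bot] at h1
      exact h1
    · change x * p = 0
      rw [mul_comm]; exact hx
    · intro z hz
      have hz' : z * b = 0 := hz
      exact hbB z (by rw [mul_comm]; exact hz')
  have big1 : IsPushout i (i ≫ χ) (χ ≫ s0) t0 := by
    rw [← hf]; exact sq1.paste_vert hq1.po
  have fin1 : IsPushout (pushout.inr i i) χ (θ ≫ γ) t0 := by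
    refine IsPushout.of_top (h₁₁ := i) (v₁₁ := i) (v₁₂ := pushout.inl i i) ?_ ?_ po
    · rw [reassoc_of% hθ1, sub.hs.w]; exact big1
    · rw [reassoc_of% hθ2, sub.ht.w]
  have hk1 : RingHom.ker (θ ≫ γ).hom = Ideal.span {p} := by
    rw [ker_of_isPushout fin1 sub.surj, hker, Ideal.map_span, Set.image_singleton]
  have big2 : IsPushout i (i ≫ lι b) (lι b ≫ s') t' := by
    rw [sq.w]; exact sq.paste_vert hE'.po
  have fin2 : IsPushout (pushout.inr i i) (lι b) (θ ≫ lι c) t' := by
    refine IsPushout.of_top (h₁₁ := i) (v₁₁ := i) (v₁₂ := pushout.inl i i) ?_ ?_ po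
    · rw [reassoc_of% hθ1, hs'.w]; exact big2
    · rw [reassoc_of% hθ2, ht'.w]
  obtain ⟨r', hr'⟩ := exists_map (pushout.inr i i) (r := b) (r' := p) rfl
  let e : LR p ≅ LR c := hr'.isoIsPushout _ _ fin2
  have he : lι p ≫ e.hom = θ ≫ lι c := by simp [e]
  have he' : ∀ x, e.hom (lι p x) = lι c (θ x) := fun x => congr($he x)
  have hebij : Function.Bijective e.hom := (ConcreteCategory.isIso_iff_bijective e.hom).1 inferInstance
  have hbij : Function.Bijective θ := by
    constructor
    · rw [injective_iff_map_eq_zero θ.hom]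
      intro x hx
      have hx' : θ x = 0 := hx
      apply injective p hp
      apply hebij.1
      rw [he', hx', map_zero, map_zero, map_zero]
    · have key : ∀ (n : ℕ) (y : C) (x : (pushout i i : CommRingCat.{u})), θ x = c ^ n * y → ∃ x, θ x = y := by
        intro n
        induction n with
        | zero => exact fun y x h => ⟨x, by rw [h, pow_zero, one_mul]⟩
        | succ n ih =>
          intro y x h
          have h1 : x ∈ RingHom.ker (θ ≫ γ).hom := by
            change γ (θ x) = 0
            have h2 : γ c = 0 := by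
              have h3 : γ (s b) = s0 (χ b) := congr($(sub.hs.w) b)
              have h4 : χ b = 0 := by
                have : b ∈ RingHom.ker χ.hom := by rw [hker]; exact Ideal.mem_span_singleton_self b
                exact this
              rw [← hsb, h3, h4, map_zero]
            rw [h, pow_succ, mul_assoc, map_mul, map_mul, h2, zero_mul, mul_zero]
          rw [hk1, Ideal.mem_span_singleton'] at h1
          obtain ⟨x', hx'⟩ := h1
          apply ih y x'
          apply sub_eq_zero.1
          apply hcC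
          rw [← hx', map_mul, hθp] at h
          rw [mul_sub, mul_comm c (θ x'), h]
          ring
      intro y
      obtain ⟨z, hz⟩ := hebij.2 (lι c y)
      obtain ⟨n, x, hx⟩ := surj p z
      apply key n y x
      apply injective c hcC
      rw [← he', ← hx, map_mul, map_mul, hz]
      congr 1
      rw [he', map_pow, hθp]
  have : IsIso θ := (ConcreteCategory.isIso_iff_bijective θ).2 hbij
  exact IsPushout.of_iso po (Iso.refl _) (Iso.refl _) (Iso.refl _) (asIso θ) (by simp [i]) (by simp [i])
    (by simpa using hθ1) (by simpa using hθ2)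

end K603.Glue
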