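import Mathlib.AlgebraicGeometry.Morphisms.Immersion
import Mathlib.AlgebraicGeometry.Morphisms.FiniteType

/-!
# Immersions of quasi-compact schemes into affine schemes, in terms of subrings of global functions
-/

set_option autoImplicit false
universe u
open CategoryTheory CategoryTheory.Limits AlgebraicGeometry Opposite TopologicalSpace

namespace K603.ImmAff

variable {V : Scheme.{u}}

/-- Restriction of a global function. -/
noncomputable abbrev res (U : V.Opens) : Γ(V, ⊤) ⟶ Γ(V, U) := V.presheaf.map (homOfLE le_top).op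

/-- The subring `I` of global functions defines an immersion to an affine scheme. -/
def Good (I : Subring Γ(V, ⊤)) : Prop :=
  ∀ v : V, ∃ r ∈ I, ∃ W : V.Opens, W = V.basicOpen r ∧ v ∈ W ∧ IsAffineOpen W ∧
    ∀ c : Γ(V, W), ∃ (N : ℕ), ∃ x ∈ I, res W x = (res W r) ^ N * c

theorem preimage_basicOpen {R : CommRingCat.{u}} (ρ : R ⟶ Γ(V, ⊤)) (r : R) :
    (V.toSpecΓ ≫ Spec.map ρ) ⁻¹ᵁ (PrimeSpectrum.basicOpen r) = V.basicOpen (ρ r) := by
  rw [Scheme.Hom.comp_preimage]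
  have : (Spec.map ρ) ⁻¹ᵁ (PrimeSpectrum.basicOpen r) = PrimeSpectrum.basicOpen (ρ r) := rfl
  rw [this, Scheme.toSpecΓ_preimage_basicOpen]

/-- the restriction of an element of the ring to an open of its spectrum -/
noncomputable abbrev toO (R : CommRingCat.{u}) (U : (Spec R).Opens) : R ⟶ Γ(Spec R, U) :=
  (Scheme.ΓSpecIso R).inv ≫ (Spec R).presheaf.map (homOfLE le_top).op

theorem toO_app {R : CommRingCat.{u}} (ρ : R ⟶ Γ(V, ⊤)) (U : (Spec R).Opens) :
    toO R U ≫ (V.toSpecΓ ≫ Spec.map ρ).app U = ρ ≫ res _ := by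
  rw [toO, Category.assoc, Scheme.Hom.naturality]
  have h : (V.toSpecΓ ≫ Spec.map ρ).appTop = (Scheme.ΓSpecIso R).hom ≫ ρ := by
    rw [Scheme.Hom.comp_appTop, Scheme.toSpecΓ_appTop, Scheme.ΓSpecIso_naturality]
  change (Scheme.ΓSpecIso R).inv ≫ (V.toSpecΓ ≫ Spec.map ρ).appTop ≫ _ = _
  rw [h, Category.assoc, Iso.inv_hom_id_assoc]
  rfl

theorem surjective_appLE {X Y : Scheme.{u}} (f : X ⟶ Y) {A A' : Y.Opens} {B B' : X.Opens} (hA : A = A')
    (hB : B = B') (e : B ≤ f ⁻¹ᵁ A) (e' : B' ≤ f ⁻¹ᵁ A') :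
    Function.Surjective (f.appLE A B e) ↔ Function.Surjective (f.appLE A' B' e') := by
  subst hA hB
  rfl

theorem surjective_appTop_restrict_iff {X Y : Scheme.{u}} (f : X ⟶ Y) (U : Y.Opens) :
    Function.Surjective (f ∣_ U).appTop ↔ Function.Surjective (f.app U) := by
  rw [Scheme.Hom.appTop, morphismRestrict_app', ← Scheme.Hom.appLE_eq_app]
  exact surjective_appLE f (by simp) (by simp) _ _

theorem isClosedImmersion_restrict {X Y : Scheme.{u}} (f : X ⟶ Y) [IsImmersion f] (U : Y.Opens)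
    (hU : U ≤ f.coborderRange) : IsClosedImmersion (f ∣_ U) := by
  refine IsClosedImmersion.of_isPreimmersion _ ?_
  have h1 : Set.range (f ∣_ U) = (U.ι : U → Y) ⁻¹' Set.range f := by
    ext y
    constructor
    · rintro ⟨x, rfl⟩
      refine ⟨(f ⁻¹ᵁ U).ι x, ?_⟩
      rw [← Scheme.Hom.comp_apply, ← Scheme.Hom.comp_apply, morphismRestrict_ι]
    · rintro ⟨x, hx⟩
      have hxU : x ∈ f ⁻¹ᵁ U := by
        change f x ∈ U
        rw [hx]; exact y.2
      refine ⟨⟨x, hxU⟩, ?_⟩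
      apply U.ι.isOpenEmbedding.injective
      rw [← Scheme.Hom.comp_apply, morphismRestrict_ι, ← hx]
      rfl
  have h2 : (U.ι : U → Y) ⁻¹' Set.range f = (U.ι : U → Y) ⁻¹' closure (Set.range f) := by
    ext y
    refine ⟨fun h => subset_closure h, fun h => ?_⟩
    have h3 : U.ι y ∈ coborder (Set.range f) := hU y.2
    by_contra h4
    exact h3 ⟨h, h4⟩
  rw [h1, h2]
  exact isClosed_closure.preimage U.ι.continuous

theorem isUnit_res (r : Γ(V, ⊤)) {W : V.Opens} (hW : W = V.basicOpen r) : IsUnit (res W r) := by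
  subst hW
  exact RingedSpace.isUnit_res_basicOpen _ _

theorem isAffineOpen_basicOpen (R : CommRingCat.{u}) (x : R) :
    IsAffineOpen (X := Spec R) (PrimeSpectrum.basicOpen x) := by
  rw [← basicOpen_eq_of_affine (R := R) x]
  exact (isAffineOpen_top (Spec R)).basicOpen _

theorem isUnit_toO (R : CommRingCat.{u}) (x : R) : IsUnit (toO R (PrimeSpectrum.basicOpen x) x) := by
  have h : (PrimeSpectrum.basicOpen x : (Spec R).Opens) = (Spec R).basicOpen ((Scheme.ΓSpecIso R).inv x) :=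
    (basicOpen_eq_of_affine (R := R) x).symm
  exact isUnit_res (V := Spec R) ((Scheme.ΓSpecIso R).inv x) h

theorem exists_toO (R : CommRingCat.{u}) (x : R) (y : Γ(Spec R, PrimeSpectrum.basicOpen x)) :
    ∃ (N : ℕ) (z : R), toO R (PrimeSpectrum.basicOpen x) z = (toO R (PrimeSpectrum.basicOpen x) x) ^ N * y := by
  have h : (PrimeSpectrum.basicOpen x : (Spec R).Opens) = (Spec R).basicOpen ((Scheme.ΓSpecIso R).inv x) :=
    (basicOpen_eq_of_affine (R := R) x).symm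
  have key : ∀ (U : (Spec R).Opens) (hU : U = (Spec R).basicOpen ((Scheme.ΓSpecIso R).inv x)) (y : Γ(Spec R, U)),
      ∃ (N : ℕ) (z : R), toO R U z = (toO R U x) ^ N * y := by
    rintro U rfl y
    have hloc := (isAffineOpen_top (Spec R)).isLocalization_basicOpen ((Scheme.ΓSpecIso R).inv x)
    obtain ⟨N, a, ha⟩ := IsLocalization.Away.surj ((Scheme.ΓSpecIso R).inv x) y
    refine ⟨N, (Scheme.ΓSpecIso R).hom a, ?_⟩
    have e : (Scheme.ΓSpecIso R).inv ((Scheme.ΓSpecIso R).hom a) = a := by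
      rw [← CommRingCat.comp_apply, Iso.hom_inv_id, CommRingCat.id_apply]
    rw [toO, CommRingCat.comp_apply, e, mul_comm]
    exact ha.symm
  exact key _ h y

instance respectsRight : MorphismProperty.RespectsRight @IsImmersion.{u} @IsOpenImmersion where
  postcomp i hi f hf := by
    have : IsImmersion f := hf
    have : IsOpenImmersion i := hi
    exact (inferInstance : IsImmersion (f ≫ i))

theorem isImmersion {R : CommRingCat.{u}} (ρ : R ⟶ Γ(V, ⊤)) (h : Good ρ.hom.range) :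
    IsImmersion (V.toSpecΓ ≫ Spec.map ρ) := by
  choose r hr W hW hv haff hsurj using h
  choose x hx using hr
  obtain rfl : r = fun v => ρ (x v) := (funext hx).symm
  refine IsZariskiLocalAtTarget.of_range_subset_iSup (P := @IsImmersion)
    (fun v : V => (PrimeSpectrum.basicOpen (x v) : (Spec R).Opens)) ?_ fun v => ?_
  · rintro _ ⟨v, rfl⟩
    have h1 : v ∈ (V.toSpecΓ ≫ Spec.map ρ) ⁻¹ᵁ (PrimeSpectrum.basicOpen (x v)) := by
      rw [preimage_basicOpen, ← hW]
      exact hv v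
    exact Opens.mem_iSup.2 ⟨v, h1⟩
  · have hpre : W v = (V.toSpecΓ ≫ Spec.map ρ) ⁻¹ᵁ (PrimeSpectrum.basicOpen (x v)) := by
      rw [preimage_basicOpen, hW]
    obtain ⟨W', hW', haff', hsurj'⟩ : ∃ W', W' = W v ∧ IsAffineOpen W' ∧ ∀ c : Γ(V, W'),
      ∃ (N : ℕ), ∃ y ∈ ρ.hom.range, res W' y = (res W' (ρ (x v))) ^ N * c := ⟨_, rfl, haff v, hsurj v⟩
    obtain rfl : W' = (V.toSpecΓ ≫ Spec.map ρ) ⁻¹ᵁ (PrimeSpectrum.basicOpen (x v)) := hW'.trans hpre
    have h1 : IsAffine ((V.toSpecΓ ≫ Spec.map ρ) ⁻¹ᵁ (PrimeSpectrum.basicOpen (x v)) : V.Opens) := haff'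
    have h2 : IsAffine (Scheme.Opens.toScheme (X := Spec R) (PrimeSpectrum.basicOpen (x v))) :=
      isAffineOpen_basicOpen _ _
    have : IsClosedImmersion ((V.toSpecΓ ≫ Spec.map ρ) ∣_ (PrimeSpectrum.basicOpen (x v))) := by
      refine IsClosedImmersion.of_surjective_of_isAffine _ ?_
      rw [surjective_appTop_restrict_iff]
      intro c
      obtain ⟨N, _, ⟨y, rfl⟩, hy⟩ := hsurj' c
      have hu := (isUnit_toO R (x v)).pow N
      refine ⟨(↑hu.unit⁻¹ : Γ(Spec R, PrimeSpectrum.basicOpen (x v))) *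
        toO R (PrimeSpectrum.basicOpen (x v)) y, ?_⟩
      have e1 : ∀ z : R, (V.toSpecΓ ≫ Spec.map ρ).app (PrimeSpectrum.basicOpen (x v)) (toO R _ z) =
          res _ (ρ z) := fun z => congrArg (fun φ => φ z) (toO_app ρ (PrimeSpectrum.basicOpen (x v)))
      have hu' := hu.map ((V.toSpecΓ ≫ Spec.map ρ).app (PrimeSpectrum.basicOpen (x v))).hom
      apply hu'.mul_left_cancel
      change (V.toSpecΓ ≫ Spec.map ρ).app (PrimeSpectrum.basicOpen (x v)) _ *
        (V.toSpecΓ ≫ Spec.map ρ).app (PrimeSpectrum.basicOpen (x v)) _ =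
        (V.toSpecΓ ≫ Spec.map ρ).app (PrimeSpectrum.basicOpen (x v)) _ * c
      rw [← map_mul, ← mul_assoc, IsUnit.mul_val_inv, one_mul, e1, map_pow, e1]
      exact hy
    infer_instance

theorem good {R : CommRingCat.{u}} (ρ : R ⟶ Γ(V, ⊤)) [IsImmersion (V.toSpecΓ ≫ Spec.map ρ)] :
    Good ρ.hom.range := by
  intro v
  obtain ⟨_, ⟨_, ⟨x, rfl⟩, rfl⟩, hxv, hx⟩ := PrimeSpectrum.isBasis_basic_opens.exists_subset_of_mem_open
    (show (V.toSpecΓ ≫ Spec.map ρ) v ∈ ((V.toSpecΓ ≫ Spec.map ρ).coborderRange : Set _) from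
      subset_coborder ⟨v, rfl⟩) (V.toSpecΓ ≫ Spec.map ρ).coborderRange.isOpen
  have hcl := isClosedImmersion_restrict (V.toSpecΓ ≫ Spec.map ρ) (PrimeSpectrum.basicOpen x) hx
  have h2 : IsAffine (Scheme.Opens.toScheme (X := Spec R) (PrimeSpectrum.basicOpen x)) :=
    isAffineOpen_basicOpen _ _
  have h3 := IsClosedImmersion.isAffine_surjective_of_isAffine
    ((V.toSpecΓ ≫ Spec.map ρ) ∣_ (PrimeSpectrum.basicOpen x))
  refine ⟨ρ x, ⟨x, rfl⟩, (V.toSpecΓ ≫ Spec.map ρ) ⁻¹ᵁ (PrimeSpectrum.basicOpen x),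
    preimage_basicOpen _ _, hxv, h3.1, fun c => ?_⟩
  obtain ⟨y, rfl⟩ := ((surjective_appTop_restrict_iff _ _).1 h3.2) c
  obtain ⟨N, z, hz⟩ := exists_toO R x y
  have e1 : ∀ z : R, (V.toSpecΓ ≫ Spec.map ρ).app (PrimeSpectrum.basicOpen x) (toO R _ z) =
      res _ (ρ z) := fun z => congrArg (fun φ => φ z) (toO_app ρ (PrimeSpectrum.basicOpen x))
  refine ⟨N, ρ z, ⟨z, rfl⟩, ?_⟩
  rw [← e1, hz, map_mul, map_pow, e1]

/-- `Good` for a directed union of subrings containing the functions on an affine scheme over which `V` is locally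
of finite type: it holds at some stage when `V` is quasi-compact. -/
theorem exists_good {W : Scheme.{u}} [IsAffine W] (q : V ⟶ W) [LocallyOfFiniteType q] [CompactSpace V]
    {ι : Type*} [Nonempty ι] (I : ι → Subring Γ(V, ⊤)) (hdir : Directed (· ≤ ·) I)
    (hq : ∀ i, q.appTop.hom.range ≤ I i) (J : Subring Γ(V, ⊤)) (hJ : ∀ x ∈ J, ∃ i, x ∈ I i) (h : Good J) :
    ∃ i, Good (I i) := by
  have key : ∀ v : V, ∃ i, ∃ r ∈ I i, ∃ W : V.Opens, W = V.basicOpen r ∧ v ∈ W ∧ IsAffineOpen W ∧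
    ∀ c : Γ(V, W), ∃ (N : ℕ), ∃ x ∈ I i, res W x = (res W r) ^ N * c := by
    intro v
    obtain ⟨r, hr, O, hO, hvO, haff, hc⟩ := h v
    obtain ⟨i₀, hi₀⟩ := hJ r hr
    have hft : (q.appLE ⊤ O (by simp)).hom.FiniteType :=
      LocallyOfFiniteType.finiteType_appLE q (isAffineOpen_top W) haff (by simp)
    algebraize [(q.appLE ⊤ O (by simp)).hom]
    obtain ⟨s, hs⟩ := hft
    choose N x hxJ hx using hc
    choose i hi using fun c => hJ _ (hxJ c)
    obtain ⟨j, hj⟩ : ∃ j, I i₀ ≤ I j ∧ ∀ c ∈ s, I (i c) ≤ I j := by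
      classical
      obtain ⟨j, hj⟩ := hdir.finset_le (insert i₀ (s.image i))
      exact ⟨j, hj _ (Finset.mem_insert_self _ _), fun c hc =>
        hj _ (Finset.mem_insert_of_mem (Finset.mem_image_of_mem i hc))⟩
    refine ⟨j, r, hj.1 hi₀, O, hO, hvO, haff, fun c => ?_⟩
    have hc : c ∈ Algebra.adjoin Γ(W, ⊤) (s : Set Γ(V, O)) := by rw [hs]; trivial
    induction hc using Algebra.adjoin_induction with
    | mem c hc => exact ⟨N c, x c, hj.2 c hc (hi c), hx c⟩
    | algebraMap b =>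
      refine ⟨0, q.appTop b, hq j ⟨b, rfl⟩, ?_⟩
      rw [pow_zero, one_mul]
      rfl
    | add a b _ _ ha hb =>
      obtain ⟨Na, xa, hxa, ha⟩ := ha
      obtain ⟨Nb, xb, hxb, hb⟩ := hb
      refine ⟨Na + Nb, r ^ Nb * xa + r ^ Na * xb, add_mem (mul_mem (pow_mem (hj.1 hi₀) _) hxa)
        (mul_mem (pow_mem (hj.1 hi₀) _) hxb), ?_⟩
      rw [map_add, map_mul, map_mul, map_pow, map_pow, ha, hb]
      ring
    | mul a b _ _ ha hb =>
      obtain ⟨Na, xa, hxa, ha⟩ := ha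
      obtain ⟨Nb, xb, hxb, hb⟩ := hb
      refine ⟨Na + Nb, xa * xb, mul_mem hxa hxb, ?_⟩
      rw [map_mul, ha, hb]
      ring
  choose i r hr O hO hv haff hc using key
  obtain ⟨t, ht⟩ := isCompact_univ.elim_finite_subcover (X := V) (fun v => (O v : Set V)) (fun v => (O v).isOpen)
    (fun v _ => Set.mem_iUnion.2 ⟨v, hv v⟩)
  obtain ⟨j, hj⟩ : ∃ j, ∀ v ∈ t, I (i v) ≤ I j := by
    classical
    obtain ⟨j, hj⟩ := hdir.finset_le (t.image i)
    exact ⟨j, fun v hv => hj _ (Finset.mem_image_of_mem i hv)⟩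
  refine ⟨j, fun v => ?_⟩
  obtain ⟨w, hw, hvw⟩ := Set.mem_iUnion₂.1 (ht (Set.mem_univ v))
  refine ⟨r w, hj w hw (hr w), O w, hO w, hvw, haff w, fun c => ?_⟩
  obtain ⟨N, x, hx, hxc⟩ := hc w c
  exact ⟨N, x, hj w hw hx, hxc⟩

/-- The main statement: `U`, `W` affine, `V` quasi-compact and locally of finite type over `W`, such that `V` is immersed
in `Spec (Γ(U) ⊗ Γ(W))`. Then finitely many functions on `U` give an immersion of `V` in an affine space over `W`. -/
theorem exists_finset {W : Scheme.{u}} [IsAffine W] (q : V ⟶ W) [LocallyOfFiniteType q] [CompactSpace V]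
    {A : Type*} [CommRing A] (p : A →+* Γ(V, ⊤))
    (h : Good (p.range ⊔ q.appTop.hom.range)) :
    ∃ s : Finset A, ∀ (R : CommRingCat.{u}) (ρ : R ⟶ Γ(V, ⊤)), q.appTop.hom.range ≤ ρ.hom.range →
      (∀ a ∈ s, p a ∈ ρ.hom.range) → IsImmersion (V.toSpecΓ ≫ Spec.map ρ) := by
  classical
  let I : Finset A → Subring Γ(V, ⊤) := fun s => Subring.closure (p '' s) ⊔ q.appTop.hom.range
  have hmono : Monotone I := fun s t hst => sup_le_sup_right (Subring.closure_mono (Set.image_mono hst)) _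
  have h3 : p.range ⊔ q.appTop.hom.range ≤ ⨆ s, I s := by
    refine sup_le ?_ ((le_sup_right : _ ≤ I ∅).trans (le_iSup I ∅))
    rintro _ ⟨a, rfl⟩
    exact (le_iSup I {a}) ((le_sup_left : _ ≤ I {a}) (Subring.subset_closure ⟨a, by simp, rfl⟩))
  obtain ⟨s, hs⟩ := exists_good q I hmono.directed_le (fun s => le_sup_right) _
    (fun x hx => (Subring.mem_iSup_of_directed hmono.directed_le).1 (h3 hx)) h
  refine ⟨s, fun R ρ h1 h2 => isImmersion ρ ?_⟩
  have hle : I s ≤ ρ.hom.range := sup_le (Subring.closure_le.2 (by rintro _ ⟨a, ha, rfl⟩; exact h2 a ha)) h1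
  intro v
  obtain ⟨r, hr, O, hO, hv, haff, hc⟩ := hs v
  refine ⟨r, hle hr, O, hO, hv, haff, fun c => ?_⟩
  obtain ⟨N, x, hx, hxc⟩ := hc c
  exact ⟨N, x, hle hx, hxc⟩

end K603.ImmAff
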