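import Groth.Agent.AlgSp.K603.Free
import Mathlib.Algebra.Category.Ring.Instances
import Mathlib.RingTheory.Flat.Localization

/-!
# Localization of pairs at an invariant element
-/

set_option autoImplicit false
universe u
open CategoryTheory CategoryTheory.Limits TensorProduct

namespace K603.Loc

open K603.Eff

/-- Localization away from an element. -/
noncomputable abbrev LR {R : CommRingCat.{u}} (r : R) : CommRingCat.{u} := CommRingCat.of (Localization.Away r)

/-- The localization map. -/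
noncomputable abbrev lι {R : CommRingCat.{u}} (r : R) : R ⟶ LR r :=
  CommRingCat.ofHom (algebraMap R (Localization.Away r))

variable {R R' : CommRingCat.{u}}

theorem epi_lι (r : R) : Epi (lι r) := IsLocalization.epi (Submonoid.powers r) (Localization.Away r)

theorem surj (r : R) (y : LR r) : ∃ (n : ℕ) (x : R), lι r (r ^ n) * y = lι r x := by
  obtain ⟨n, x, hx⟩ := IsLocalization.Away.surj r y
  refine ⟨n, x, ?_⟩
  rw [map_pow, mul_comm]
  exact hx

theorem eq_zero (r : R) {x : R} (h : lι r x = 0) : ∃ n : ℕ, r ^ n * x = 0 := by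
  obtain ⟨n, hn⟩ := IsLocalization.Away.exists_of_eq (S := Localization.Away r) r (a := x) (b := 0) (by
    rw [map_zero]; exact h)
  exact ⟨n, by rw [hn, mul_zero]⟩

theorem isUnit (r : R) : IsUnit (lι r r) := IsLocalization.Away.algebraMap_isUnit (S := Localization.Away r) r

theorem isUnit_pow (r : R) (n : ℕ) : IsUnit (lι r (r ^ n)) := by
  rw [map_pow]; exact (isUnit r).pow n

theorem injective (r : R) (hr : ∀ x : R, r * x = 0 → x = 0) : Function.Injective (lι r) := by
  rw [injective_iff_map_eq_zero (lι r).hom]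
  intro x hx
  obtain ⟨n, hn⟩ := eq_zero r hx
  induction n with
  | zero => rwa [pow_zero, one_mul] at hn
  | succ n ih =>
    apply ih
    apply hr
    rw [← mul_assoc, ← pow_succ']
    exact hn

theorem pow_eq_zero {r : R} (hr : ∀ x : R, r * x = 0 → x = 0) (n : ℕ) {x : R} (hn : r ^ n * x = 0) : x = 0 := by
  induction n with
  | zero => rwa [pow_zero, one_mul] at hn
  | succ n ih =>
    apply ih
    apply hr
    rw [← mul_assoc, ← pow_succ']
    exact hn

theorem exists_desc (r : R) {T : CommRingCat.{u}} (y : R ⟶ T) (h : IsUnit (y r)) : ∃ z : LR r ⟶ T, lι r ≫ z = y :=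
  ⟨CommRingCat.ofHom (IsLocalization.Away.lift (S := Localization.Away r) r (g := y.hom) h), by
    ext x
    exact IsLocalization.Away.lift_eq (S := Localization.Away r) r (g := y.hom) h x⟩

/-- Localization is a pushout. -/
theorem exists_map (f : R ⟶ R') {r : R} {r' : R'} (h : f r = r') :
    ∃ f' : LR r ⟶ LR r', IsPushout f (lι r) (lι r') f' := by
  have := epi_lι r
  have := epi_lι r'
  obtain ⟨f', hf'⟩ := exists_desc r (f ≫ lι r') (by
    rw [CommRingCat.comp_apply, h]; exact isUnit r')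
  have key : ∀ (T : CommRingCat.{u}) (x : LR r ⟶ T) (y : R' ⟶ T), f ≫ y = lι r ≫ x →
      ∃ z : LR r' ⟶ T, lι r' ≫ z = y := fun T x y hxy => exists_desc r' y (by
    have : y r' = x (lι r r) := by
      rw [← h]; exact congr($hxy r)
    rw [this]
    exact (isUnit r).map x.hom)
  refine ⟨f', ⟨hf'.symm⟩, ⟨PushoutCocone.IsColimit.mk _ (fun c => (key _ c.inr c.inl c.condition).choose) ?_ ?_ ?_⟩⟩
  · intro c
    exact (key _ c.inr c.inl c.condition).choose_spec
  · intro c
    rw [← cancel_epi (lι r), reassoc_of% hf', (key _ c.inr c.inl c.condition).choose_spec, c.condition]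
  · intro c m h1 h2
    rw [← cancel_epi (lι r'), (key _ c.inr c.inl c.condition).choose_spec]
    exact h1

/-- A cube of pushouts. -/
theorem cube {B C BX CX B' C' BX' CX' : CommRingCat.{u}} {s : B ⟶ C} {fB : B ⟶ BX} {fC : C ⟶ CX} {sX : BX ⟶ CX}
    {β : B ⟶ B'} {γ : C ⟶ C'} {βX : BX ⟶ BX'} {γX : CX ⟶ CX'} {s' : B' ⟶ C'} {fB' : B' ⟶ BX'} {fC' : C' ⟶ CX'}
    {sX' : BX' ⟶ CX'} [Epi β] (h : IsPushout s fB fC sX) (hs : IsPushout s β γ s') (hsX : IsPushout sX βX γX sX')
    (w1 : fB ≫ βX = β ≫ fB') (w2 : fC ≫ γX = γ ≫ fC') : IsPushout s' fB' fC' sX' := by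
  have h1 := h.paste_vert hsX
  rw [w1, w2] at h1
  refine IsPushout.of_top h1 ?_ hs
  rw [← cancel_epi β, ← reassoc_of% hs.w, ← w2, reassoc_of% h.w, hsX.w, reassoc_of% w1]

variable {AX BX CX B C : CommRingCat.{u}} {s t : B ⟶ C} {fB : B ⟶ BX} {fC : C ⟶ CX} {sX tX : BX ⟶ CX}
  {qX : AX ⟶ BX}

/-- Common denominators. -/
theorem exists_common {κ : Type*} [Fintype κ] (r : R) (y : κ → LR r) :
    ∃ (n : ℕ) (x : κ → R), ∀ j, lι r (r ^ n) * y j = lι r (x j) := by
  classical
  choose n x hx using fun j => surj r (y j)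
  refine ⟨∑ j, n j, fun j => r ^ (∑ i ∈ Finset.univ.erase j, n i) * x j, fun j => ?_⟩
  rw [map_mul, ← hx j, ← mul_assoc, ← map_mul, ← pow_add]
  congr 3
  exact (Finset.sum_erase_add _ _ (Finset.mem_univ j)).symm

/-- **The localized pair is effective** if the cover becomes free on descended elements after inverting `b`. -/
theorem isEff_loc (hs : IsPushout s fB fC sX) (ht : IsPushout t fB fC tX) (hX : IsEff qX sX tX)
    (hflat : s.hom.Flat) {κ : Type u} [Fintype κ] [Nonempty κ] (x : κ → AX) {b : B} {c : C} (hsb : s b = c)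
    (htb : t b = c) (hli : ∀ v : κ → B, ∑ j, fB (v j) * qX (x j) = 0 → v = 0)
    (hsp : ∀ y : BX, ∃ v : κ → B, fB b * y = ∑ j, fB (v j) * qX (x j))
    {s' t' : LR b ⟶ LR c} (hs' : IsPushout s (lι b) (lι c) s') (ht' : IsPushout t (lι b) (lι c) t') :
    IsEff (eqι s' t') s' t' := by
  classical
  have h1 : sX (fB b) = fC c := by rw [← hsb]; exact congr($(hs.w) b).symm
  have h2 : tX (fB b) = fC c := by rw [← htb]; exact congr($(ht.w) b).symm
  obtain ⟨α₀, hα₀⟩ := hX.exists_of_eq (fB b) (h1.trans h2.symm)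
  obtain ⟨qX', hq'⟩ := exists_map qX hα₀
  obtain ⟨fB', hfB'⟩ := exists_map fB (r := b) rfl
  obtain ⟨fC', hfC'⟩ := exists_map fC (r := c) rfl
  obtain ⟨sX', hsX'⟩ := exists_map sX h1
  obtain ⟨tX', htX'⟩ := exists_map tX h2
  have e1 := epi_lι b
  have e2 := epi_lι α₀
  have hs'' : IsPushout s' fB' fC' sX' := cube hs hs' hsX' hfB'.w hfC'.w
  have ht'' : IsPushout t' fB' fC' tX' := cube ht ht' htX' hfB'.w hfC'.w
  have hX' : IsEff qX' sX' tX' := hX.baseChange hq' hsX' htX' (by
    rw [← cancel_epi (lι α₀), ← reassoc_of% hq'.w, ← reassoc_of% hq'.w, ← hsX'.w, ← htX'.w, reassoc_of% hX.po.w])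
  have ef : ∀ z, fB' (lι b z) = lι (fB b) (fB z) := fun z => congr($(hfB'.w) z).symm
  have eq : ∀ z, qX' (lι α₀ z) = lι (fB b) (qX z) := fun z => congr($(hq'.w) z).symm
  have esum : ∀ v : κ → B, ∑ j, fB' (lι b (v j)) * qX' (lι α₀ (x j)) = lι (fB b) (∑ j, fB (v j) * qX (x j)) :=
    fun v => by
      rw [map_sum]
      exact Finset.sum_congr rfl fun j _ => by rw [map_mul, ef, eq]
  refine K603.Free.isEff_of_basis hs'' ht'' hX' (K603.Eff.flat_of_isPushout hs'.flip.flip hflat) (fun j => lι α₀ (x j)) ?_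
  constructor
  · intro v w hvw
    change ∑ j, fB' (v j) * qX' (lι α₀ (x j)) = ∑ j, fB' (w j) * qX' (lι α₀ (x j)) at hvw
    obtain ⟨n, y, hy⟩ := exists_common b (fun j => v j - w j)
    have h3 : lι (fB b) (∑ j, fB (y j) * qX (x j)) = 0 := by
      rw [← esum]
      have : ∀ j, fB' (lι b (y j)) * qX' (lι α₀ (x j)) =
          fB' (lι b (b ^ n)) * (fB' (v j) * qX' (lι α₀ (x j)) - fB' (w j) * qX' (lι α₀ (x j))) := fun j => by
        rw [← hy, map_mul, map_sub]; ring
      rw [Finset.sum_congr rfl fun j _ => this j, ← Finset.mul_sum, Finset.sum_sub_distrib, hvw, sub_self, mul_zero]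
    obtain ⟨m, hm⟩ := eq_zero (fB b) h3
    have h4 := hli (fun j => b ^ m * y j) (by
      rw [← hm, Finset.mul_sum]
      exact Finset.sum_congr rfl fun j _ => by rw [map_mul, map_pow, mul_assoc])
    funext j
    have h5 : b ^ m * y j = 0 := congrFun h4 j
    have h6 : lι b (y j) = 0 := by
      apply ((isUnit_pow b m).mul_right_eq_zero).1
      rw [← map_mul, h5, map_zero]
    rw [← hy j] at h6
    exact sub_eq_zero.1 (((isUnit_pow b n).mul_right_eq_zero).1 h6)
  · intro y
    obtain ⟨n, z, hz⟩ := surj (fB b) y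
    obtain ⟨v, hv⟩ := hsp z
    obtain ⟨ε, hε⟩ := (isUnit_pow b (n + 1)).exists_left_inv
    refine ⟨fun j => ε * lι b (v j), ?_⟩
    change ∑ j, fB' (ε * lι b (v j)) * qX' (lι α₀ (x j)) = y
    have h3 : ∀ j, fB' (ε * lι b (v j)) * qX' (lι α₀ (x j)) = fB' ε * (fB' (lι b (v j)) * qX' (lι α₀ (x j))) :=
      fun j => by rw [map_mul, mul_assoc]
    rw [Finset.sum_congr rfl fun j _ => h3 j, ← Finset.mul_sum, esum, ← hv, map_mul, ← hz, ← ef, ← map_pow, ← ef]
    have h4 : fB' ε * fB' (lι b (b ^ (n + 1))) = 1 := by rw [← map_mul, hε, map_one]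
    calc fB' ε * (fB' (lι b b) * (fB' (lι b (b ^ n)) * y)) = (fB' ε * fB' (lι b (b ^ (n + 1)))) * y := by
          rw [pow_succ, map_mul, map_mul]; ring
      _ = y := by rw [h4, one_mul]

end K603.Loc
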