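import Groth.Agent.AlgSp.K603.Eff
import Groth.Agent.S2020

/-!
# Affine quotients glue along a decomposition `I₁ ∩ I₂ = 0`
-/

set_option autoImplicit false
universe u
open CategoryTheory CategoryTheory.Limits TensorProduct

namespace K603.Milnor

open K603.Eff

section
variable {A A1 A2 A12 B B1 B2 B12 : CommRingCat.{u}} {f : A ⟶ A1} {g : A ⟶ A2} {f' : A1 ⟶ A12} {g' : A2 ⟶ A12}
  {p : B ⟶ B1} {r : B ⟶ B2} {p' : B1 ⟶ B12} {r' : B2 ⟶ B12} {i : A ⟶ B} {q1 : A1 ⟶ B1} {q2 : A2 ⟶ B2}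
  {q12 : A12 ⟶ B12}

/-- Flatness over a fibre product. -/
theorem flat_of_fibre (w : f ≫ f' = g ≫ g') (hg : Function.Surjective g')
    (hA : ∀ (x : A1) (y : A2), f' x = g' y → ∃! a : A, f a = x ∧ g a = y)
    (hB : ∀ (x : B1) (y : B2), p' x = r' y → ∃! b : B, p b = x ∧ r b = y)
    (wB : p ≫ p' = r ≫ r')
    (h1 : i ≫ p = f ≫ q1) (h2 : i ≫ r = g ≫ q2) (po1 : IsPushout q1 f' p' q12) (po2 : IsPushout q2 g' r' q12)
    (hq1 : q1.hom.Flat) (hq2 : q2.hom.Flat) : i.hom.Flat := by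
  let a1 : Algebra A A1 := f.hom.toAlgebra
  let a2 : Algebra A A2 := g.hom.toAlgebra
  let a3 : Algebra A1 A12 := f'.hom.toAlgebra
  let a4 : Algebra A2 A12 := g'.hom.toAlgebra
  let a5 : Algebra A A12 := (f ≫ f').hom.toAlgebra
  have t1 : IsScalarTower A A1 A12 := IsScalarTower.of_algebraMap_eq fun _ => rfl
  have t2 : IsScalarTower A A2 A12 := IsScalarTower.of_algebraMap_eq fun x => congr($w x)
  have hsq : EtMil.IsFibreSquare A A1 A2 A12 := ⟨hg, hA⟩
  let b1 : Algebra A1 B1 := q1.hom.toAlgebra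
  let b2 : Algebra A2 B2 := q2.hom.toAlgebra
  let b3 : Algebra A B1 := (f ≫ q1).hom.toAlgebra
  let b4 : Algebra A B2 := (g ≫ q2).hom.toAlgebra
  have t3 : IsScalarTower A A1 B1 := IsScalarTower.of_algebraMap_eq fun _ => rfl
  have t4 : IsScalarTower A A2 B2 := IsScalarTower.of_algebraMap_eq fun _ => rfl
  let c1 : Algebra A12 B12 := q12.hom.toAlgebra
  let c2 : Algebra B1 B12 := p'.hom.toAlgebra
  let c3 : Algebra B2 B12 := r'.hom.toAlgebra
  let c4 : Algebra A1 B12 := (f' ≫ q12).hom.toAlgebra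
  let c5 : Algebra A2 B12 := (g' ≫ q12).hom.toAlgebra
  have t5 : IsScalarTower A1 A12 B12 := IsScalarTower.of_algebraMap_eq fun _ => rfl
  have t6 : IsScalarTower A2 A12 B12 := IsScalarTower.of_algebraMap_eq fun _ => rfl
  have t7 : IsScalarTower A1 B1 B12 := IsScalarTower.of_algebraMap_eq fun x => congr($(po1.w) x).symm
  have t8 : IsScalarTower A2 B2 B12 := IsScalarTower.of_algebraMap_eq fun x => congr($(po2.w) x).symm
  have P1 : Algebra.IsPushout A1 A12 B1 B12 := CommRingCat.isPushout_iff_isPushout.1 po1.flip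
  have P2 : Algebra.IsPushout A2 A12 B2 B12 := CommRingCat.isPushout_iff_isPushout.1 po2.flip
  let e1 : A12 ⊗[A1] B1 ≃ₗ[A12] B12 := P1.out.equiv
  let e2 : A12 ⊗[A2] B2 ≃ₗ[A12] B12 := P2.out.equiv
  have he1 : ∀ x : B1, e1 ((1 : A12) ⊗ₜ x) = p' x := fun x => by
    simp only [e1, IsBaseChange.equiv_tmul, one_smul]; rfl
  have he2 : ∀ x : B2, e2 ((1 : A12) ⊗ₜ x) = r' x := fun x => by
    simp only [e2, IsBaseChange.equiv_tmul, one_smul]; rfl
  let φ : A12 ⊗[A1] B1 ≃ₗ[A12] A12 ⊗[A2] B2 := e1.trans e2.symm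
  have hfl := (Groth.Agent.S2020.result A A1 A2 A12 hsq).1 B1 B2 φ hq1 hq2
  let d : Algebra A B := i.hom.toAlgebra
  have hmem : ∀ (x : B1) (y : B2), (x, y) ∈ EtMil.glue A φ ↔ p' x = r' y := fun x y => by
    change e2.symm (e1 ((1 : A12) ⊗ₜ x)) = (1 : A12) ⊗ₜ y ↔ _
    rw [LinearEquiv.symm_apply_eq, he1, he2]
  let L : B →ₗ[A] EtMil.glue A φ :=
    { toFun := fun b => ⟨(p b, r b), (hmem _ _).2 (congr($wB b))⟩
      map_add' := fun x y => by
        apply Subtype.ext
        exact Prod.ext (map_add p.hom x y) (map_add r.hom x y)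
      map_smul' := fun a x => by
        apply Subtype.ext
        refine Prod.ext ?_ ?_
        · change p (i a * x) = q1 (f a) * p x
          rw [map_mul]
          congr 1
          exact congr($h1 a)
        · change r (i a * x) = q2 (g a) * r x
          rw [map_mul]
          congr 1
          exact congr($h2 a) }
  have hL : Function.Bijective L := by
    constructor
    · intro x y hxy
      have h3 : (p x, r x) = (p y, r y) := congrArg Subtype.val hxy
      exact (hB (p y) (r y) (congr($wB y))).unique ⟨congrArg Prod.fst h3, congrArg Prod.snd h3⟩ ⟨rfl, rfl⟩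
    · rintro ⟨⟨x, y⟩, hxy⟩
      obtain ⟨b, ⟨rfl, rfl⟩, -⟩ := hB x y ((hmem x y).1 hxy)
      exact ⟨b, rfl⟩
  exact Module.Flat.of_linearEquiv (LinearEquiv.ofBijective L hL)

theorem ker_le (hg : Function.Surjective g')
    (hA : ∀ (x : A1) (y : A2), f' x = g' y → ∃! a : A, f a = x ∧ g a = y)
    (hr : Function.Surjective r) (hpr : ∀ x : B, p x = 0 → r x = 0 → x = 0)
    (wB : p ≫ p' = r ≫ r')
    (h1 : i ≫ p = f ≫ q1) (h2 : i ≫ r = g ≫ q2) (po2 : IsPushout q2 g' r' q12) :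
    RingHom.ker p.hom ≤ (RingHom.ker f.hom).map i.hom := by
  intro x hx
  have hx' : p x = 0 := hx
  have h3 : RingHom.ker g'.hom ≤ (RingHom.ker f.hom).map g.hom := by
    intro y hy
    have hy' : g' y = 0 := hy
    obtain ⟨a, ⟨ha1, ha2⟩, -⟩ := hA 0 y (by rw [hy', map_zero])
    rw [← ha2]
    exact Ideal.mem_map_of_mem g.hom ha1
  have h4 : r x ∈ ((RingHom.ker f.hom).map i.hom).map r.hom := by
    have h5 : r x ∈ RingHom.ker r'.hom := by
      change r' (r x) = 0
      have : r' (r x) = p' (p x) := congr($wB x).symm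
      rw [this, hx', map_zero]
    rw [ker_of_isPushout po2 hg] at h5
    have h6 := Ideal.map_mono (f := q2.hom) h3 h5
    rw [Ideal.map_map] at h6 ⊢
    have h7 : r.hom.comp i.hom = q2.hom.comp g.hom := congr(($h2).hom)
    rw [h7]
    exact h6
  obtain ⟨m, hm, hmx⟩ := (Ideal.mem_map_iff_of_surjective r.hom hr).1 h4
  have hpm : p m = 0 := by
    have h5 : (RingHom.ker f.hom).map i.hom ≤ RingHom.ker p.hom := by
      rw [Ideal.map_le_iff_le_comap]
      intro a ha
      have ha' : f a = 0 := ha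
      change p (i a) = 0
      have : p (i a) = q1 (f a) := congr($h1 a)
      rw [this, ha', map_zero]
    exact h5 hm
  have h6 : x - m = 0 := hpr _ (by rw [map_sub, hx', hpm, sub_zero]) (by
    rw [map_sub, sub_eq_zero]; exact hmx.symm)
  rw [sub_eq_zero.1 h6]
  exact hm

end

theorem Sub.factor {B C B1 C1 B2 C2 : CommRingCat.{u}} {s t : B ⟶ C} {χ1 : B ⟶ B1} {γ1 : C ⟶ C1} {s1 t1 : B1 ⟶ C1}
    {χ2 : B ⟶ B2} {γ2 : C ⟶ C2} {s2 t2 : B2 ⟶ C2} (h1 : Sub s t χ1 γ1 s1 t1) (h2 : Sub s t χ2 γ2 s2 t2)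
    (p : B1 ⟶ B2) (hp : χ1 ≫ p = χ2) : ∃ γ : C1 ⟶ C2, γ1 ≫ γ = γ2 ∧ Sub s1 t1 p γ s2 t2 := by
  have hepi : Epi χ1 := ConcreteCategory.epi_of_surjective _ h1.surj
  let γ : C1 ⟶ C2 := h1.hs.desc γ2 (p ≫ s2) (by rw [h2.hs.w, reassoc_of% hp])
  have e1 : γ1 ≫ γ = γ2 := h1.hs.inl_desc _ _ _
  have e2 : s1 ≫ γ = p ≫ s2 := h1.hs.inr_desc _ _ _
  have e3 : t1 ≫ γ = p ≫ t2 := by
    rw [← cancel_epi χ1, ← reassoc_of% h1.ht.w, e1, h2.ht.w, reassoc_of% hp]
  refine ⟨γ, e1, ?_, ?_, ?_⟩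
  · intro x
    obtain ⟨b, hb⟩ := h2.surj x
    refine ⟨χ1 b, ?_⟩
    rw [← hb, ← hp]
    rfl
  · have h3 := h2.hs
    rw [← hp, ← e1] at h3
    exact IsPushout.of_top h3 e2 h1.hs
  · have h3 := h2.ht
    rw [← hp, ← e1] at h3
    exact IsPushout.of_top h3 e3 h1.ht

/-- **Milnor gluing of quotients.** If two closed sub-pairs cut out by ideals with zero intersection have affine
quotients then so does the pair. -/
theorem hasQuot {B C B1 C1 B2 C2 : CommRingCat.{u}} {s t : B ⟶ C} {χ1 : B ⟶ B1} {γ1 : C ⟶ C1} {s1 t1 : B1 ⟶ C1}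
    {χ2 : B ⟶ B2} {γ2 : C ⟶ C2} {s2 t2 : B2 ⟶ C2} (hs : s.hom.Flat) (sub1 : Sub s t χ1 γ1 s1 t1)
    (sub2 : Sub s t χ2 γ2 s2 t2) (hinf : RingHom.ker χ1.hom ⊓ RingHom.ker χ2.hom = ⊥)
    (H1 : HasQuot s1 t1) (H2 : HasQuot s2 t2) : HasQuot s t := by
  obtain ⟨A1, q1, hq1⟩ := H1
  obtain ⟨A2, q2, hq2⟩ := H2
  -- the intersection
  obtain ⟨s12, t12, sub12⟩ := exists_sub (sub1.inv.sup sub2.inv)
  set J := RingHom.ker χ1.hom ⊔ RingHom.ker χ2.hom with hJ
  let χ12 : B ⟶ CommRingCat.of (B ⧸ J) := CommRingCat.ofHom (Ideal.Quotient.mk J)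
  obtain ⟨p', hp'⟩ : ∃ p' : B1 ⟶ CommRingCat.of (B ⧸ J), χ1 ≫ p' = χ12 := by
    obtain ⟨k, hk⟩ := exists_lift χ1.hom sub1.surj χ12.hom (by
      have : RingHom.ker χ12.hom = J := Ideal.mk_ker
      rw [this]; exact le_sup_left)
    exact ⟨CommRingCat.ofHom k, by ext x; exact congr($hk x)⟩
  obtain ⟨r', hr'⟩ : ∃ r' : B2 ⟶ CommRingCat.of (B ⧸ J), χ2 ≫ r' = χ12 := by
    obtain ⟨k, hk⟩ := exists_lift χ2.hom sub2.surj χ12.hom (by
      have : RingHom.ker χ12.hom = J := Ideal.mk_ker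
      rw [this]; exact le_sup_right)
    exact ⟨CommRingCat.ofHom k, by ext x; exact congr($hk x)⟩
  obtain ⟨γ1', hγ1', sub1'⟩ := Sub.factor sub1 sub12 p' hp'
  obtain ⟨γ2', hγ2', sub2'⟩ := Sub.factor sub2 sub12 r' hr'
  obtain ⟨A12, f', q12, hf', po1, hq12⟩ := hq1.sub sub1'
  obtain ⟨A12', g₀, q12', hg₀, po2', hq12'⟩ := hq2.sub sub2'
  obtain ⟨e, he⟩ := hq12'.exists_iso hq12
  let g' : A2 ⟶ A12 := g₀ ≫ e.hom
  have hg' : Function.Surjective g' := by
    have : Function.Surjective e.hom := (ConcreteCategory.isIso_iff_bijective e.hom).1 inferInstance |>.2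
    exact this.comp hg₀
  have po2 : IsPushout q2 g' r' q12 :=
    IsPushout.of_iso po2' (Iso.refl _) (Iso.refl _) e (Iso.refl _) (by simp) (by simp [g']) (by simp) (by simp [he])
  -- the glued ring
  let i := eqι s t
  obtain ⟨f, hf⟩ := hq1.exists_lift (i ≫ χ1) (by
    rw [Category.assoc, Category.assoc, ← sub1.hs.w, ← sub1.ht.w, reassoc_of% eqι_w s t])
  obtain ⟨g, hg⟩ := hq2.exists_lift (i ≫ χ2) (by
    rw [Category.assoc, Category.assoc, ← sub2.hs.w, ← sub2.ht.w, reassoc_of% eqι_w s t])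
  have := hq12.mono
  have w : f ≫ f' = g ≫ g' := by
    rw [← cancel_mono q12, Category.assoc, Category.assoc, ← po1.w, ← po2.w, reassoc_of% hf, reassoc_of% hg, hp', hr']
  have wB : χ1 ≫ p' = χ2 ≫ r' := by rw [hp', hr']
  have hzero : ∀ x : B, χ1 x = 0 → χ2 x = 0 → x = 0 := fun x h1 h2 => by
    have : x ∈ RingHom.ker χ1.hom ⊓ RingHom.ker χ2.hom := ⟨h1, h2⟩
    rw [hinf] at this
    exact this
  have hzeroC : ∀ x : C, γ1 x = 0 → γ2 x = 0 → x = 0 := fun x h1 h2 => by
    have h3 : x ∈ RingHom.ker γ1.hom ⊓ RingHom.ker γ2.hom := ⟨h1, h2⟩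
    rw [ker_of_isPushout sub1.hs sub1.surj, ker_of_isPushout sub2.hs sub2.surj] at h3
    have h4 := map_inf_le hs _ _ h3
    rw [hinf, Ideal.map_bot] at h4
    exact h4
  have hB : ∀ (x : B1) (y : B2), p' x = r' y → ∃! b : B, χ1 b = x ∧ χ2 b = y := by
    intro x y hxy
    obtain ⟨b1, rfl⟩ := sub1.surj x
    obtain ⟨b2, rfl⟩ := sub2.surj y
    have h1 : χ12 b1 = χ12 b2 := by
      rw [← congr($hp' b1), ← congr($hr' b2)]
      exact hxy
    have h2 : b1 - b2 ∈ J := (Ideal.Quotient.eq).1 h1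
    obtain ⟨v, hv, v', hv', hvv⟩ := Submodule.mem_sup.1 h2
    refine ⟨b1 - v, ⟨?_, ?_⟩, ?_⟩
    · have : χ1 v = 0 := hv
      rw [map_sub, this, sub_zero]
    · have h3 : b1 - v = b2 + v' := by linear_combination -hvv
      have : χ2 v' = 0 := hv'
      rw [h3, map_add, this, add_zero]
    · rintro b ⟨h3, h4⟩
      apply sub_eq_zero.1
      apply hzero
      · have : χ1 v = 0 := hv
        rw [map_sub, h3, map_sub, this, sub_zero]
        exact sub_self _
      · have h5 : b1 - v = b2 + v' := by linear_combination -hvv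
        have : χ2 v' = 0 := hv'
        rw [map_sub, h4, h5, map_add, this, add_zero]
        exact sub_self _
  have hA : ∀ (x : A1) (y : A2), f' x = g' y → ∃! a : EqL s t, f a = x ∧ g a = y := by
    intro x y hxy
    obtain ⟨b, ⟨hb1, hb2⟩, hbu⟩ := hB (q1 x) (q2 y) (by
      have e1 : p' (q1 x) = q12 (f' x) := congr($(po1.w) x)
      have e2 : r' (q2 y) = q12 (g' y) := congr($(po2.w) y)
      rw [e1, e2, hxy])
    have hst : s b = t b := by
      apply sub_eq_zero.1
      apply hzeroC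
      · have e1 : γ1 (s b) = s1 (χ1 b) := congr($(sub1.hs.w) b)
        have e2 : γ1 (t b) = t1 (χ1 b) := congr($(sub1.ht.w) b)
        have e3 : s1 (q1 x) = t1 (q1 x) := congr($(hq1.po.w) x)
        rw [map_sub, e1, e2, hb1, e3, sub_self]
      · have e1 : γ2 (s b) = s2 (χ2 b) := congr($(sub2.hs.w) b)
        have e2 : γ2 (t b) = t2 (χ2 b) := congr($(sub2.ht.w) b)
        have e3 : s2 (q2 y) = t2 (q2 y) := congr($(hq2.po.w) y)
        rw [map_sub, e1, e2, hb2, e3, sub_self]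
    have ef : ∀ a : EqL s t, q1 (f a) = χ1 (i a) := fun a => congr($hf a)
    have eg : ∀ a : EqL s t, q2 (g a) = χ2 (i a) := fun a => congr($hg a)
    refine ⟨⟨b, hst⟩, ⟨hq1.injective ?_, hq2.injective ?_⟩, ?_⟩
    · rw [ef]; exact hb1
    · rw [eg]; exact hb2
    · rintro a ⟨h3, h4⟩
      apply eqι_injective s t
      exact hbu _ ⟨by rw [← ef, h3], by rw [← eg, h4]⟩
  have hfl : i.hom.Flat := flat_of_fibre w hg' hA hB wB hf.symm hg.symm po1 po2 hq1.ff.flat hq2.ff.flat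
  have hfs : Function.Surjective f := fun x => by
    obtain ⟨y, hy⟩ := hg' (f' x)
    obtain ⟨a, ⟨ha, -⟩, -⟩ := hA x y hy.symm
    exact ⟨a, ha⟩
  have hgs : Function.Surjective g := fun y => by
    obtain ⟨x, hx⟩ := hf' (g' y)
    obtain ⟨a, ⟨-, ha⟩, -⟩ := hA x y hx
    exact ⟨a, ha⟩
  have hker1 : RingHom.ker χ1.hom ≤ (RingHom.ker f.hom).map i.hom :=
    ker_le hg' hA sub2.surj hzero wB hf.symm hg.symm po2
  have hker2 : RingHom.ker χ2.hom ≤ (RingHom.ker g.hom).map i.hom :=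
    ker_le (f := g) (g := f) (f' := g') (g' := f') (p := χ2) (r := χ1) (p' := r') (r' := p') hf'
      (fun x y h => by
        obtain ⟨a, ⟨h1, h2⟩, hu⟩ := hA y x h.symm
        exact ⟨a, ⟨h2, h1⟩, fun a' h' => hu a' ⟨h'.2, h'.1⟩⟩) sub1.surj (fun x h1 h2 => hzero x h2 h1) wB.symm
      hg.symm hf.symm po1
  have hff : i.hom.FaithfullyFlat := by
    rw [RingHom.FaithfullyFlat.iff_flat_and_comap_surjective]
    refine ⟨hfl, fun P => ?_⟩
    have hbot : RingHom.ker f.hom * RingHom.ker g.hom ≤ P.asIdeal := by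
      refine (Ideal.mul_le_inf).trans ?_
      rintro a ⟨h1, h2⟩
      have : a = 0 := by
        apply eqι_injective s t
        rw [map_zero]
        apply hzero
        · have e1 : χ1 (i a) = q1 (f a) := congr($(hf.symm) a)
          have h1' : f a = 0 := h1
          rw [e1, h1', map_zero]
        · have e1 : χ2 (i a) = q2 (g a) := congr($(hg.symm) a)
          have h2' : g a = 0 := h2
          rw [e1, h2', map_zero]
      rw [this]; exact zero_mem _
    rcases (Ideal.IsPrime.mul_le P.2).1 hbot with h | h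
    · obtain ⟨P1, rfl⟩ : ∃ P1, PrimeSpectrum.comap f.hom P1 = P := by
        have : P ∈ Set.range (PrimeSpectrum.comap f.hom) := by
          rw [range_comap_of_surjective _ _ hfs]; exact h
        exact this
      obtain ⟨Q, rfl⟩ := (RingHom.FaithfullyFlat.iff_flat_and_comap_surjective.1 hq1.ff).2 P1
      refine ⟨PrimeSpectrum.comap χ1.hom Q, ?_⟩
      rw [← PrimeSpectrum.comap_comp_apply, ← PrimeSpectrum.comap_comp_apply]
      congr 1
      exact congr(($hf.symm).hom)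
    · obtain ⟨P1, rfl⟩ : ∃ P1, PrimeSpectrum.comap g.hom P1 = P := by
        have : P ∈ Set.range (PrimeSpectrum.comap g.hom) := by
          rw [range_comap_of_surjective _ _ hgs]; exact h
        exact this
      obtain ⟨Q, rfl⟩ := (RingHom.FaithfullyFlat.iff_flat_and_comap_surjective.1 hq2.ff).2 P1
      refine ⟨PrimeSpectrum.comap χ2.hom Q, ?_⟩
      rw [← PrimeSpectrum.comap_comp_apply, ← PrimeSpectrum.comap_comp_apply]
      congr 1
      exact congr(($hg.symm).hom)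
  have sq1 : IsPushout i f χ1 q1 := isPushout_of_surjective hf.symm hfs sub1.surj hker1
  have sq2 : IsPushout i g χ2 q2 := isPushout_of_surjective hg.symm hgs sub2.surj hker2
  refine ⟨EqL s t, i, hff, ?_⟩
  have po := IsPushout.of_hasPushout i i
  let θ : pushout i i ⟶ C := po.desc s t (eqι_w s t)
  have hθ1 : pushout.inl i i ≫ θ = s := po.inl_desc _ _ _
  have hθ2 : pushout.inr i i ≫ θ = t := po.inr_desc _ _ _
  have big1 : IsPushout i (i ≫ χ1) (χ1 ≫ s1) t1 := by
    rw [← hf]; exact sq1.paste_vert hq1.po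
  have big2 : IsPushout i (i ≫ χ2) (χ2 ≫ s2) t2 := by
    rw [← hg]; exact sq2.paste_vert hq2.po
  have fin1 : IsPushout (pushout.inr i i) χ1 (θ ≫ γ1) t1 := by
    refine IsPushout.of_top (h₁₁ := i) (v₁₁ := i) (v₁₂ := pushout.inl i i) ?_ ?_ po
    · rw [reassoc_of% hθ1, sub1.hs.w]; exact big1
    · rw [reassoc_of% hθ2, sub1.ht.w]
  have fin2 : IsPushout (pushout.inr i i) χ2 (θ ≫ γ2) t2 := by
    refine IsPushout.of_top (h₁₁ := i) (v₁₁ := i) (v₁₂ := pushout.inl i i) ?_ ?_ po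
    · rw [reassoc_of% hθ1, sub2.hs.w]; exact big2
    · rw [reassoc_of% hθ2, sub2.ht.w]
  have hinr : (pushout.inr i i).hom.Flat := flat_of_isPushout po hfl
  have hsurj1 : Function.Surjective (θ ≫ γ1).hom := surjective_of_isPushout fin1 sub1.surj
  have hsurj2 : Function.Surjective (θ ≫ γ2).hom := surjective_of_isPushout fin2 sub2.surj
  have hγ1 : ∀ k ∈ RingHom.ker f.hom, γ1 (s (i k)) = 0 := fun k hk => by
    have e1 : γ1 (s (i k)) = s1 (χ1 (i k)) := congr($(sub1.hs.w) (i k))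
    have e2 : χ1 (i k) = q1 (f k) := congr($(hf.symm) k)
    have e3 : f k = 0 := hk
    rw [e1, e2, e3, map_zero, map_zero]
  have hbij : Function.Bijective θ := by
    constructor
    · rw [injective_iff_map_eq_zero θ.hom]
      intro x hx
      have h1 : x ∈ RingHom.ker (θ ≫ γ1).hom := by
        change γ1 (θ x) = 0
        have : θ x = 0 := hx
        rw [this, map_zero]
      have h2 : x ∈ RingHom.ker (θ ≫ γ2).hom := by
        change γ2 (θ x) = 0
        have : θ x = 0 := hx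
        rw [this, map_zero]
      rw [ker_of_isPushout fin1 sub1.surj] at h1
      rw [ker_of_isPushout fin2 sub2.surj] at h2
      have h3 := map_inf_le hinr _ _ ⟨h1, h2⟩
      rw [hinf, Ideal.map_bot] at h3
      exact h3
    · have key : ∀ c ∈ (RingHom.ker f.hom).map (i ≫ s).hom, ∀ a : C, a * c ∈ Set.range θ := by
        intro c hc
        refine Submodule.span_induction (p := fun c _ => ∀ a : C, a * c ∈ Set.range θ) ?_ ?_ ?_ ?_ hc
        · rintro _ ⟨k, hk, rfl⟩ a
          obtain ⟨x, hx⟩ := hsurj2 (γ2 a)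
          refine ⟨x * (pushout.inl i i) (i k), ?_⟩
          rw [map_mul]
          have e1 : θ (pushout.inl i i (i k)) = s (i k) := congr($hθ1 (i k))
          rw [e1]
          apply sub_eq_zero.1
          apply hzeroC
          · rw [map_sub, map_mul, hγ1 k hk, mul_zero, zero_sub, neg_eq_zero]
            change γ1 (a * s (i k)) = 0
            rw [map_mul, hγ1 k hk, mul_zero]
          · rw [map_sub, map_mul, sub_eq_zero]
            change γ2 (θ x) * γ2 (s (i k)) = γ2 (a * s (i k))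
            rw [map_mul]
            congr 1
        · intro a
          exact ⟨0, by rw [mul_zero, map_zero]⟩
        · intro x y _ _ hx hy a
          obtain ⟨x', hx'⟩ := hx a
          obtain ⟨y', hy'⟩ := hy a
          exact ⟨x' + y', by rw [map_add, hx', hy', mul_add]⟩
        · intro b x _ hx a
          rw [smul_eq_mul, ← mul_assoc]
          exact hx _
      intro c
      obtain ⟨x, hx⟩ := hsurj1 (γ1 c)
      have h1 : c - θ x ∈ RingHom.ker γ1.hom := by
        change γ1 (c - θ x) = 0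
        rw [map_sub, sub_eq_zero]
        exact hx.symm
      rw [ker_of_isPushout sub1.hs sub1.surj] at h1
      have h2 := Ideal.map_mono (f := s.hom) hker1 h1
      rw [Ideal.map_map] at h2
      obtain ⟨y, hy⟩ := key _ h2 1
      exact ⟨x + y, by rw [map_add, hy, one_mul]; exact add_sub_cancel _ _⟩
  have : IsIso θ := (ConcreteCategory.isIso_iff_bijective θ).2 hbij
  exact IsPushout.of_iso po (Iso.refl _) (Iso.refl _) (Iso.refl _) (asIso θ) (by simp) (by simp) (by simpa using hθ1)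
    (by simpa using hθ2)

end K603.Milnor
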