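import Groth.Agent.AlgSp.K603.ModFld
import Groth.Agent.AlgSp.K622.AnDefs2
import Groth.Agent.AlgSp.K93.RFNormal
import Groth.Agent.Dix.ContractSurf
import Groth.Agent.CycB.ImageInt

/-!
# Good models from a decomposition of the generic fibre
-/

set_option autoImplicit false
universe u

open CategoryTheory CategoryTheory.Limits AlgebraicGeometry

namespace K603.ModCl

open K603.ModSm K603.ModFld K622.AnDefs2 K93.RedFib

section has

variable {R K : Type u} [CommRing R] [Field K] [Algebra R K] {X Y X' Y' : Scheme.{u}}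

/-- Independence of the choice of the generic fibres in `HasModels`. -/
theorem conds_of_isPullback {f : X ⟶ Spec (CommRingCat.of R)} {ν : Y ⟶ X} {a : X' ⟶ X}
    {b : X' ⟶ Spec (CommRingCat.of K)} (hp : IsPullback a b f (gn R K)) {c : Y' ⟶ Y} {ν' : Y' ⟶ X'}
    (hq : IsPullback c ν' ν a) (h1 : IsClosedImmersion ν') (h2 : IsOpen (Set.range ν'))
    (h3 : Smooth (ν' ≫ b)) (h4 : GeometricallyIntegral (ν' ≫ b)) :
    Smooth (pullback.snd (ν ≫ f) (gn R K)) ∧
      GeometricallyIntegral (pullback.snd (ν ≫ f) (gn R K)) ∧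
      IsClosedImmersion (pullback.map (ν ≫ f) (gn R K) f (gn R K) ν (𝟙 _) (𝟙 _)
        (Category.comp_id _) (by rw [Category.comp_id, Category.id_comp])) ∧
      IsOpen (Set.range (pullback.map (ν ≫ f) (gn R K) f (gn R K) ν (𝟙 _) (𝟙 _)
        (Category.comp_id _) (by rw [Category.comp_id, Category.id_comp]))) := by
  have h5 : IsPullback c (ν' ≫ b) (ν ≫ f) (gn R K) := (hq.flip.paste_horiz hp.flip).flip
  have e1 : pullback.snd (ν ≫ f) (gn R K) = h5.isoPullback.inv ≫ ν' ≫ b := (h5.isoPullback_inv_snd).symm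
  have e2 : pullback.map (ν ≫ f) (gn R K) f (gn R K) ν (𝟙 _) (𝟙 _)
        (Category.comp_id _) (by rw [Category.comp_id, Category.id_comp]) =
      h5.isoPullback.inv ≫ ν' ≫ hp.isoPullback.hom := by
    apply pullback.hom_ext
    · rw [pullback.lift_fst, Category.assoc, Category.assoc, hp.isoPullback_hom_fst, ← hq.w,
        ← Category.assoc, h5.isoPullback_inv_fst]
    · rw [pullback.lift_snd, Category.assoc, Category.assoc, hp.isoPullback_hom_snd, h5.isoPullback_inv_snd,
        Category.comp_id]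
  have h6 : GeometricallyIntegral (h5.isoPullback.inv ≫ ν' ≫ b) :=
    MorphismProperty.of_isPullback (P := @GeometricallyIntegral) (IsPullback.of_horiz_isIso ⟨by simp⟩ :
      IsPullback h5.isoPullback.inv (h5.isoPullback.inv ≫ ν' ≫ b) (ν' ≫ b) (𝟙 _)) h4
  have h7 : Set.range (h5.isoPullback.inv ≫ ν' ≫ hp.isoPullback.hom) =
      hp.isoPullback.hom '' Set.range ν' := by
    rw [← Category.assoc, Scheme.Hom.comp_base, TopCat.coe_comp, Set.range_comp]
    congr 1
    rw [Scheme.Hom.comp_base, TopCat.coe_comp, Set.range_comp, h5.isoPullback.inv.surjective.range_eq,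
      Set.image_univ]
  refine ⟨?_, ?_, ?_, ?_⟩
  · rw [e1]
    infer_instance
  · rw [e1]
    exact h6
  · rw [e2]
    infer_instance
  · rw [e2, h7]
    exact hp.isoPullback.hom.isOpenEmbedding.isOpenMap _ h2

end has

section closure

variable {R : Type u} (K : Type u) [CommRing R] [IsDedekindDomain R] [Finite (MaximalSpectrum R)] [Field K]
  [Algebra R K] [IsFractionRing R K]

theorem isOpenImmersion_gn : IsOpenImmersion (gn R K) := by
  obtain ⟨a, -, -, ha⟩ := exists_away R K
  exact IsOpenImmersion.of_isLocalization a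

variable {K} {X : Scheme.{u}} (f : X ⟶ Spec (CommRingCat.of R))

/-- The closure of a component of the reduction of the generic fibre. -/
theorem exists_closure {E : Scheme.{u}} (ε : E ⟶ pullback f (gn R K)) [IsClosedImmersion ε]
    (hE : IsIntegral E) :
    ∃ (Z : Scheme.{u}) (z : Z ⟶ X) (t : E ⟶ Z), IsIntegral Z ∧ IsClosedImmersion z ∧ Flat (z ≫ f) ∧
      IsPullback t ε z (pullback.fst f (gn R K)) := by
  have hgn := isOpenImmersion_gn (R := R) K
  let j : E ⟶ X := ε ≫ pullback.fst f (gn R K)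
  have hj : QuasiCompact j := inferInstanceAs (QuasiCompact (ε ≫ pullback.fst f (gn R K)))
  have hZ : IsIntegral j.image := Groth.Agent.CycB.ImageInt.isIntegral_image j
  have hfl : Flat (j.toImage ≫ j.imageι ≫ f) := by
    rw [Scheme.Hom.toImage_imageι_assoc]
    change Flat ((ε ≫ pullback.fst f (gn R K)) ≫ f)
    rw [Category.assoc, pullback.condition, ← Category.assoc]
    infer_instance
  refine ⟨j.image, j.imageι, j.toImage, hZ, inferInstance,
    Groth.Agent.Dix.ContractSurf.flat_of_dominant j.toImage (j.imageι ≫ f), ?_⟩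
  have hred : AlgebraicGeometry.IsReduced (pullback j.imageι (pullback.fst f (gn R K))) :=
    isReduced_of_isOpenImmersion (pullback.fst j.imageι (pullback.fst f (gn R K)))
  obtain ⟨e, he⟩ := K925.RedGrp.exists_iso ε (pullback.snd j.imageι (pullback.fst f (gn R K))) (by
    have h1 : Set.range j = pullback.fst f (gn R K) '' Set.range ε := by
      rw [← Set.range_comp]
      rfl
    have h2 : Topology.IsOpenEmbedding (pullback.fst f (gn R K)) := (pullback.fst f (gn R K)).isOpenEmbedding
    rw [range_snd, Scheme.Hom.imageι, Scheme.IdealSheafData.range_subschemeι, Scheme.Hom.support_ker,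
      h1, h2.isOpenMap.preimage_closure_eq_closure_preimage h2.continuous,
      Set.preimage_image_eq _ h2.injective, ε.isClosedEmbedding.isClosed_range.closure_eq])
  refine IsPullback.of_iso_pullback ⟨by rw [Scheme.Hom.toImage_imageι]⟩ e ?_ he
  rw [← cancel_mono j.imageι, Category.assoc, pullback.condition, reassoc_of% he, Scheme.Hom.toImage_imageι]

omit [IsDedekindDomain R] [Finite (MaximalSpectrum R)] in
/-- Every point of a flat scheme is a specialization of a point of the generic fibre. -/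
theorem exists_generic [IsDomain R] {Y Y' : Scheme.{u}} (g : Y ⟶ Spec (CommRingCat.of R)) [Flat g] {c : Y' ⟶ Y}
    {b : Y' ⟶ Spec (CommRingCat.of K)} (hp : IsPullback c b g (gn R K)) (y : Y) : ∃ y' : Y', c y' ⤳ y := by
  obtain ⟨y₁, hy₁, h⟩ := Flat.generalizingMap g
    ((PrimeSpectrum.le_iff_specializes (R := R) ⊥ (g y)).mp bot_le)
  have h1 : gn R K (⊥ : PrimeSpectrum K) = (⊥ : PrimeSpectrum R) := by
    refine PrimeSpectrum.ext (Ideal.ext fun x => ?_)
    change algebraMap R K x ∈ (⊥ : Ideal K) ↔ x ∈ (⊥ : Ideal R)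
    rw [Ideal.mem_bot, Ideal.mem_bot, map_eq_zero_iff _ (IsFractionRing.injective R K)]
  have h2 : y₁ ∈ Set.range (pullback.fst g (gn R K)) := by
    rw [Scheme.Pullback.range_fst]
    exact ⟨(⊥ : PrimeSpectrum K), h1.trans h.symm⟩
  obtain ⟨z, rfl⟩ := h2
  refine ⟨hp.isoPullback.inv z, ?_⟩
  rwa [← Scheme.Hom.comp_apply, hp.isoPullback_inv_fst]

omit [Finite (MaximalSpectrum R)] in
/-- A scheme flat over `R` with geometrically reduced fibres and integral generic fibre is integral. -/
theorem isIntegral_of_generic {Y Y' : Scheme.{u}} (g : Y ⟶ Spec (CommRingCat.of R)) [Flat g]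
    [LocallyOfFiniteType g] [GeometricallyReduced g] {c : Y' ⟶ Y} {b : Y' ⟶ Spec (CommRingCat.of K)}
    (hp : IsPullback c b g (gn R K)) [IsIntegral Y'] : IsIntegral Y := by
  have hN : IsLocallyNoetherian Y := LocallyOfFiniteType.isLocallyNoetherian g
  have hred : AlgebraicGeometry.IsReduced Y :=
    GeometricallyReduced.isReduced_of_flat_of_isLocallyNoetherian g
  have hdense : DenseRange c := by
    intro y
    obtain ⟨y', hy'⟩ := exists_generic g hp y
    exact hy'.mem_closed isClosed_closure (subset_closure ⟨_, rfl⟩)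
  have hirr : IrreducibleSpace Y := by
    refine (irreducibleSpace_def _).mpr ?_
    change IsIrreducible (Set.univ : Set Y)
    rw [← hdense.closure_range, ← Set.image_univ]
    exact ((IrreducibleSpace.isIrreducible_univ Y').image c c.continuous.continuousOn).closure
  exact isIntegral_of_irreducibleSpace_of_isReduced _

/-- Good models from a decomposition of the generic fibre. -/
theorem main [Flat f] [LocallyOfFiniteType f] [QuasiCompact f] {n : ℕ} {E : Fin n → Scheme.{u}}
    {ε : ∀ i, E i ⟶ pullback f (gn R K)} (hD : Decomp (pullback.snd f (gn R K)) E ε) :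
    Large K (fun K₂ => ∀ (R₂ : Type u) [CommRing R₂] [IsDedekindDomain R₂] [Finite (MaximalSpectrum R₂)]
      [Algebra R R₂] [Algebra.IsIntegral R R₂] [Algebra R₂ K₂] [IsFractionRing R₂ K₂] [Algebra R K₂]
      [IsScalarTower R K K₂] [IsScalarTower R R₂ K₂] (X₂ : Scheme.{u}) (f₂ : X₂ ⟶ Spec (.of R₂)) (ι₂ : X₂ ⟶ X)
      (_ : IsPullback ι₂ f₂ f (Spec.map (CommRingCat.ofHom (algebraMap R R₂)))), HasModels K₂ f₂) := by
  have hint : ∀ i, IsIntegral (E i) := fun i => by
    have := hD.geom i
    exact GeometricallyIntegral.isIntegral_of_subsingleton (ε i ≫ pullback.snd f (gn R K))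
  have h1 : ∀ i, ∃ (Z : Scheme.{u}) (z : Z ⟶ X) (t : E i ⟶ Z), IsIntegral Z ∧ IsClosedImmersion z ∧
      Flat (z ≫ f) ∧ IsPullback t (ε i) z (pullback.fst f (gn R K)) := fun i => by
    have := hD.closed i
    exact exists_closure f (ε i) (hint i)
  choose Z z t hZ hz hzf hsq using h1
  have h2 : ∀ i, GN (z i ≫ f) := by
    intro i
    have hs := hD.smooth i
    have h3 : IsPullback (t i) (ε i ≫ pullback.snd f (gn R K)) (z i ≫ f) (gn R K) :=
      ((hsq i).flip.paste_horiz (IsPullback.of_hasPullback f (gn R K)).flip).flip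
    have h4 : Smooth (pullback.snd (z i ≫ f) (Spec.map (CommRingCat.ofHom (algebraMap R K)))) := by
      rw [← h3.isoPullback_inv_snd]
      infer_instance
    exact GN.of_smooth K _
  refine (Large.forall_finite _ fun i => exists_good (R := R) (K := K) (h2 i)).mono fun K₂ _ _ _ h5 => ?_
  intro R₂ _ _ _ _ _ _ _ _ _ _ X₂ f₂ ι₂ hp
  have hlf₂ : LocallyOfFiniteType f₂ := MorphismProperty.of_isPullback hp ‹LocallyOfFiniteType f›
  -- the generic fibre of `X₂`
  let a := pullback.fst f₂ (gn R₂ K₂)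
  let b := pullback.snd f₂ (gn R₂ K₂)
  let φ : Spec (CommRingCat.of K₂) ⟶ Spec (CommRingCat.of K) := Spec.map (CommRingCat.ofHom (algebraMap K K₂))
  have hX' : IsPullback a b f₂ (gn R₂ K₂) := IsPullback.of_hasPullback _ _
  have hφ : φ ≫ gn R K = gn R₂ K₂ ≫ Spec.map (CommRingCat.ofHom (algebraMap R R₂)) := by
    rw [SpecMap_comp (P := R) (P' := R₂) (K' := K₂)]
    exact SpecMap_comp (P := R) (P' := K) (K' := K₂)
  have h6 : IsPullback (a ≫ ι₂) b f (φ ≫ gn R K) := by
    rw [hφ]
    exact hX'.paste_horiz hp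
  let t₂ : pullback f₂ (gn R₂ K₂) ⟶ pullback f (gn R K) :=
    pullback.lift (a ≫ ι₂) (b ≫ φ) (by rw [h6.w, Category.assoc])
  have ht₂ : t₂ ≫ pullback.fst f (gn R K) = a ≫ ι₂ := pullback.lift_fst _ _ _
  have h7 : IsPullback t₂ b (pullback.snd f (gn R K)) φ := by
    refine IsPullback.of_right (h₁₂ := pullback.fst f (gn R K)) (h₂₂ := gn R K) (v₁₃ := f) ?_
      (pullback.lift_snd _ _ _) (IsPullback.of_hasPullback f (gn R K))
    rw [ht₂]
    exact h6
  have hD₂ := hD.baseChange h7
  -- the base changes of the closures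
  let w := fun i => pullback.snd (z i) ι₂
  have hB : ∀ i, IsPullback (pullback.fst (z i) ι₂) (w i) (z i) ι₂ := fun i => IsPullback.of_hasPullback _ _
  have hA : ∀ i, IsPullback (pullback.fst (ε i) t₂ ≫ t i) (pullback.snd (ε i) t₂) (z i) (a ≫ ι₂) := by
    intro i
    rw [← ht₂]
    exact (IsPullback.of_hasPullback (ε i) t₂).paste_horiz (hsq i)
  let s : ∀ i, pullback (ε i) t₂ ⟶ pullback (z i) ι₂ := fun i =>
    pullback.lift (pullback.fst (ε i) t₂ ≫ t i) (pullback.snd (ε i) t₂ ≫ a) (by
      rw [(hA i).w, Category.assoc])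
  have hs : ∀ i, IsPullback (s i) (pullback.snd (ε i) t₂) (w i) a := by
    intro i
    refine IsPullback.of_right (h₁₂ := pullback.fst (z i) ι₂) (h₂₂ := ι₂) (v₁₃ := z i) ?_
      (pullback.lift_snd _ _ _) (hB i)
    rw [pullback.lift_fst]
    exact hA i
  have h8 : ∀ i, ∃ (Y : Scheme.{u}) (μ : Y ⟶ pullback (z i) ι₂), IsGood (w i ≫ f₂) μ := fun i =>
    h5 i R₂ _ (w i ≫ f₂) (pullback.fst (z i) ι₂) ((hB i).flip.paste_horiz hp.flip).flip
  choose Y μ hμ using h8
  have h9 : ∀ i, IsIso (pullback.snd (μ i) (s i)) := by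
    intro i
    have h10 := (hμ i).gIso K₂ (IsFractionRing.injective R₂ K₂)
    have h11 : IsPullback (s i) (pullback.snd (ε i) t₂ ≫ b) (w i ≫ f₂) (gn R₂ K₂) :=
      ((hs i).flip.paste_horiz hX'.flip).flip
    exact isIso_snd_comp (μ i) h11.isoPullback.hom (genι (w i ≫ f₂) K₂) (s i) h11.isoPullback_hom_fst.symm
  have h10 : ∀ i, IsPullback (inv (pullback.snd (μ i) (s i)) ≫ pullback.fst (μ i) (s i))
      (pullback.snd (ε i) t₂) (μ i ≫ w i) a := by
    intro i
    have h11 : IsPullback (inv (pullback.snd (μ i) (s i)) ≫ pullback.fst (μ i) (s i)) (𝟙 _) (μ i) (s i) :=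
      IsPullback.of_iso_pullback ⟨by rw [Category.assoc, pullback.condition]; simp⟩
        (asIso (pullback.snd (μ i) (s i))).symm rfl (by simp)
    have h12 := h11.paste_vert (hs i)
    rwa [Category.id_comp] at h12
  have hfin : ∀ i, IsFinite (μ i ≫ w i) := fun i => by
    have := (hμ i).finite
    have := hz i
    infer_instance
  have hflat : ∀ i, Flat ((μ i ≫ w i) ≫ f₂) := fun i => by
    rw [Category.assoc]
    exact (hμ i).flat
  have hgr : ∀ i, GeometricallyReduced ((μ i ≫ w i) ≫ f₂) := fun i => by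
    rw [Category.assoc]
    exact (hμ i).reduced
  refine ⟨n, Y, fun i => μ i ≫ w i, fun i => ?_, hfin, fun x => ?_, hflat, hgr, fun i => ?_⟩
  · have := hfin i
    have := hflat i
    have := hgr i
    have h11 := hD₂.geom i
    have h12 : IsIntegral (pullback (ε i) t₂) :=
      GeometricallyIntegral.isIntegral_of_subsingleton (pullback.snd (ε i) t₂ ≫ b)
    exact isIntegral_of_generic ((μ i ≫ w i) ≫ f₂) ((h10 i).flip.paste_horiz hX'.flip).flip
  · obtain ⟨y', hy'⟩ := exists_generic f (IsPullback.of_hasPullback f (gn R K)) (ι₂ x)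
    obtain ⟨i, e, rfl⟩ := hD.cover y'
    have := hz i
    have h11 : ι₂ x ∈ Set.range (z i) := by
      refine hy'.mem_closed (z i).isClosedEmbedding.isClosed_range ⟨t i e, ?_⟩
      rw [← Scheme.Hom.comp_apply, (hsq i).w, Scheme.Hom.comp_apply]
    have h12 : x ∈ Set.range (w i) := by
      rw [range_snd]
      exact h11
    obtain ⟨v, rfl⟩ := h12
    have := (hμ i).surjective
    obtain ⟨y, rfl⟩ := (μ i).surjective v
    exact ⟨i, y, rfl⟩
  · exact conds_of_isPullback hX' (h10 i) (hD₂.closed i) (hD₂.opn i) (hD₂.smooth i) (hD₂.geom i)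

end closure

end K603.ModCl
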