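import Groth.Agent.AlgSp.K603.ModNode
import Groth.Agent.AlgSp.K624.AnAsm

/-!
# Node MOD in the form used by the assembly
-/

set_option autoImplicit false
universe u

namespace K603.ModNode

theorem modN : K624.AnAsm.ModN.{u} := by
  intro R K _ _ _ _ _ _ _ G M _ act X i hS _ _ _ hM _ Xs e
  exact main K hS hM e

end K603.ModNode
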