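import Groth.Agent.AlgSp.K603.ModSm
import Groth.Agent.Dix.NormalLoc
import Groth.Agent.S1654
import Groth.Agent.CurvesC.NormSections
import Mathlib.AlgebraicGeometry.Morphisms.LocalFlatDescent
import Mathlib.AlgebraicGeometry.Geometrically.Integral

/-!
# Decomposition into smooth geometrically integral pieces after a finite extension
-/

set_option autoImplicit false
universe u

open CategoryTheory CategoryTheory.Limits AlgebraicGeometry

namespace K603.ModFld

open K603.ModSm

/-- Up to nilpotents `X` is the disjoint union of the smooth geometrically integral `E i`. -/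
structure Decomp {X B : Scheme.{u}} (f : X ⟶ B) {n : ℕ} (E : Fin n → Scheme.{u}) (ε : ∀ i, E i ⟶ X) :
    Prop where
  closed : ∀ i, IsClosedImmersion (ε i)
  opn : ∀ i, IsOpen (Set.range (ε i))
  cover : ∀ x, ∃ i, x ∈ Set.range (ε i)
  smooth : ∀ i, Smooth (ε i ≫ f)
  geom : ∀ i, GeometricallyIntegral (ε i ≫ f)

theorem range_snd {X Y Z : Scheme.{u}} (f : X ⟶ Z) (g : Y ⟶ Z) :
    Set.range (pullback.snd f g) = g ⁻¹' Set.range f := Scheme.Pullback.range_snd f g

theorem Decomp.baseChange {X B X' B' : Scheme.{u}} {f : X ⟶ B} {n : ℕ} {E : Fin n → Scheme.{u}}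
    {ε : ∀ i, E i ⟶ X} (h : Decomp f E ε) {a : X' ⟶ X} {b : X' ⟶ B'} {g : B' ⟶ B} (hp : IsPullback a b f g) :
    Decomp b (fun i => pullback (ε i) a) (fun i => pullback.snd (ε i) a) where
  closed i := by
    have := h.closed i
    infer_instance
  opn i := by
    rw [range_snd]
    exact (h.opn i).preimage a.continuous
  cover x := by
    obtain ⟨i, hi⟩ := h.cover (a x)
    exact ⟨i, by rw [range_snd]; exact hi⟩
  smooth i := MorphismProperty.of_isPullback
    ((IsPullback.of_hasPullback (ε i) a).flip.paste_horiz hp.flip).flip (h.smooth i)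
  geom i := MorphismProperty.of_isPullback
    ((IsPullback.of_hasPullback (ε i) a).flip.paste_horiz hp.flip).flip (h.geom i)

section

variable {K : Type u} [Field K] {X : Scheme.{u}} (f : X ⟶ Spec (CommRingCat.of K))

/-- smoothness of the reduction from that of the geometric fibre -/
theorem smooth_of_smRed {B : Scheme.{u}} {X₀ : Scheme.{u}} (g : X₀ ⟶ B) (hg : SmRed g)
    (φ : Spec (CommRingCat.of K) ⟶ B) (a : X ⟶ X₀) (hp : IsPullback a f g φ) {Xr : Scheme.{u}} (r : Xr ⟶ X)
    [IsClosedImmersion r] [Surjective r] [GeometricallyReduced (r ≫ f)] : Smooth (r ≫ f) := by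
  let Ω : Type u := AlgebraicClosure K
  let ψ : Spec (.of Ω) ⟶ Spec (.of K) := Spec.map (CommRingCat.ofHom <| algebraMap K Ω)
  have h1 := IsPullback.of_hasPullback f ψ
  have h2 : IsPullback (pullback.fst f ψ ≫ a) (pullback.snd f ψ) g (ψ ≫ φ) := h1.paste_horiz hp
  let s := pullback.snd r (pullback.fst f ψ)
  have h3 := ((IsPullback.of_hasPullback r (pullback.fst f ψ)).flip.paste_horiz h1.flip).flip
  have h6 : AlgebraicGeometry.IsReduced (pullback r (pullback.fst f ψ)) :=
    GeometricallyReduced.geometrically_isReduced (f := r ≫ f) ψ _ _ h3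
  have h7 : Smooth (s ≫ pullback.snd f ψ) := hg Ω (ψ ≫ φ) _ _ h2 s
  exact MorphismProperty.of_isPullback_of_descendsAlong (P := @Smooth)
    (Q := @Surjective ⊓ @Flat ⊓ @QuasiCompact) h3.flip ⟨⟨inferInstance, inferInstance⟩, inferInstance⟩ h7

/-- The decomposition from the irreducible components. -/
theorem exists_decomp_of_smooth [LocallyOfFiniteType f] [QuasiCompact f] {Xr : Scheme.{u}} (r : Xr ⟶ X)
    [IsClosedImmersion r] [Surjective r] [AlgebraicGeometry.IsReduced Xr] [GeometricallyReduced (r ≫ f)]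
    [Smooth (r ≫ f)]
    (hirr : ∀ (T : Set X) (hT : T ∈ irreducibleComponents (X : Type u)),
        GeometricallyIrreducible
          ((Scheme.IdealSheafData.vanishingIdeal ⟨T, isClosed_of_mem_irreducibleComponents T hT⟩).subschemeι ≫ f)) :
    ∃ (n : ℕ) (E : Fin n → Scheme.{u}) (ε : ∀ i, E i ⟶ X), Decomp f E ε := by
  have hnoeth : IsNoetherian X := by
    have : IsLocallyNoetherian X := LocallyOfFiniteType.isLocallyNoetherian f
    have : CompactSpace X := QuasiCompact.compactSpace_of_compactSpace f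
    exact {}
  have hfin : (irreducibleComponents (X : Type u)).Finite :=
    TopologicalSpace.NoetherianSpace.finite_irreducibleComponents
  have hrop : Topology.IsOpenEmbedding r := ⟨r.isClosedEmbedding.isEmbedding, by
    rw [r.surjective.range_eq]
    exact isOpen_univ⟩
  have hnoeth' : TopologicalSpace.NoetherianSpace Xr := hrop.isInducing.noetherianSpace
  have hdom : ∀ y : Xr, IsDomain (Xr.presheaf.stalk y) := fun y =>
    (Groth.Agent.Dix.NormalLoc.stalk_of_smooth (r ≫ f) y).1
  let Z : irreducibleComponents (X : Type u) → TopologicalSpace.Closeds X := fun T =>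
    ⟨T.1, isClosed_of_mem_irreducibleComponents T.1 T.2⟩
  let E : irreducibleComponents (X : Type u) → Scheme.{u} := fun T =>
    (Scheme.IdealSheafData.vanishingIdeal (Z T)).subscheme
  let ε : ∀ T, E T ⟶ X := fun T => (Scheme.IdealSheafData.vanishingIdeal (Z T)).subschemeι
  have hrange : ∀ T, Set.range (ε T) = T.1 := by
    intro T
    exact (Scheme.IdealSheafData.range_subschemeι _).trans (by
      rw [Scheme.IdealSheafData.coe_support_vanishingIdeal]
      rfl)
  have hred : ∀ T, AlgebraicGeometry.IsReduced (E T) := fun T =>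
    Groth.Agent.Ega1.ReducedSub.isReduced_subscheme_vanishingIdeal _
  have hpre : ∀ T : irreducibleComponents (X : Type u), r ⁻¹' T.1 ∈ irreducibleComponents (Xr : Type u) :=
    fun T => preimage_mem_irreducibleComponents T.2 hrop (by
      rw [r.surjective.range_eq, Set.inter_univ]
      exact T.2.1.nonempty)
  have hopr : ∀ T : irreducibleComponents (X : Type u), IsOpen (r ⁻¹' T.1) := fun T =>
    Groth.Agent.CurvesC.NormSections.isOpen_of_mem_irreducibleComponents hdom (hpre T)
  have hop : ∀ T : irreducibleComponents (X : Type u), IsOpen (T.1 : Set X) := fun T => by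
    rw [← Set.image_preimage_eq T.1 r.surjective]
    exact hrop.isOpenMap _ (hopr T)
  have key : ∀ T, Smooth (ε T ≫ f) ∧ GeometricallyIntegral (ε T ≫ f) := by
    intro T
    let U : Xr.Opens := ⟨r ⁻¹' T.1, hopr T⟩
    have hcl : IsClosedImmersion U.ι := by
      refine IsClosedImmersion.of_isPreimmersion U.ι ?_
      rw [Scheme.Opens.range_ι]
      exact (isClosed_of_mem_irreducibleComponents T.1 T.2).preimage r.continuous
    have := hred T
    obtain ⟨e, he⟩ := K925.RedGrp.exists_iso (ε T) (U.ι ≫ r) (by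
      rw [hrange, Scheme.Hom.comp_base, TopCat.coe_comp, Set.range_comp, Scheme.Opens.range_ι]
      exact (Set.image_preimage_eq T.1 r.surjective).symm)
    have h1 : ε T ≫ f = e.hom ≫ U.ι ≫ r ≫ f := by rw [← he]; simp
    have h2 : Smooth (ε T ≫ f) := by rw [h1]; infer_instance
    have h3 : GeometricallyReduced (ε T ≫ f) := by
      rw [h1]
      have := K925.RedGrp.geometricallyReduced_comp U.ι (r ≫ f)
      exact K925.RedGrp.geometricallyReduced_comp e.hom (U.ι ≫ r ≫ f)
    have h4 : GeometricallyIrreducible (ε T ≫ f) := hirr T.1 T.2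
    exact ⟨h2, GeometricallyIntegral.of_geometricallyReduced_of_geometricallyIrreducible _⟩
  have := hfin.to_subtype
  obtain ⟨n, ⟨σ⟩⟩ := Finite.exists_equiv_fin (irreducibleComponents (X : Type u))
  refine ⟨n, fun i => E (σ.symm i), fun i => ε (σ.symm i), ⟨fun i => inferInstance, fun i => ?_, fun x => ?_,
    fun i => (key _).1, fun i => (key _).2⟩⟩
  · rw [hrange]
    exact hop _
  · refine ⟨σ ⟨irreducibleComponent x, irreducibleComponent_mem_irreducibleComponents x⟩, ?_⟩
    rw [hrange, Equiv.symm_apply_apply]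
    exact mem_irreducibleComponent

/-- Decomposition over a finite extension. -/
theorem exists_decomp [LocallyOfFiniteType f] [QuasiCompact f] {B X₀ : Scheme.{u}} (g : X₀ ⟶ B) (hg : SmRed g)
    (φ : Spec (CommRingCat.of K) ⟶ B) (a : X ⟶ X₀) (hp : IsPullback a f g φ) :
    ∃ (K₁ : Type u) (_ : Field K₁) (_ : Algebra K K₁), FiniteDimensional K K₁ ∧
      ∀ {X₁ : Scheme.{u}} (a₁ : X₁ ⟶ X) (f₁ : X₁ ⟶ Spec (CommRingCat.of K₁))
        (_ : IsPullback a₁ f₁ f (Spec.map (CommRingCat.ofHom (algebraMap K K₁)))),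
        ∃ (n : ℕ) (E : Fin n → Scheme.{u}) (ε : ∀ i, E i ⟶ X₁), Decomp f₁ E ε := by
  obtain ⟨K', _, _, hfd', hpi', hK'⟩ := K925.RedGrp.exists_finite f
  let ψ' : Spec (CommRingCat.of K') ⟶ Spec (CommRingCat.of K) := Spec.map (CommRingCat.ofHom (algebraMap K K'))
  let f' := pullback.snd f ψ'
  let _ : (pullback f ψ').Over (Spec (CommRingCat.of K')) := ⟨f'⟩
  have hlft : LocallyOfFiniteType ((pullback f ψ') ↘ (Spec (CommRingCat.of K'))) :=
    inferInstanceAs (LocallyOfFiniteType (pullback.snd f ψ'))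
  have hnoeth : IsNoetherian (pullback f ψ') := by
    have : IsLocallyNoetherian (pullback f ψ') := LocallyOfFiniteType.isLocallyNoetherian (pullback.snd f ψ')
    have : CompactSpace (pullback f ψ' :) := QuasiCompact.compactSpace_of_compactSpace (pullback.snd f ψ')
    exact {}
  obtain ⟨K₁, _, _, hfd₁, hsep₁, hK₁⟩ := Groth.Agent.S1654.result K' (pullback f ψ')
    TopologicalSpace.NoetherianSpace.finite_irreducibleComponents
  let iA : Algebra K K₁ := ((algebraMap K' K₁).comp (algebraMap K K')).toAlgebra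
  have tA : IsScalarTower K K' K₁ := IsScalarTower.of_algebraMap_eq' rfl
  refine ⟨K₁, inferInstance, inferInstance, Module.Finite.trans (R := K) K' K₁, ?_⟩
  intro X₁ a₁ f₁ hp₁
  let b := Curv2.bcSnd K' (pullback f ψ') K₁
  let ψ₁ : Spec (CommRingCat.of K₁) ⟶ Spec (CommRingCat.of K') := Spec.map (CommRingCat.ofHom (algebraMap K' K₁))
  have hψ : ψ₁ ≫ ψ' = Spec.map (CommRingCat.ofHom (algebraMap K K₁)) := by
    rw [← Spec.map_comp, ← CommRingCat.ofHom_comp]
  have h1 : IsPullback (Curv2.bcFst K' (pullback f ψ') K₁) b f' ψ₁ := IsPullback.of_hasPullback _ _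
  have h2 := h1.paste_horiz (IsPullback.of_hasPullback f ψ')
  have h3 := h2.paste_horiz hp
  have hb : LocallyOfFiniteType b := MorphismProperty.of_isPullback h2 ‹LocallyOfFiniteType f›
  have hb' : QuasiCompact b := MorphismProperty.of_isPullback h2 ‹QuasiCompact f›
  obtain ⟨Xr, r, _, _, _⟩ := exists_red (Curv2.bc K' (pullback f ψ') K₁)
  have h4 : GeometricallyReduced (r ≫ b) := hK' K₁ (algebraMap K' K₁) _ _ (by
    rw [hψ] at h2
    exact h2) r
  have h5 : Smooth (r ≫ b) := smooth_of_smRed b g hg _ _ h3 r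
  obtain ⟨n, E, ε, hD⟩ := exists_decomp_of_smooth b r hK₁
  rw [hψ] at h2
  have h6 : IsPullback (h2.isoIsPullback _ _ hp₁).inv f₁ b (𝟙 _) := by
    refine IsPullback.of_horiz_isIso ⟨by simp⟩
  exact ⟨n, _, _, hD.baseChange h6⟩

end

end K603.ModFld
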