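import Groth.Agent.AlgSp.K603.ModCl
import Groth.Agent.AlgSp.K624.AnBC2

/-!
# Good models of homogeneous spaces over large extensions of a semi-local Dedekind base
-/

set_option autoImplicit false
universe u

open CategoryTheory CategoryTheory.Limits AlgebraicGeometry AlgSp

namespace K603.ModNode

open K603.ModSm K603.ModFld K603.ModCl K622.AnDefs K622.AnDefs2 K93.RedFib

/-- Largeness over a finite extension. -/
theorem Large.of_ext {K K₁ : Type u} [Field K] [Field K₁] [Algebra K K₁] [FiniteDimensional K K₁]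
    {P₁ : ∀ (K₂ : Type u) [Field K₂] [Algebra K₁ K₂], Prop} {P : ∀ (K₂ : Type u) [Field K₂] [Algebra K K₂], Prop}
    (h : Large K₁ P₁)
    (H : ∀ (K₂ : Type u) [Field K₂] [Algebra K K₂] [Algebra K₁ K₂] [IsScalarTower K K₁ K₂]
      [FiniteDimensional K K₂], P₁ K₂ → P K₂) : Large K P := by
  obtain ⟨K', _, _, _, h'⟩ := h
  let i1 : Algebra K K' := ((algebraMap K₁ K').comp (algebraMap K K₁)).toAlgebra
  have t1 : IsScalarTower K K₁ K' := IsScalarTower.of_algebraMap_eq' rfl
  refine ⟨K', inferInstance, i1, Module.Finite.trans (R := K) K₁ K', ?_⟩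
  intro K₂ _ _ _ _ _
  let i2 : Algebra K₁ K₂ := ((algebraMap K' K₂).comp (algebraMap K₁ K')).toAlgebra
  have t2 : IsScalarTower K₁ K' K₂ := IsScalarTower.of_algebraMap_eq' rfl
  have t3 : IsScalarTower K K₁ K₂ := IsScalarTower.of_algebraMap_eq fun x => by
    change _ = algebraMap K' K₂ (algebraMap K₁ K' (algebraMap K K₁ x))
    rw [← IsScalarTower.algebraMap_apply K K₁ K', ← IsScalarTower.algebraMap_apply K K' K₂]
  have f1 : FiniteDimensional K₁ K₂ := Module.Finite.of_restrictScalars_finite K K₁ K₂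
  exact H K₂ (h' K₂)

theorem finite_maxSpec_ic {R : Type u} (K : Type u) {L : Type u} [CommRing R] [Field K] [Field L] [Algebra R K]
    [Algebra K L] [Algebra R L] [IsScalarTower R K L] [IsDedekindDomain R] [IsFractionRing R K]
    [FiniteDimensional K L] [Finite (MaximalSpectrum R)] : Finite (MaximalSpectrum (integralClosure R L)) := by
  by_cases h : IsField R
  · have h1 : IsField (integralClosure R L) := isField_of_isIntegral_of_isField' h
    have : Subsingleton (MaximalSpectrum (integralClosure R L)) := ⟨fun p q => by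
      let _ := h1.toField
      have h2 : ∀ p : MaximalSpectrum (integralClosure R L), p.asIdeal = ⊥ := fun p =>
        (Ideal.eq_bot_or_top p.asIdeal).resolve_right p.isMaximal.ne_top
      exact MaximalSpectrum.ext ((h2 p).trans (h2 q).symm)⟩
    infer_instance
  · exact K624.AnBC.finite_ic R K L h

section

variable {R : Type u} (K : Type u) [CommRing R] [IsDedekindDomain R] [Finite (MaximalSpectrum R)] [Field K]
  [Algebra R K] [IsFractionRing R K] {X : Scheme.{u}} (f : X ⟶ Spec (CommRingCat.of R)) [Flat f]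
  [LocallyOfFiniteType f] [QuasiCompact f]

/-- Good models over large extensions, for schemes with smooth reduced geometric fibres. -/
theorem large_of_smRed (hf : SmRed f) :
    Large K (fun K₂ => ∀ (R₂ : Type u) [CommRing R₂] [IsDedekindDomain R₂] [Finite (MaximalSpectrum R₂)]
      [Algebra R R₂] [Algebra.IsIntegral R R₂] [Algebra R₂ K₂] [IsFractionRing R₂ K₂] [Algebra R K₂]
      [IsScalarTower R K K₂] [IsScalarTower R R₂ K₂] (X₂ : Scheme.{u}) (f₂ : X₂ ⟶ Spec (.of R₂)) (ι₂ : X₂ ⟶ X)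
      (_ : IsPullback ι₂ f₂ f (Spec.map (CommRingCat.ofHom (algebraMap R R₂)))), HasModels K₂ f₂) := by
  have hlf : LocallyOfFiniteType (pullback.snd f (gn R K)) := inferInstance
  obtain ⟨K₁, _, _, hfd, hK₁⟩ := exists_decomp (pullback.snd f (gn R K)) f hf (gn R K) _
    (IsPullback.of_hasPullback f (gn R K))
  let i1 : Algebra R K₁ := ((algebraMap K K₁).comp (algebraMap R K)).toAlgebra
  have t1 : IsScalarTower R K K₁ := IsScalarTower.of_algebraMap_eq' rfl
  let R₁ := integralClosure R K₁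
  have d1 : IsDedekindDomain R₁ := K624.AnBC.isDedekindDomain_ic R K K₁
  have d2 : IsFractionRing R₁ K₁ := K624.AnBC.isFractionRing_ic R K K₁
  have d3 : Finite (MaximalSpectrum R₁) := finite_maxSpec_ic K
  let f₁ := pullback.snd f (Spec.map (CommRingCat.ofHom (algebraMap R R₁)))
  have h1 : IsPullback (pullback.fst f (Spec.map (CommRingCat.ofHom (algebraMap R R₁)))) f₁ f
    (Spec.map (CommRingCat.ofHom (algebraMap R R₁))) := IsPullback.of_hasPullback _ _
  have h2 := (IsPullback.of_hasPullback f₁ (gn R₁ K₁)).paste_horiz h1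
  let φ : Spec (CommRingCat.of K₁) ⟶ Spec (CommRingCat.of K) := Spec.map (CommRingCat.ofHom (algebraMap K K₁))
  have hφ : φ ≫ gn R K = gn R₁ K₁ ≫ Spec.map (CommRingCat.ofHom (algebraMap R R₁)) := by
    rw [SpecMap_comp (P := R) (P' := R₁) (K' := K₁)]
    exact SpecMap_comp (P := R) (P' := K) (K' := K₁)
  rw [← hφ] at h2
  let t := pullback.lift (f := f) (g := gn R K) (pullback.fst f₁ (gn R₁ K₁) ≫ pullback.fst f _)
    (pullback.snd f₁ (gn R₁ K₁) ≫ φ) (by rw [h2.w, Category.assoc])
  have h3 : IsPullback t (pullback.snd f₁ (gn R₁ K₁)) (pullback.snd f (gn R K)) φ := by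
    refine IsPullback.of_right (h₁₂ := pullback.fst f (gn R K)) (h₂₂ := gn R K) (v₁₃ := f) ?_
      (pullback.lift_snd _ _ _) (IsPullback.of_hasPullback f (gn R K))
    rw [pullback.lift_fst]
    exact h2
  obtain ⟨n, E, ε, hD⟩ := hK₁ _ _ h3
  refine Large.of_ext (ModCl.main f₁ hD) fun K₂ _ _ _ _ _ h4 => ?_
  intro R₂ _ _ _ _ _ _ _ _ _ _ X₂ f₂ ι₂ hp
  have t2 : IsScalarTower R₁ K₁ K₂ := inferInstance
  have t3 : IsScalarTower R R₁ K₂ := IsScalarTower.of_algebraMap_eq fun x => by
    rw [IsScalarTower.algebraMap_apply R₁ K₁ K₂, ← IsScalarTower.algebraMap_apply R R₁ K₁, IsScalarTower.algebraMap_apply R K K₁,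
      ← IsScalarTower.algebraMap_apply K K₁ K₂, ← IsScalarTower.algebraMap_apply R K K₂]
  have hic : IsIntegralClosure R₂ R K₂ := by
    refine ⟨IsFractionRing.injective R₂ K₂, fun {x} => ⟨fun hx => ?_, ?_⟩⟩
    · have h5 : IsIntegral R₂ x := hx.tower_top
      exact IsIntegrallyClosed.isIntegral_iff.mp h5
    · rintro ⟨y, rfl⟩
      exact (Algebra.IsIntegral.isIntegral (R := R) y).algebraMap
  let ρ : R₁ →ₐ[R] R₂ := IsIntegralClosure.lift R R₂ K₂
  let i3 : Algebra R₁ R₂ := ρ.toRingHom.toAlgebra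
  have t4 : IsScalarTower R R₁ R₂ := IsScalarTower.of_algebraMap_eq fun x => (ρ.commutes x).symm
  have t5 : IsScalarTower R₁ R₂ K₂ := IsScalarTower.of_algebraMap_eq fun x =>
    (IsIntegralClosure.algebraMap_lift (R := R) R₂ K₂ x).symm
  have t6 : Algebra.IsIntegral R₁ R₂ := Algebra.IsIntegral.tower_top (R := R)
  have h6 : Spec.map (CommRingCat.ofHom (algebraMap R₁ R₂)) ≫ Spec.map (CommRingCat.ofHom (algebraMap R R₁)) =
      Spec.map (CommRingCat.ofHom (algebraMap R R₂)) := SpecMap_comp (P := R) (P' := R₁) (K' := R₂)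
  rw [← h6] at hp
  let ι' := pullback.lift (f := f) (g := Spec.map (CommRingCat.ofHom (algebraMap R R₁))) ι₂
    (f₂ ≫ Spec.map (CommRingCat.ofHom (algebraMap R₁ R₂))) (by rw [hp.w, Category.assoc])
  refine h4 R₂ X₂ f₂ ι' ?_
  refine IsPullback.of_right (h₁₂ := pullback.fst f _) (h₂₂ := Spec.map (CommRingCat.ofHom (algebraMap R R₁)))
      (v₁₃ := f) ?_ (pullback.lift_snd _ _ _) h1
  rw [pullback.lift_fst]
  exact hp

/-- **Node MOD**: good models of an open subspace, represented by a scheme, of a homogeneous space over a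
semi-local Dedekind base, over large extensions. -/
theorem main {G M : Over ((yon (Spec (CommRingCat.of R))).obj (Over.mk (𝟙 (Spec (CommRingCat.of R)))))} [GrpObj G]
    {act : GAction G M} {X : Sp (Spec (CommRingCat.of R))} {i : X ⟶ M.left} (h : Sit act i)
    (hM : K632.FlatClos.FlatSp M.left) {Xs : Over (Spec (CommRingCat.of R))}
    (e : (yon (Spec (CommRingCat.of R))).obj Xs ≅ X) :
    Large K (fun K₂ => ∀ (R₂ : Type u) [CommRing R₂] [IsDedekindDomain R₂] [Finite (MaximalSpectrum R₂)]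
      [Algebra R R₂] [Algebra.IsIntegral R R₂] [Algebra R₂ K₂] [IsFractionRing R₂ K₂] [Algebra R K₂]
      [IsScalarTower R K K₂] [IsScalarTower R R₂ K₂] (X₂ : Scheme.{u}) (f₂ : X₂ ⟶ Spec (.of R₂)) (ι₂ : X₂ ⟶ Xs.left)
      (_ : IsPullback ι₂ f₂ Xs.hom (Spec.map (CommRingCat.ofHom (algebraMap R R₂)))), HasModels K₂ f₂) := by
  have hj : RepWith @IsOpenImmersion (e.hom ≫ i) :=
    (MorphismProperty.cancel_left_of_respectsIso (RepWith @IsOpenImmersion) _ _).2 h.op
  have hj' : RepWith @Etale (e.hom ≫ i) := K598.RepKit.repWith_mono (fun _ _ _ h => by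
    have := h
    infer_instance) hj
  have h1 : Flat Xs.hom := hM _ hj'
  have h2 : LocallyOfFiniteType Xs.hom := K626.W5.prop_chart h.lftM hj'
  have h3 : CompactSpace Xs.left := K596.QC.compactSpace_of_isQuasiCompactSp
    (K596.QC2.isQuasiCompactSp_of_iso (IsAlgSpace.yon_obj Xs) e.symm h.qc)
  have h4 : QuasiCompact Xs.hom :=
    (quasiCompact_iff_compactSpace (show Xs.left ⟶ Spec (CommRingCat.of R) from Xs.hom)).mpr h3
  exact large_of_smRed K Xs.hom (smRed_of_sit h e)

end

end K603.ModNode
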