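import Groth.Agent.AlgSp.K626.HomFld
import Groth.Agent.AlgSp.K925.RedFin
import Groth.Agent.AlgSp.K597.EtLoc
import Groth.Agent.Ega1.ReducedSub
import Mathlib.AlgebraicGeometry.Morphisms.Smooth

/-!
# Homogeneous spaces over an algebraically closed field have smooth reductions
-/

set_option autoImplicit false
set_option backward.isDefEq.respectTransparency false
universe u

open CategoryTheory CategoryTheory.Limits AlgebraicGeometry Opposite TopologicalSpace
open MonoidalCategory CartesianMonoidalCategory MonObj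

namespace K603.ModSm

open AlgSp K610.SchLocus K626.W5 K626.HomAct K626.HomPt K626.HomFld

variable {S : Scheme.{u}}

theorem injective_ofPt_iso {X : Sp S} {H : Over S} (e : (yon S).obj H ≅ X) :
    Function.Injective (Points.ofPt e.hom) := by
  intro x y h
  have h1 := congrArg (Points.map e.inv) h
  rw [Points.map_ofPt, Points.map_ofPt, e.hom_inv_id] at h1
  have h2 := congrArg (Points.toScheme H) h1
  rw [← CategoryTheory.Functor.map_id, Points.toScheme_ofPt, Points.toScheme_ofPt] at h2
  exact h2

/-- the smooth locus is stable under automorphisms -/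
theorem mem_smoothLocus_of_iso {X Y : Scheme.{u}} (ρ : X ≅ X) (f : X ⟶ Y) [LocallyOfFinitePresentation f]
    (h : ρ.hom ≫ f = f) {x : X} (hx : x ∈ f.smoothLocus) : ρ.hom x ∈ f.smoothLocus := by
  have h1 := Scheme.Hom.preimage_smoothLocus_eq ρ.hom f
  have h2 : x ∈ ρ.hom ⁻¹ᵁ f.smoothLocus := by
    rw [h1]
    have : ∀ (g : X ⟶ Y) [LocallyOfFinitePresentation g], g = f → x ∈ g.smoothLocus := by
      rintro g _ rfl
      exact hx
    exact this _ h
  exact h2

variable {κ : Type u} [Field κ] [IsAlgClosed κ] (str : Spec (CommRingCat.of κ) ⟶ S)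
  {G Y : Over ((yon S).obj (Over.mk (𝟙 S)))} [GrpObj G] (a : GAction G Y)

omit [IsAlgClosed κ] in
theorem lft_of_iso (hY : IsAlgSpace Y.left) (hYft : LocP @LocallyOfFiniteType Y.hom)
    {W : Over S} (e : (yon S).obj W ≅ Y.left ⨯ (yon S).obj (Over.mk str)) (w : W ⟶ Over.mk str)
    (hw : (yon S).map w = e.hom ≫ prod.snd) : LocallyOfFiniteType w.left := by
  obtain ⟨V, p, hp, hp'⟩ := hY.atlas
  have : LocallyOfFiniteType V.hom := prop_chart hYft hp
  have hft : LocallyOfFiniteType (chT₂ str V).left :=
    inferInstanceAs (LocallyOfFiniteType (pullback.snd V.hom str))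
  let c : chT str V ⟶ W := (yon S).preimage (chMap str p ≫ e.inv)
  have hc : (yon S).map c = chMap str p ≫ e.inv := (yon S).map_preimage _
  have hc1 : RepWith @Etale ((yon S).map c) := by
    rw [hc]
    exact (MorphismProperty.cancel_right_of_respectsIso (RepWith @Etale) _ _).2 (repWith_chMap str p _ hp)
  have hc2 : RepWith @Surjective ((yon S).map c) := by
    rw [hc]
    exact (MorphismProperty.cancel_right_of_respectsIso (RepWith @Surjective) _ _).2 (repWith_chMap str p _ hp')
  have he : Etale c.left := (repWith_yon_map_iff _ _).1 hc1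
  have hs : Surjective c.left := (repWith_yon_map_iff _ _).1 hc2
  have h3 : c ≫ w = chT₂ str V := by
    apply (yon S).map_injective
    rw [Functor.map_comp, hc, hw, Category.assoc, e.inv_hom_id_assoc]
    exact prod.lift_snd _ _
  have h4 : LocallyOfFiniteType (c.left ≫ w.left) := by
    change LocallyOfFiniteType (c ≫ w).left
    rw [h3]
    exact hft
  exact K597.etLoc_lft.descend c.left w.left he hs h4

/-- The reduction of a homogeneous space over an algebraically closed field is smooth. -/
theorem smooth_red (ha : Trans a) (hY : IsAlgSpace Y.left) (hYft : LocP @LocallyOfFiniteType Y.hom)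
    {W : Over S} (e : (yon S).obj W ≅ Y.left ⨯ (yon S).obj (Over.mk str)) (w : W ⟶ Over.mk str)
    (hw : (yon S).map w = e.hom ≫ prod.snd) {Wr : Scheme.{u}} (r : Wr ⟶ W.left) [IsClosedImmersion r]
    [Surjective r] [AlgebraicGeometry.IsReduced Wr] : Smooth (r ≫ w.left) := by
  have hlft : LocallyOfFiniteType w.left := lft_of_iso str hY hYft e w hw
  let f : Wr ⟶ Spec (CommRingCat.of κ) := r ≫ w.left
  have hf : LocallyOfFiniteType f := inferInstanceAs (LocallyOfFiniteType (r ≫ w.left))
  change Smooth f
  rw [← Scheme.Hom.smoothLocus_eq_top_iff]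
  have hrinj : Function.Injective r := r.isClosedEmbedding.injective
  have hrop : IsOpenMap r := r.isClosedEmbedding.isInducing.isOpenMap (by
    rw [r.surjective.range_eq]
    exact isOpen_univ)
  let Q : Set (Points (Y.left ⨯ (yon S).obj (Over.mk str))) :=
    (fun z : Wr => Points.ofPt e.hom (r z)) '' (f.smoothLocus : Set Wr)
  have he : RepWith @Etale e.hom := (RepWith @Etale).of_isIso _
  have hQ : IsOpen Q :=
    (K610.Base.isOpenMap_ofPt_etale he).comp hrop _ f.smoothLocus.2
  by_cases hne : Nonempty Wr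
  swap
  · ext x
    exact absurd ⟨x⟩ hne
  have hQne : Q.Nonempty := by
    obtain ⟨z, hz⟩ := f.dense_smoothLocus_of_perfectField.nonempty
    exact ⟨_, z, hz, rfl⟩
  have key := eq_univ_of_stable str a ha hY hYft hQ hQne (by
    rintro g _ ⟨z, hz, rfl⟩
    let τ := trIso a g
    let θ : W ≅ W := (yon S).preimageIso (e ≪≫ τ ≪≫ e.symm)
    have hθ : (yon S).map θ.hom = e.hom ≫ τ.hom ≫ e.inv := (yon S).map_preimage _
    have hθw : θ.hom ≫ w = w := by
      apply (yon S).map_injective
      rw [Functor.map_comp, hθ, hw, Category.assoc, Category.assoc, e.inv_hom_id_assoc]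
      congr 1
      exact prod.lift_snd _ _
    have hθl : θ.hom.left ≫ w.left = w.left := congrArg (fun f => f.left) hθw
    have : IsIso θ.hom.left := inferInstanceAs (IsIso ((Over.forget S).map θ.hom))
    obtain ⟨ρ, hρ⟩ := K925.RedGrp.exists_iso (r ≫ θ.hom.left) r (by
      rw [(r ≫ θ.hom.left).surjective.range_eq, r.surjective.range_eq])
    have hρf : ρ.hom ≫ f = f := by
      change ρ.hom ≫ r ≫ w.left = r ≫ w.left
      rw [reassoc_of% hρ, hθl]
    refine ⟨ρ.hom z, mem_smoothLocus_of_iso ρ f hρf hz, ?_⟩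
    change Points.ofPt e.hom (r (ρ.hom z)) = Points.map τ.hom (Points.ofPt e.hom (r z))
    have h1 : r (ρ.hom z) = θ.hom.left (r z) := by
      have := congrArg (fun g => g z) (congrArg (fun g : Wr ⟶ W.left => (g : Wr → W.left)) hρ)
      simpa using this
    rw [h1, ← K647.Pts.ofPt_map, hθ, Points.map_ofPt]
    simp)
  ext z
  simp only [TopologicalSpace.Opens.coe_top, Set.mem_univ, iff_true]
  obtain ⟨z', hz', h⟩ : Points.ofPt e.hom (r z) ∈ Q := key.symm ▸ Set.mem_univ _
  have := hrinj (injective_ofPt_iso e h)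
  rwa [this] at hz'

/-- The reductions of the base changes of `f` to algebraically closed fields are smooth. -/
def SmRed {X B : Scheme.{u}} (f : X ⟶ B) : Prop :=
  ∀ (k : Type u) [Field k] [IsAlgClosed k] (φ : Spec (CommRingCat.of k) ⟶ B) {X' Xr : Scheme.{u}}
    (a : X' ⟶ X) (b : X' ⟶ Spec (CommRingCat.of k)) (_ : IsPullback a b f φ) (r : Xr ⟶ X')
    [IsClosedImmersion r] [Surjective r] [AlgebraicGeometry.IsReduced Xr], Smooth (r ≫ b)

/-- The reduction of a scheme. -/
theorem exists_red (Y : Scheme.{u}) : ∃ (Y' : Scheme.{u}) (i : Y' ⟶ Y), AlgebraicGeometry.IsReduced Y' ∧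
    IsClosedImmersion i ∧ Surjective i := by
  refine ⟨Y.nilradical.subscheme, Y.nilradical.subschemeι,
    Groth.Agent.Ega1.ReducedSub.isReduced_subscheme_radical _, inferInstance, ?_⟩
  rw [surjective_iff, ← Set.range_eq_univ, Scheme.IdealSheafData.range_subschemeι,
    Scheme.support_nilradical]
  rfl

/-- Reduced closed subschemes of an open subscheme with full support, compared with a smooth one. -/
theorem smooth_of_open {B W U Wr Ur : Scheme.{u}} (w : W ⟶ B) (o : U ⟶ W) [IsOpenImmersion o]
    (r : Wr ⟶ W) [IsClosedImmersion r] [Surjective r] [AlgebraicGeometry.IsReduced Wr] [Smooth (r ≫ w)]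
    (s : Ur ⟶ U) [IsClosedImmersion s] [Surjective s] [AlgebraicGeometry.IsReduced Ur] :
    Smooth (s ≫ o ≫ w) := by
  have hP : AlgebraicGeometry.IsReduced (pullback r o) :=
    isReduced_of_isOpenImmersion (pullback.fst r o)
  obtain ⟨e, he⟩ := K925.RedGrp.exists_iso s (pullback.snd r o) (by
    rw [s.surjective.range_eq, (pullback.snd r o).surjective.range_eq])
  rw [← he, Category.assoc, ← pullback.condition_assoc]
  infer_instance

/-- The reductions of the geometric fibres of an open subscheme of a homogeneous space are smooth. -/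
theorem smRed_of_trans (ha : Trans a) (hY : IsAlgSpace Y.left) (hYft : LocP @LocallyOfFiniteType Y.hom)
    (hsep : IsSeparatedSp Y.left) {V : Over S} (p : (yon S).obj V ⟶ Y.left) (hp : RepWith @IsOpenImmersion p) :
    SmRed V.hom := by
  intro k _ _ str X' Xr α β hpb r _ _ _
  obtain ⟨W, ⟨e⟩⟩ := K610.ZarGlue.isRepresentable_iff.1 (isRepresentable str a ha hY hYft hsep)
  let w : W ⟶ Over.mk str := (yon S).preimage (e.hom ≫ prod.snd)
  have hw : (yon S).map w = e.hom ≫ prod.snd := (yon S).map_preimage _
  let o : chT str V ⟶ W := (yon S).preimage (chMap str p ≫ e.inv)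
  have ho : (yon S).map o = chMap str p ≫ e.inv := (yon S).map_preimage _
  have ho1 : RepWith @IsOpenImmersion ((yon S).map o) := by
    rw [ho]
    exact (MorphismProperty.cancel_right_of_respectsIso (RepWith @IsOpenImmersion) _ _).2
      (repWith_chMap str p _ hp)
  have ho2 : IsOpenImmersion o.left := (repWith_yon_map_iff _ _).1 ho1
  have ho3 : o ≫ w = chT₂ str V := by
    apply (yon S).map_injective
    rw [Functor.map_comp, ho, hw, Category.assoc, e.inv_hom_id_assoc]
    exact prod.lift_snd _ _
  have ho4 : o.left ≫ w.left = pullback.snd V.hom str := congrArg (fun f => f.left) ho3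
  obtain ⟨Wr, ρ, _, _, _⟩ := exists_red W.left
  have hsm : Smooth (ρ ≫ w.left) := smooth_red str a ha hY hYft e w hw ρ
  let s : Xr ⟶ (chT str V).left := r ≫ hpb.isoPullback.hom
  have hs1 : IsClosedImmersion s := inferInstanceAs (IsClosedImmersion (r ≫ hpb.isoPullback.hom))
  have hs2 : Surjective s := inferInstanceAs (Surjective (r ≫ hpb.isoPullback.hom))
  have key := smooth_of_open w.left o.left ρ s
  rw [ho4] at key
  have h5 : s ≫ pullback.snd V.hom str = r ≫ β := by
    change (r ≫ hpb.isoPullback.hom) ≫ _ = _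
    rw [Category.assoc, hpb.isoPullback_hom_snd]
  rwa [h5] at key

/-- ... in the situation `Sit`. -/
theorem smRed_of_sit {G M : Over ((yon S).obj (Over.mk (𝟙 S)))} [GrpObj G] {act : GAction G M} {X : Sp S}
    {i : X ⟶ M.left} (h : K622.AnDefs.Sit act i) {Xs : Over S} (e : (yon S).obj Xs ≅ X) : SmRed Xs.hom :=
  smRed_of_trans act (K626.HomEpi.trans_of_epi act h.hom) h.algM h.lftM h.sepM (e.hom ≫ i)
    ((MorphismProperty.cancel_left_of_respectsIso (RepWith @IsOpenImmersion) _ _).2 h.op)

end K603.ModSm
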