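import Groth.Agent.AlgSp.K622.AnDefs
import Groth.Agent.AlgSp.K619.LocSurj
import Groth.Agent.AlgSp.K597.LocP
import Groth.Agent.AlgSp.K597.EtLoc
import Groth.Agent.AlgSp.K594.Fib
import Groth.Agent.AlgSp.K607.Act

/-!
# Orbit maps of a homogeneous space are flat

`main`: `G` a group algebraic space acting on an algebraic space `M` with `G × M ⟶ M × M`, `(g, m) ↦ (g m, m)`, an
epimorphism of fppf sheaves; then for every point `x` of `M` with values in a field `k` the orbit map
`G_k ⟶ M_k` is flat.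
-/

set_option autoImplicit false
universe u

open CategoryTheory CategoryTheory.Limits AlgebraicGeometry Opposite MonoidalCategory
  CartesianMonoidalCategory MonObj AlgSp

namespace K603.OrbFlat

variable {S : Scheme.{u}}

section Descent

theorem flat_of_local {A B : Sp S} (hA : IsAlgSpace A) (hB : IsAlgSpace B) (f : A ⟶ B)
    (H : ∀ (V : Over S) (v : (yon S).obj V ⟶ B), ∃ (V' : Over S) (c : V' ⟶ V), K613.Cover.FpC c ∧
      ∀ (F : Sp S) (s : F ⟶ A) (p : F ⟶ (yon S).obj V'), IsPullback s p f ((yon S).map c ≫ v) →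
        LocP @Flat p) : LocP @Flat f := by
  obtain ⟨V, v, hv, hvs⟩ := hB.atlas
  obtain ⟨V', c, hc, HF⟩ := H V v
  have sqV : IsPullback (pullback.fst f v) (pullback.snd f v) f v := IsPullback.of_hasPullback f v
  have hAV : IsAlgSpace (pullback f v) :=
    K594.Fib.isAlgSpace_of_isPullback hB.diag hA (IsAlgSpace.yon_obj V) sqV
  refine K597.locP_of_target K597.etLoc_flat sqV hA.hasAtlas (IsAlgSpace.yon_obj V).hasAtlas hv hvs ?_
  obtain ⟨U, a, ha, has⟩ := hAV.atlas
  let h : U ⟶ V := (yon S).preimage (a ≫ pullback.snd f v)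
  have hh : (yon S).map h = a ≫ pullback.snd f v := (yon S).map_preimage _
  refine K597.locP_of_chart K597.etLoc_flat _ a (𝟙 _) h ha has (repWith_id _ V) (by rw [Category.comp_id, hh]) ?_
  -- the base change to `V'`
  have sqF : IsPullback (pullback.fst f ((yon S).map c ≫ v)) (pullback.snd f ((yon S).map c ≫ v)) f
      ((yon S).map c ≫ v) := IsPullback.of_hasPullback _ _
  have hflat := HF _ _ _ sqF
  let r : pullback f ((yon S).map c ≫ v) ⟶ pullback f v :=
    sqV.lift (pullback.fst f ((yon S).map c ≫ v)) (pullback.snd f ((yon S).map c ≫ v) ≫ (yon S).map c)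
      (by rw [sqF.w, Category.assoc])
  have hr1 : r ≫ pullback.fst f v = pullback.fst f ((yon S).map c ≫ v) := sqV.lift_fst _ _ _
  have hr2 : r ≫ pullback.snd f v = pullback.snd f ((yon S).map c ≫ v) ≫ (yon S).map c := sqV.lift_snd _ _ _
  have sqR : IsPullback r (pullback.snd f ((yon S).map c ≫ v)) (pullback.snd f v) ((yon S).map c) := by
    refine IsPullback.of_right (h₁₂ := pullback.fst f v) (v₁₃ := f) (h₂₂ := v) ?_ hr2 sqV
    rw [hr1]
    exact sqF
  have sqU : IsPullback ((yon S).map (pullback.fst h c)) ((yon S).map (pullback.snd h c)) ((yon S).map h)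
      ((yon S).map c) := (IsPullback.of_hasPullback h c).map (yon S)
  let a' : (yon S).obj (pullback h c) ⟶ pullback f ((yon S).map c ≫ v) :=
    sqR.lift ((yon S).map (pullback.fst h c) ≫ a) ((yon S).map (pullback.snd h c))
      (by rw [Category.assoc, ← hh]; exact sqU.w)
  have ha1 : a' ≫ r = (yon S).map (pullback.fst h c) ≫ a := sqR.lift_fst _ _ _
  have ha2 : a' ≫ pullback.snd f ((yon S).map c ≫ v) = (yon S).map (pullback.snd h c) := sqR.lift_snd _ _ _
  have sqA : IsPullback ((yon S).map (pullback.fst h c)) a' a r := by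
    refine IsPullback.of_bot (h₃₁ := (yon S).map c) (v₂₁ := pullback.snd f ((yon S).map c ≫ v))
      (v₂₂ := pullback.snd f v) ?_ ha1.symm sqR
    rw [ha2, ← hh]
    exact sqU
  have hEt : RepWith @Etale a' := K598.RepKit.repWith_of_isPullback sqA ha
  have h1 : Flat (pullback.snd h c).left :=
    hflat a' (𝟙 _) (pullback.snd h c) hEt (repWith_id _ V') (by rw [Category.comp_id, ha2])
  have h2 : K613.Cover.FpC (pullback.fst h c) := hc.of_isPullback (IsPullback.of_hasPullback h c).flip
  have := h2.flat; have := h2.lfp; have := h2.surj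
  have h3 : (pullback.fst h c).left ≫ h.left = (pullback.snd h c).left ≫ c.left :=
    congrArg (fun k => k.left) (pullback.condition (f := h) (g := c))
  have hcf := hc.flat
  have h4 : Flat ((pullback.fst h c).left ≫ h.left) := by rw [h3]; infer_instance
  exact Groth.Agent.S1163.result (pullback.fst h c).left h.left (pullback.fst h c).left (𝟙 _)
    (Category.id_comp _)

end Descent

section Group

variable {B : Sp S} {G M T : Over B} [GrpObj G] (act : GAction G M) (x : T ⟶ M)

/-- The orbit map `(g, z) ↦ (g x(z), z)`. -/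
noncomputable def orb' : G ⊗ T ⟶ M ⊗ T := lift (lift (fst G T) (snd G T ≫ x) ≫ act.act) (snd G T)

theorem comp_orb'_fst {Z : Over B} (a : Z ⟶ G ⊗ T) :
    a ≫ orb' act x ≫ fst M T = lift (a ≫ fst G T) (a ≫ snd G T ≫ x) ≫ act.act := by
  rw [orb', lift_fst, ← Category.assoc, comp_lift]

theorem comp_orb'_snd {Z : Over B} (a : Z ⟶ G ⊗ T) : a ≫ orb' act x ≫ snd M T = a ≫ snd G T := by
  rw [orb', lift_snd]

theorem comp_orb'_eq_iff {Z : Over B} (a b : Z ⟶ G ⊗ T) : a ≫ orb' act x = b ≫ orb' act x ↔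
    a ≫ snd G T = b ≫ snd G T ∧ lift (a ≫ fst G T) (a ≫ snd G T ≫ x) ≫ act.act =
      lift (b ≫ fst G T) (b ≫ snd G T ≫ x) ≫ act.act := by
  constructor
  · intro h
    refine ⟨?_, ?_⟩
    · rw [← comp_orb'_snd act x a, ← comp_orb'_snd act x b, ← Category.assoc, h, Category.assoc]
    · rw [← comp_orb'_fst act x a, ← comp_orb'_fst act x b, ← Category.assoc, h, Category.assoc]
  · rintro ⟨h1, h2⟩
    apply CartesianMonoidalCategory.hom_ext
    · rw [Category.assoc, Category.assoc, comp_orb'_fst, comp_orb'_fst, h2]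
    · rw [Category.assoc, Category.assoc, comp_orb'_snd, comp_orb'_snd, h1]

/-- The point `(x, 𝟙)`. -/
noncomputable def pnt : T ⟶ M ⊗ T := lift x (𝟙 T)

theorem comp_pnt {Z : Over B} (t : Z ⟶ T) : t ≫ pnt x = lift (t ≫ x) t := by
  rw [pnt, comp_lift, Category.comp_id]

theorem comp_orb'_eq_pnt_iff {Z : Over B} (a : Z ⟶ G ⊗ T) (t : Z ⟶ T) : a ≫ orb' act x = t ≫ pnt x ↔
    a ≫ snd G T = t ∧ lift (a ≫ fst G T) (a ≫ snd G T ≫ x) ≫ act.act = t ≫ x := by
  rw [comp_pnt]
  constructor
  · intro h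
    refine ⟨?_, ?_⟩
    · rw [← comp_orb'_snd act x a, ← Category.assoc, h, lift_snd]
    · rw [← comp_orb'_fst act x a, ← Category.assoc, h, lift_fst]
  · rintro ⟨h1, h2⟩
    apply CartesianMonoidalCategory.hom_ext
    · rw [Category.assoc, comp_orb'_fst, h2, lift_fst]
    · rw [Category.assoc, comp_orb'_snd, h1, lift_snd]

/-- A base change of the orbit map along a point which lifts is a base change of the stabilizer. -/
theorem exists_isPullback_stab {V : Over B} (l : V ⟶ G ⊗ T) {F : Over B} {s : F ⟶ G ⊗ T} {p : F ⟶ V}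
    (sq : IsPullback s p (orb' act x) (l ≫ orb' act x)) :
    ∃ r : F ⟶ pullback (orb' act x) (pnt x),
      IsPullback r p (pullback.snd (orb' act x) (pnt x)) (l ≫ snd G T) := by
  have hw : s ≫ orb' act x = (p ≫ l) ≫ orb' act x := by rw [sq.w, Category.assoc]
  obtain ⟨hz, hg⟩ := (comp_orb'_eq_iff act x s (p ≫ l)).1 hw
  let g : F ⟶ G := s ≫ fst G T
  let z : F ⟶ T := s ≫ snd G T
  let gl : F ⟶ G := p ≫ l ≫ fst G T
  have hr : lift (gl⁻¹ * g) z ≫ orb' act x = z ≫ pnt x := by
    rw [comp_orb'_eq_pnt_iff]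
    refine ⟨lift_snd _ _, ?_⟩
    rw [lift_fst, ← Category.assoc, lift_snd, K607.Act.act_mul]
    have h1 : lift g (z ≫ x) ≫ act.act = lift gl (z ≫ x) ≫ act.act := by
      have h2 : z ≫ x = p ≫ l ≫ snd G T ≫ x := by
        simp only [z, Category.assoc] at hz ⊢
        rw [← Category.assoc, hz]
        simp only [Category.assoc]
      calc lift g (z ≫ x) ≫ act.act = lift (s ≫ fst G T) (s ≫ snd G T ≫ x) ≫ act.act := by
            simp only [g, z, Category.assoc]
        _ = lift ((p ≫ l) ≫ fst G T) ((p ≫ l) ≫ snd G T ≫ x) ≫ act.act := hg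
        _ = lift gl (z ≫ x) ≫ act.act := by rw [h2]; simp only [gl, Category.assoc]
    rw [h1, ← K607.Act.act_mul, inv_mul_cancel, K607.Act.act_one]
  let r : F ⟶ pullback (orb' act x) (pnt x) := pullback.lift (lift (gl⁻¹ * g) z) z hr
  have hr1 : r ≫ pullback.fst (orb' act x) (pnt x) = lift (gl⁻¹ * g) z := pullback.lift_fst _ _ _
  have hr2 : r ≫ pullback.snd (orb' act x) (pnt x) = z := pullback.lift_snd _ _ _
  refine ⟨r, IsPullback.mk' ?_ ?_ ?_⟩
  · rw [hr2]
    simpa only [Category.assoc] using hz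
  · intro Z φ φ' h1 h2
    apply sq.hom_ext _ h2
    have e1 : φ ≫ z = φ' ≫ z := by rw [← hr2, ← Category.assoc, h1, Category.assoc]
    have e2 : φ ≫ (gl⁻¹ * g) = φ' ≫ (gl⁻¹ * g) := by
      have : lift (gl⁻¹ * g) z ≫ fst G T = gl⁻¹ * g := lift_fst _ _
      rw [← this, ← hr1]
      simp only [← Category.assoc]
      rw [h1]
    have e3 : φ ≫ gl = φ' ≫ gl := by
      simp only [gl, ← Category.assoc]
      rw [h2]
    have e4 : φ ≫ g = φ' ≫ g := by
      rw [comp_mul, comp_mul, GrpObj.comp_inv, GrpObj.comp_inv, e3] at e2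
      exact mul_left_cancel e2
    apply CartesianMonoidalCategory.hom_ext
    · simpa only [Category.assoc] using e4
    · simpa only [Category.assoc] using e1
  · intro Z σ w h1
    have hσ : (σ ≫ pullback.fst (orb' act x) (pnt x)) ≫ orb' act x =
        (σ ≫ pullback.snd (orb' act x) (pnt x)) ≫ pnt x := by
      rw [Category.assoc, Category.assoc, pullback.condition]
    obtain ⟨k1, k2⟩ := (comp_orb'_eq_pnt_iff act x _ _).1 hσ
    let g₀ : Z ⟶ G := (σ ≫ pullback.fst (orb' act x) (pnt x)) ≫ fst G T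
    let t : Z ⟶ T := w ≫ l ≫ snd G T
    have ht : σ ≫ pullback.snd (orb' act x) (pnt x) = t := h1
    have ha : lift ((w ≫ l ≫ fst G T) * g₀) t ≫ orb' act x = w ≫ l ≫ orb' act x := by
      rw [show w ≫ l ≫ orb' act x = (w ≫ l) ≫ orb' act x from (Category.assoc _ _ _).symm, comp_orb'_eq_iff]
      refine ⟨?_, ?_⟩
      · rw [lift_snd, Category.assoc]
      · rw [lift_fst, ← Category.assoc (lift _ _), lift_snd, K607.Act.act_mul]
        have h3 : lift g₀ (t ≫ x) ≫ act.act = t ≫ x := by
          have h4 : (σ ≫ pullback.fst (orb' act x) (pnt x)) ≫ snd G T ≫ x = t ≫ x := by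
            rw [← Category.assoc, k1, ht]
          rw [h4, ht] at k2
          exact k2
        rw [h3]
        simp only [t, Category.assoc]
    refine ⟨sq.lift (lift ((w ≫ l ≫ fst G T) * g₀) t) w ha, ?_, sq.lift_snd _ _ _⟩
    set m : Z ⟶ F := sq.lift (lift ((w ≫ l ≫ fst G T) * g₀) t) w ha
    have m1 : m ≫ s = lift ((w ≫ l ≫ fst G T) * g₀) t := sq.lift_fst _ _ _
    have m2 : m ≫ p = w := sq.lift_snd _ _ _
    have m3 : m ≫ z = t := by simp only [z]; rw [← Category.assoc, m1, lift_snd]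
    have m4 : m ≫ g = (w ≫ l ≫ fst G T) * g₀ := by simp only [g]; rw [← Category.assoc, m1, lift_fst]
    have m5 : m ≫ gl = w ≫ l ≫ fst G T := by simp only [gl]; rw [← Category.assoc, m2]
    apply pullback.hom_ext
    · rw [Category.assoc, hr1]
      apply CartesianMonoidalCategory.hom_ext
      · rw [Category.assoc, lift_fst, comp_mul, GrpObj.comp_inv, m4, m5, inv_mul_cancel_left]
      · rw [Category.assoc, lift_snd, m3, ← ht, k1]
    · rw [Category.assoc, hr2, m3, ht]

end Group

section Main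

variable {G M : Over ((yon S).obj (Over.mk (𝟙 S)))} [GrpObj G] (act : GAction G M)

theorem isAlgSpace_prod {X Y : Sp S} (hX : IsAlgSpace X) (hY : IsAlgSpace Y)
    {f : X ⟶ (yon S).obj (Over.mk (𝟙 S))} {g : Y ⟶ (yon S).obj (Over.mk (𝟙 S))} : IsAlgSpace (pullback f g) :=
  K594.Fib.isAlgSpace_of_isPullback (IsAlgSpace.yon_obj _).diag hX hY (IsPullback.of_hasPullback f g)

/-- **NODE O**: orbit maps of a homogeneous space are flat. -/
theorem orbFlat (hG : IsAlgSpace G.left) (hM : IsAlgSpace M.left)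
    (he : Epi (lift act.act (snd G M)).left) : K622.AnDefs.OrbFlat act := by
  intro k _ t x
  have hS : K613.Cover.FSurj (lift act.act (snd G M)).left :=
    K619.LocSurj.fSurj_of_isLocallySurjective ((Sheaf.isLocallySurjective_iff_epi _).2 he)
  let κ : (yon S).obj (Over.mk t) ⟶ (yon S).obj (Over.mk (𝟙 S)) :=
    (yon S).map (Over.homMk t (Category.comp_id t) : Over.mk t ⟶ Over.mk (𝟙 S))
  let T : Over ((yon S).obj (Over.mk (𝟙 S))) := Over.mk κ
  let x' : T ⟶ M := Over.homMk x ((K596.QC2.isTerminalYon S).hom_ext _ _)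
  have horb : K622.AnDefs.orb act x = (orb' act x').left := rfl
  rw [horb]
  have hT : IsAlgSpace T.left := IsAlgSpace.yon_obj _
  have hA : IsAlgSpace (G ⊗ T).left := isAlgSpace_prod hG hT
  have hB : IsAlgSpace (M ⊗ T).left := isAlgSpace_prod hM hT
  -- the stabilizer is flat over the field
  have sq0 : IsPullback (pullback.fst (orb' act x') (pnt x')).left (pullback.snd (orb' act x') (pnt x')).left
      (orb' act x').left (pnt x').left :=
    (IsPullback.of_hasPullback (orb' act x') (pnt x')).map (Over.forget _)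
  have hSt : IsAlgSpace (pullback (orb' act x') (pnt x')).left :=
    K594.Fib.isAlgSpace_of_isPullback hB.diag hA hT sq0
  have hStab : LocP @Flat (pullback.snd (orb' act x') (pnt x')).left := by
    obtain ⟨W, w, hw, hws⟩ := hSt.atlas
    let h : W ⟶ Over.mk t := (yon S).preimage (w ≫ (pullback.snd (orb' act x') (pnt x')).left)
    have hh : (yon S).map h = w ≫ (pullback.snd (orb' act x') (pnt x')).left := (yon S).map_preimage _
    refine K597.locP_of_chart K597.etLoc_flat _ w (𝟙 _) h hw hws (repWith_id _ _) ?_ ?_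
    · rw [hh]
      exact (Category.comp_id _).symm
    · have h1 : Flat (show W.left ⟶ Spec (CommRingCat.of k) from h.left) := inferInstance
      exact h1
  refine flat_of_local hA hB _ fun V v => ?_
  let Vo : Over ((yon S).obj (Over.mk (𝟙 S))) := Over.mk (v ≫ (M ⊗ T).hom)
  let vo : Vo ⟶ M ⊗ T := Over.homMk v rfl
  obtain ⟨V', c, h, hc, hh⟩ := hS V (lift (vo ≫ fst M T) (vo ≫ snd M T ≫ x')).left
  let Vo' : Over ((yon S).obj (Over.mk (𝟙 S))) := Over.mk ((yon S).map c ≫ v ≫ (M ⊗ T).hom)
  let co : Vo' ⟶ Vo := Over.homMk ((yon S).map c) rfl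
  let ho : Vo' ⟶ G ⊗ M := Over.homMk h ((K596.QC2.isTerminalYon S).hom_ext _ _)
  have hho : ho ≫ lift act.act (snd G M) = co ≫ lift (vo ≫ fst M T) (vo ≫ snd M T ≫ x') :=
    Over.OverMorphism.ext hh
  have h1 : ho ≫ act.act = co ≫ vo ≫ fst M T := by
    have := congrArg (fun q => q ≫ fst M M) hho
    simpa only [Category.assoc, lift_fst] using this
  have h2 : ho ≫ snd G M = co ≫ vo ≫ snd M T ≫ x' := by
    have := congrArg (fun q => q ≫ snd M M) hho
    simpa only [Category.assoc, lift_snd] using this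
  let l : Vo' ⟶ G ⊗ T := lift (ho ≫ fst G M) (co ≫ vo ≫ snd M T)
  have hl : l ≫ orb' act x' = co ≫ vo := by
    apply CartesianMonoidalCategory.hom_ext
    · rw [Category.assoc, comp_orb'_fst, Category.assoc, ← h1]
      have h3 : l ≫ snd G T ≫ x' = ho ≫ snd G M := by
        rw [h2, ← Category.assoc, lift_snd, Category.assoc, Category.assoc]
      rw [h3, lift_fst, ← comp_lift, lift_fst_snd, Category.comp_id]
    · rw [Category.assoc, comp_orb'_snd, lift_snd, Category.assoc]
  refine ⟨V', c, hc, fun F s p sq => ?_⟩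
  let Fo : Over ((yon S).obj (Over.mk (𝟙 S))) := Over.mk (p ≫ Vo'.hom)
  let so : Fo ⟶ G ⊗ T := Over.homMk s ((K596.QC2.isTerminalYon S).hom_ext _ _)
  let po : Fo ⟶ Vo' := Over.homMk p rfl
  have sq1 : IsPullback so po (orb' act x') (l ≫ orb' act x') := by
    rw [hl]
    refine IsPullback.of_map (Over.forget _) (Over.OverMorphism.ext sq.w) ?_
    exact sq
  obtain ⟨r, hr⟩ := exists_isPullback_stab act x' l sq1
  exact K597.locP_bc K597.etLoc_flat (hr.map (Over.forget _)) hSt.hasAtlas hT.hasAtlas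
    (IsAlgSpace.yon_obj V').hasAtlas hStab

theorem main {X : Sp S} {i : X ⟶ M.left} (h : K622.AnDefs.Sit act i) : K622.AnDefs.OrbFlat act :=
  orbFlat act h.algG h.algM h.hom

end Main

end K603.OrbFlat
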