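import Groth.Prelude.Def_AlgSp4
import Mathlib.AlgebraicGeometry.Morphisms.UniversallyOpen

/-!
# Points of pullbacks, open maps from etale charts (elementary facts, for arbitrary fppf sheaves)
-/

set_option autoImplicit false
universe u
open CategoryTheory CategoryTheory.Limits AlgebraicGeometry Opposite
open AlgSp

namespace K603.Points

variable {S : Scheme.{u}}

/-- Yoneda for sheaves, with the universe fixed. -/
noncomputable def yE {F : Sp S} {T : Over S} : ((yon S).obj T ⟶ F) ≃ F.obj.obj (op T) :=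
  GrothendieckTopology.uliftYonedaEquiv.{u + 1} (J S)

theorem yE_apply {F : Sp S} {T : Over S} (g : (yon S).obj T ⟶ F) :
    yE g = g.hom.app (op T) ⟨𝟙 T⟩ := rfl

theorem app_yE {F : Sp S} {T T' : Over S} (g : (yon S).obj T ⟶ F) (φ : T' ⟶ T) :
    g.hom.app (op T') ⟨φ⟩ = F.obj.map φ.op (yE g) :=
  (GrothendieckTopology.map_uliftYonedaEquiv.{u + 1} (J S) g φ).symm

/-- Restricting a field point along a field extension does not change the point. -/
theorem mk_restrict {F : Sp S} (p : FieldPt F) {Ω : Type u} [Field Ω]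
    (w : Spec (CommRingCat.of Ω) ⟶ S) (a : Over.mk w ⟶ p.pt) :
    AlgSp.Points.mk (⟨Ω, w, F.obj.map a.op p.val⟩ : FieldPt F) = AlgSp.Points.mk p := by
  refine AlgSp.Points.sound ⟨Ω, inferInstance, w, 𝟙 _, a, ?_⟩
  change F.obj.map (𝟙 _) _ = _
  rw [F.obj.map_id]
  rfl

/-- Points of a fibre product of sheaves surject onto the fibre product of the sets of points. -/
theorem exists_of_isPullback {X Y Z P : Sp S} {fst : P ⟶ X} {snd : P ⟶ Z} {f : X ⟶ Y} {g : Z ⟶ Y}
    (h : IsPullback fst snd f g) (x : AlgSp.Points X) (z : AlgSp.Points Z)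
    (e : AlgSp.Points.map f x = AlgSp.Points.map g z) :
    ∃ p : AlgSp.Points P, AlgSp.Points.map fst p = x ∧ AlgSp.Points.map snd p = z := by
  induction x using AlgSp.Points.ind with
  | h p =>
  induction z using AlgSp.Points.ind with
  | h q =>
  rw [AlgSp.Points.map_mk, AlgSp.Points.map_mk, AlgSp.Points.mk_eq_mk_iff] at e
  obtain ⟨Ω, _, w, a, b, hab⟩ := e
  change Over.mk w ⟶ p.pt at a
  change Over.mk w ⟶ q.pt at b
  have h1 := (h.map (sheafToPresheaf (J S) (Type (u + 1)))).map
    ((evaluation (Over S)ᵒᵖ (Type (u + 1))).obj (op (Over.mk w)))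
  have e' : f.hom.app (op (Over.mk w)) (X.obj.map a.op p.val) =
      g.hom.app (op (Over.mk w)) (Z.obj.map b.op q.val) := by
    exact (NatTrans.naturality_apply f.hom a.op p.val).trans
      (hab.trans (NatTrans.naturality_apply g.hom b.op q.val).symm)
  obtain ⟨r, hr1, hr2⟩ := Types.exists_of_isPullback h1 _ _ e'
  refine ⟨AlgSp.Points.mk ⟨Ω, w, r⟩, ?_, ?_⟩
  · rw [← mk_restrict p w a, AlgSp.Points.map_mk]
    change AlgSp.Points.mk (⟨Ω, w, fst.hom.app _ r⟩ : FieldPt X) = _
    congr 2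
  · rw [← mk_restrict q w b, AlgSp.Points.map_mk]
    change AlgSp.Points.mk (⟨Ω, w, snd.hom.app _ r⟩ : FieldPt Z) = _
    congr 2

/-- The point of `F` defined by a point of the scheme `T` and `g ≫ f`. -/
theorem ofPt_eq_map {F : Sp S} {T : Over S} (g : (yon S).obj T ⟶ F) (t : ↥T.left) :
    AlgSp.Points.ofPt g t = AlgSp.Points.map g (AlgSp.Points.schemeEquiv T t) :=
  AlgSp.Points.ofPt_eq_map_ofScheme g t

/-- Points of `h_T` come from points of `T`. -/
theorem exists_schemeEquiv {T : Over S} (x : AlgSp.Points ((yon S).obj T)) :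
    ∃ t : ↥T.left, AlgSp.Points.schemeEquiv T t = x := (AlgSp.Points.schemeEquiv T).surjective x

theorem map_yon {T T' : Over S} (φ : T ⟶ T') (t : ↥T.left) :
    AlgSp.Points.map ((yon S).map φ) (AlgSp.Points.schemeEquiv T t) =
      AlgSp.Points.schemeEquiv T' (φ.left t) :=
  AlgSp.Points.map_yon_map_apply φ t

theorem ofPt_comp {F : Sp S} {T T' : Over S} (φ : T ⟶ T') (g : (yon S).obj T' ⟶ F) (t : ↥T.left) :
    AlgSp.Points.ofPt ((yon S).map φ ≫ g) t = AlgSp.Points.ofPt g (φ.left t) := by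
  rw [ofPt_eq_map, AlgSp.Points.map_comp, map_yon, ← ofPt_eq_map]

theorem ofPt_comp_eq_map {F G : Sp S} {T : Over S} (g : (yon S).obj T ⟶ F) (f : F ⟶ G) (t : ↥T.left) :
    AlgSp.Points.ofPt (g ≫ f) t = AlgSp.Points.map f (AlgSp.Points.ofPt g t) := rfl

/-- Points of a represented pullback. -/
theorem exists_ofPt_of_isPullback {F G : Sp S} {f : F ⟶ G} {T V : Over S} {g : (yon S).obj T ⟶ G}
    {fst : (yon S).obj V ⟶ F} {snd : V ⟶ T} (h : IsPullback fst ((yon S).map snd) f g)
    (x : AlgSp.Points F) (t : ↥T.left) (e : AlgSp.Points.map f x = AlgSp.Points.ofPt g t) :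
    ∃ v : ↥V.left, AlgSp.Points.ofPt fst v = x ∧ snd.left v = t := by
  obtain ⟨p, hp1, hp2⟩ := exists_of_isPullback h x (AlgSp.Points.schemeEquiv T t)
    (e.trans (ofPt_eq_map g t))
  obtain ⟨v, rfl⟩ := exists_schemeEquiv p
  refine ⟨v, ?_, ?_⟩
  · rw [ofPt_eq_map, hp1]
  · rw [map_yon] at hp2
    exact (AlgSp.Points.schemeEquiv T).injective hp2

/-- A representable surjective map is surjective on points. -/
theorem surjective_map_of_repWith {F G : Sp S} (f : F ⟶ G) (hf : RepWith @Surjective f) :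
    Function.Surjective (AlgSp.Points.map f) := by
  intro y
  induction y using AlgSp.Points.ind with
  | h q =>
  -- the point as a map from `Spec K`
  let T : Over S := Over.mk q.str
  let g : (yon S).obj T ⟶ G := yE.symm q.val
  obtain ⟨V, snd, fst, sq⟩ := hf.1 g
  have hs : Surjective snd.left := hf.2 g fst snd sq
  obtain ⟨v, hv⟩ := hs.surj (IsLocalRing.closedPoint q.K : ↥(Spec (CommRingCat.of q.K)))
  refine ⟨AlgSp.Points.ofPt fst v, ?_⟩
  rw [AlgSp.Points.map_ofPt, sq.w, ofPt_comp, hv]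
  refine (ofPt_eq_map g _).trans ?_
  change AlgSp.Points.map g (AlgSp.Points.ofScheme T _) = _
  have h1 : AlgSp.Points.ofScheme T (IsLocalRing.closedPoint q.K : ↥(Spec (CommRingCat.of q.K))) =
      AlgSp.Points.mk (⟨q.K, q.str, ULift.up (𝟙 _)⟩ : FieldPt ((yon S).obj T)) := by
    have := AlgSp.Points.ofScheme_apply_eq_mk T (K := q.K) (str := q.str) (𝟙 _) (Category.id_comp _)
    exact this
  rw [h1, AlgSp.Points.map_mk]
  change AlgSp.Points.mk (⟨q.K, q.str, g.hom.app _ ⟨𝟙 _⟩⟩ : FieldPt G) = _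
  have h2 : g.hom.app (op (Over.mk q.str)) ⟨𝟙 _⟩ = q.val := by
    exact yE.apply_symm_apply q.val
  erw [h2]
  rfl

/-- A representable surjective map from a scheme is surjective on points. -/
theorem surjective_ofPt_of_repWith {F : Sp S} {U : Over S} (p : (yon S).obj U ⟶ F)
    (hp : RepWith @Surjective p) : Function.Surjective (AlgSp.Points.ofPt p) := by
  intro x
  obtain ⟨y, rfl⟩ := surjective_map_of_repWith p hp x
  obtain ⟨t, rfl⟩ := exists_schemeEquiv y
  exact ⟨t, ofPt_eq_map p t⟩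

/-- The image of an open subset under a universally open chart is open. -/
theorem isOpenMap_ofPt {F : Sp S} {U : Over S} (a : (yon S).obj U ⟶ F)
    (ha : RepWith @UniversallyOpen a) : IsOpenMap (AlgSp.Points.ofPt a) := by
  intro O hO
  rw [AlgSp.Points.isOpen_iff]
  intro T g
  obtain ⟨V, snd, fst, sq⟩ := ha.1 g
  have hs : UniversallyOpen snd.left := ha.2 g fst snd sq
  obtain ⟨fst', rfl⟩ := (yon S).map_surjective fst
  have : AlgSp.Points.ofPt g ⁻¹' (AlgSp.Points.ofPt a '' O) = snd.left '' (fst'.left ⁻¹' O) := by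
    ext t
    constructor
    · rintro ⟨o, ho, e⟩
      obtain ⟨v, hv1, hv2⟩ := exists_ofPt_of_isPullback sq (AlgSp.Points.schemeEquiv U o) t
        ((ofPt_eq_map a o).symm.trans e)
      refine ⟨v, ?_, hv2⟩
      rw [ofPt_eq_map, map_yon] at hv1
      have := (AlgSp.Points.schemeEquiv U).injective hv1
      change fst'.left v ∈ O
      rwa [this]
    · rintro ⟨v, hv, rfl⟩
      refine ⟨fst'.left v, hv, ?_⟩
      rw [← ofPt_comp, ← ofPt_comp, sq.w]
  rw [this]
  exact snd.left.isOpenMap _ (hO.preimage fst'.left.continuous)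

theorem repWith_mono {P Q : MorphismProperty Scheme.{u}} (h : P ≤ Q) {F G : Sp S} {f : F ⟶ G}
    (hf : RepWith P f) : RepWith Q f :=
  MorphismProperty.relative_monotone (fun _ _ _ h' => h _ h') _ hf

theorem repWith_universallyOpen_of_etale {F G : Sp S} {f : F ⟶ G} (hf : RepWith @Etale f) :
    RepWith @UniversallyOpen f :=
  repWith_mono (fun _ _ g hg => by
    have : Etale g := hg
    infer_instance) hf

theorem isOpenMap_ofPt_of_etale {F : Sp S} {U : Over S} (a : (yon S).obj U ⟶ F)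
    (ha : RepWith @Etale a) : IsOpenMap (AlgSp.Points.ofPt a) :=
  isOpenMap_ofPt a (repWith_universallyOpen_of_etale ha)

end K603.Points
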