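import Groth.Agent.AlgSp.K603.Glue
import Mathlib.LinearAlgebra.LinearIndependent.Lemmas

/-!
# The prime case of Chevalley's theorem (ring level)
-/

set_option autoImplicit false
universe u
open CategoryTheory CategoryTheory.Limits TensorProduct

namespace K603.Prime

open K603.Eff K603.Loc

variable {AX BX CX B C : CommRingCat.{u}} {s t : B ⟶ C} {fB : B ⟶ BX} {fC : C ⟶ CX} {sX tX : BX ⟶ CX}
  {qX : AX ⟶ BX}

theorem rel_le (hs : IsPushout s fB fC sX) (ht : IsPushout t fB fC tX) (hft : t.hom.Flat)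
    {κ : Type*} [Fintype κ] (v : κ → BX) (hv : ∀ j, sX (v j) = tX (v j)) (j0 : κ) (J : Ideal B)
    (hJ : ∀ b, b ∈ J ↔ ∃ r : κ → B, r j0 = b ∧ ∑ j, fB (r j) * v j = 0) : J.map s.hom ≤ J.map t.hom := by
  classical
  rw [Ideal.map_le_iff_le_comap]
  intro b hb
  rw [Ideal.mem_comap]
  obtain ⟨r, rfl, hr⟩ := (hJ b).1 hb
  have h1 : ∑ j, fC (s (r j)) * tX (v j) = 0 := by
    have h2 := congrArg sX hr
    rw [map_zero, map_sum] at h2
    rw [← h2]
    exact Finset.sum_congr rfl fun j _ => by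
      rw [map_mul, hv]; congr 1; exact congr($(hs.w) (r j))
  have h2 := mem_span_of_relation ht hft v (fun j => s (r j)) h1
  have h3 : Submodule.span C ((fun b : κ → B => fun j => t (b j)) '' {b | ∑ j, fB (b j) * v j = 0}) ≤
      Submodule.comap (LinearMap.proj (R := C) (φ := fun _ : κ => (C : Type u)) j0) (J.map t.hom) := by
    rw [Submodule.span_le]
    rintro _ ⟨b', hb', rfl⟩
    exact Ideal.mem_map_of_mem t.hom ((hJ _).2 ⟨b', rfl, hb'⟩)
  exact h3 h2

/-- The ideal of coefficients of relations among descended elements is invariant. -/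
theorem inv_rel (hs : IsPushout s fB fC sX) (ht : IsPushout t fB fC tX) (hfs : s.hom.Flat) (hft : t.hom.Flat)
    {κ : Type*} [Fintype κ] (v : κ → BX) (hv : ∀ j, sX (v j) = tX (v j)) (j0 : κ) (J : Ideal B)
    (hJ : ∀ b, b ∈ J ↔ ∃ r : κ → B, r j0 = b ∧ ∑ j, fB (r j) * v j = 0) : Inv s t J :=
  le_antisymm (rel_le hs ht hft v hv j0 J hJ) (rel_le ht hs hfs v (fun j => (hv j).symm) j0 J hJ)

theorem coord_inv (hs : IsPushout s fB fC sX) (ht : IsPushout t fB fC tX) (hfs : s.hom.Flat)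
    {κ : Type*} [Fintype κ] (v : κ → BX) (hv : ∀ j, sX (v j) = tX (v j))
    (hli : ∀ c : κ → B, ∑ j, fB (c j) * v j = 0 → c = 0) (c : κ → B) {z : BX} (hz : ∑ j, fB (c j) * v j = z)
    (hst : sX z = tX z) (j : κ) : s (c j) = t (c j) := by
  classical
  have h2 : ∑ j, fC (s (c j) - t (c j)) * sX (v j) = 0 := by
    have e1 : ∑ j, fC (s (c j)) * sX (v j) = sX z := by
      rw [← hz, map_sum]
      exact Finset.sum_congr rfl fun j _ => by rw [map_mul]; congr 1; exact congr($(hs.w) (c j))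
    have e2 : ∑ j, fC (t (c j)) * sX (v j) = sX z := by
      rw [hst, ← hz, map_sum]
      exact Finset.sum_congr rfl fun j _ => by rw [map_mul, hv]; congr 1; exact congr($(ht.w) (c j))
    have e3 : ∑ j, fC (s (c j) - t (c j)) * sX (v j) =
        ∑ j, fC (s (c j)) * sX (v j) - ∑ j, fC (t (c j)) * sX (v j) := by
      rw [← Finset.sum_sub_distrib]
      exact Finset.sum_congr rfl fun j _ => by rw [map_sub, sub_mul]
    rw [e3, e1, e2, sub_self]
  have h3 := mem_span_of_relation hs hfs v (fun j => s (c j) - t (c j)) h2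
  have h4 : (fun b : κ → B => fun j => s (b j)) '' {b | ∑ j, fB (b j) * v j = 0} ⊆ {0} := by
    rintro _ ⟨b', hb', rfl⟩
    have : b' = 0 := hli b' hb'
    rw [this]
    exact funext fun j => map_zero s.hom
  have h5 := Submodule.span_mono (R := C) h4 h3
  rw [Submodule.span_singleton_eq_bot.2 rfl] at h5
  exact sub_eq_zero.1 (congrFun h5 j)

/-- Invariant elements are nonzerodivisors if there are no nonzero invariant ideals with product zero. -/
theorem nzd (hfs : s.hom.Flat) (hft : t.hom.Flat)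
    (hprime : ∀ I J : Ideal B, Inv s t I → Inv s t J → I * J = ⊥ → I = ⊥ ∨ J = ⊥)
    {a : B} (ha : s a = t a) (ha0 : a ≠ 0) : ∀ x : B, a * x = 0 → x = 0 := by
  let J : Ideal B :=
    { carrier := {x | x * a = 0}
      add_mem' := fun {x y} hx hy => by
        change (x + y) * a = 0
        have hx' : x * a = 0 := hx
        have hy' : y * a = 0 := hy
        rw [add_mul, hx', hy', add_zero]
      zero_mem' := zero_mul a
      smul_mem' := fun r x hx => by
        change (r * x) * a = 0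
        have hx' : x * a = 0 := hx
        rw [mul_assoc, hx', mul_zero] }
  have hJ : Inv s t J := by
    apply le_antisymm
    · rw [Ideal.map_le_iff_le_comap]
      intro x hx
      have hx' : x * a = 0 := hx
      refine mem_map_of_mul_eq_zero (isPushout_id t) hft a (s x) ?_ J (fun b hb => hb)
      change s x * t a = 0
      rw [← ha, ← map_mul, hx', map_zero]
    · rw [Ideal.map_le_iff_le_comap]
      intro x hx
      have hx' : x * a = 0 := hx
      refine mem_map_of_mul_eq_zero (isPushout_id s) hfs a (t x) ?_ J (fun b hb => hb)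
      change t x * s a = 0
      rw [ha, ← map_mul, hx', map_zero]
  have hI : Inv s t (Ideal.span {a}) := by
    unfold K603.Eff.Inv
    rw [Ideal.map_span, Ideal.map_span, Set.image_singleton, Set.image_singleton]
    congr 2
  have h1 := hprime _ _ hI hJ (by
    rw [eq_bot_iff, Ideal.span_singleton_mul_le_iff]
    intro z hz
    have hz' : z * a = 0 := hz
    rw [mul_comm, hz']; exact zero_mem _)
  rcases h1 with h1 | h1
  · rw [Ideal.span_singleton_eq_bot] at h1
    exact absurd h1 ha0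
  · intro x hx
    have : x ∈ J := by
      change x * a = 0
      rw [mul_comm]; exact hx
    rw [h1] at this
    exact this

theorem nzd_right (hfs : s.hom.Flat) {a : B} (ha : ∀ x : B, a * x = 0 → x = 0) :
    ∀ x : C, s a * x = 0 → x = 0 := by
  intro x hx
  have h1 := mem_map_of_mul_eq_zero (isPushout_id s) hfs a x (by
    change x * s a = 0
    rw [mul_comm]; exact hx) ⊥ (fun b hb => by
      have hb' : b * a = 0 := hb
      exact ha b (by rw [mul_comm]; exact hb'))
  rw [Ideal.map_bot] at h1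
  exact h1

/-- An invariant element generates an invariant ideal. -/
theorem inv_span {a : B} (ha : s a = t a) : Inv s t (Ideal.span {a}) := by
  unfold K603.Eff.Inv
  rw [Ideal.map_span, Ideal.map_span, Set.image_singleton, Set.image_singleton]
  congr 2

/-- Lifting invariants of `V(b)` to `V(b²)`. -/
theorem lift_step {b : B} (hb : s b = t b) {B1 C1 : CommRingCat.{u}} {χ : B ⟶ B1} {γ : C ⟶ C1} {s0 t0 : B1 ⟶ C1}
    (sub : Sub s t χ γ s0 t0) (hker : RingHom.ker χ.hom = Ideal.span {b})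
    (hq2 : ∀ {B2 C2 : CommRingCat.{u}} {χ2 : B ⟶ B2} {γ2 : C ⟶ C2} {s2 t2 : B2 ⟶ C2}, Sub s t χ2 γ2 s2 t2 →
      RingHom.ker χ2.hom = Ideal.span {b ^ 2} → HasQuot s2 t2) (x : B) (hx : γ (s x) = γ (t x)) :
    ∃ y : B, ∃ z : C, s (x + b * y) - t (x + b * y) = s b ^ 2 * z := by
  have hb2 : s (b ^ 2) = t (b ^ 2) := by rw [map_pow, map_pow, hb]
  obtain ⟨s2, t2, sub2⟩ := exists_sub (inv_span hb2)
  set χ2 : B ⟶ CommRingCat.of (B ⧸ Ideal.span {b ^ 2}) := CommRingCat.ofHom (Ideal.Quotient.mk _) with hχ2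
  have hk2 : RingHom.ker χ2.hom = Ideal.span {b ^ 2} := Ideal.mk_ker
  obtain ⟨A2, q2, hE2⟩ := hq2 sub2 hk2
  have hle : Ideal.span {b ^ 2} ≤ Ideal.span {b} := by
    rw [Ideal.span_singleton_le_span_singleton]
    exact dvd_pow_self b two_ne_zero
  obtain ⟨p, hp⟩ : ∃ p : CommRingCat.of (B ⧸ Ideal.span {b ^ 2}) ⟶ B1, χ2 ≫ p = χ := by
    obtain ⟨k, hk⟩ := K603.Eff.exists_lift χ2.hom sub2.surj χ.hom (by rw [hk2, hker]; exact hle)
    exact ⟨CommRingCat.ofHom k, by ext x; exact congr($hk x)⟩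
  -- the sub-pair of the sub-pair
  have hepi : Epi χ2 := ConcreteCategory.epi_of_surjective _ sub2.surj
  obtain ⟨p', hp', subp⟩ : ∃ p', CommRingCat.ofHom (Ideal.Quotient.mk ((Ideal.span {b ^ 2}).map s.hom)) ≫ p' = γ ∧
      Sub s2 t2 p p' s0 t0 := by
    let γ' := sub2.hs.desc γ (p ≫ s0) (by rw [sub.hs.w, reassoc_of% hp])
    have e1 : _ ≫ γ' = γ := sub2.hs.inl_desc _ _ _
    have e2 : s2 ≫ γ' = p ≫ s0 := sub2.hs.inr_desc _ _ _
    have e3 : t2 ≫ γ' = p ≫ t0 := by
      rw [← cancel_epi χ2, ← reassoc_of% sub2.ht.w, e1, sub.ht.w, reassoc_of% hp]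
    refine ⟨γ', e1, ?_, ?_, ?_⟩
    · intro z
      obtain ⟨w, hw⟩ := sub.surj z
      refine ⟨χ2 w, ?_⟩
      rw [← hw, ← hp]
      rfl
    · have h3 := sub.hs
      rw [← hp, ← e1] at h3
      exact IsPushout.of_top h3 e2 sub2.hs
    · have h3 := sub.ht
      rw [← hp, ← e1] at h3
      exact IsPushout.of_top h3 e3 sub2.ht
  obtain ⟨A1, α, q1, hα, hpo, hE1⟩ := hE2.sub subp
  have h1 : s0 (χ x) = t0 (χ x) := by
    have e1 : γ (s x) = s0 (χ x) := congr($(sub.hs.w) x)
    have e2 : γ (t x) = t0 (χ x) := congr($(sub.ht.w) x)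
    rw [← e1, ← e2, hx]
  obtain ⟨a1, ha1⟩ := hE1.exists_of_eq _ h1
  obtain ⟨a2, rfl⟩ := hα a1
  obtain ⟨x2, hx2⟩ := sub2.surj (q2 a2)
  have hx2' : χ2 x2 = q2 a2 := hx2
  have h2 : x2 - x ∈ RingHom.ker χ.hom := by
    change χ (x2 - x) = 0
    rw [map_sub, sub_eq_zero, ← ha1]
    have e1 : χ x2 = p (χ2 x2) := congr($hp x2).symm
    have e2 : p (q2 a2) = q1 (α a2) := congr($(hpo.w) a2)
    rw [e1, hx2', e2]
  rw [hker, Ideal.mem_span_singleton'] at h2
  obtain ⟨y, hy⟩ := h2
  have h3 : x + b * y = x2 := by linear_combination hy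
  refine ⟨y, ?_⟩
  rw [h3]
  have h4 : s x2 - t x2 ∈ (Ideal.span {b ^ 2}).map s.hom := by
    rw [← Ideal.Quotient.eq]
    have e1 : Ideal.Quotient.mk ((Ideal.span {b ^ 2}).map s.hom) (s x2) = s2 (χ2 x2) := congr($(sub2.hs.w) x2)
    have e2 : Ideal.Quotient.mk ((Ideal.span {b ^ 2}).map s.hom) (t x2) = t2 (χ2 x2) := congr($(sub2.ht.w) x2)
    have e3 : s2 (q2 a2) = t2 (q2 a2) := congr($(hE2.po.w) a2)
    rw [e1, e2, hx2', e3]
  rw [Ideal.map_span, Set.image_singleton, Ideal.mem_span_singleton'] at h4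
  obtain ⟨z, hz⟩ := h4
  refine ⟨z, ?_⟩
  rw [← hz, mul_comm z]
  congr 1
  exact map_pow s.hom b 2

/-- Elements invariant modulo an invariant element are approximated by descended ones. -/
theorem exists_approx (hX : IsEff qX sX tX) {e : BX} (he : sX e = tX e) {z : BX} {w : CX}
    (hz : sX z - tX z = sX e * w) : ∃ (α : AX) (y : BX), qX α = z + e * y := by
  obtain ⟨s2, t2, sub⟩ := exists_sub (inv_span he)
  obtain ⟨A2, α, q2, hα, hpo, hE2⟩ := hX.sub sub
  let χ : BX ⟶ CommRingCat.of (BX ⧸ Ideal.span {e}) := CommRingCat.ofHom (Ideal.Quotient.mk _)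
  have h1 : s2 (χ z) = t2 (χ z) := by
    have e1 : Ideal.Quotient.mk ((Ideal.span {e}).map sX.hom) (sX z) = s2 (χ z) := congr($(sub.hs.w) z)
    have e2 : Ideal.Quotient.mk ((Ideal.span {e}).map sX.hom) (tX z) = t2 (χ z) := congr($(sub.ht.w) z)
    rw [← e1, ← e2, Ideal.Quotient.eq, hz, Ideal.map_span, Set.image_singleton]
    exact Ideal.mul_mem_right _ _ (Ideal.mem_span_singleton_self _)
  obtain ⟨a2, ha2⟩ := hE2.exists_of_eq _ h1
  obtain ⟨a, rfl⟩ := hα a2
  have h2 : Ideal.Quotient.mk (Ideal.span {e}) (qX a) = Ideal.Quotient.mk (Ideal.span {e}) z := by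
    have e1 : Ideal.Quotient.mk (Ideal.span {e}) (qX a) = q2 (α a) := congr($(hpo.w) a)
    rw [e1]
    exact ha2
  rw [Ideal.Quotient.eq, Ideal.mem_span_singleton'] at h2
  obtain ⟨y, hy⟩ := h2
  exact ⟨a, y, by linear_combination -hy⟩

/-- **Prime case of Chevalley's theorem.** -/
theorem hasQuot_of_prime (hs : IsPushout s fB fC sX) (ht : IsPushout t fB fC tX) (hX : IsEff qX sX tX)
    (hfs : s.hom.Flat) (hft : t.hom.Flat) (hinj : Function.Injective fB) [Nontrivial B]
    {κ : Type u} [Fintype κ] (x : κ → AX) (hgen : ∀ y : BX, ∃ b : κ → B, y = ∑ j, fB (b j) * qX (x j))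
    (hprime : ∀ I J : Ideal B, Inv s t I → Inv s t J → I * J = ⊥ → I = ⊥ ∨ J = ⊥)
    (hquot : ∀ b : B, s b = t b → b ≠ 0 → ∀ {B0 C0 : CommRingCat.{u}} {χ : B ⟶ B0} {γ : C ⟶ C0} {s0 t0 : B0 ⟶ C0},
      Sub s t χ γ s0 t0 → RingHom.ker χ.hom = Ideal.span {b} → HasQuot s0 t0) : HasQuot s t := by
  classical
  let aB : Algebra B BX := fB.hom.toAlgebra
  let v : κ → BX := fun j => qX (x j)
  have hv : ∀ j, sX (v j) = tX (v j) := fun j => congr($(hX.po.w) (x j))
  obtain ⟨T, hT, hT'⟩ := exists_maximal_linearIndepOn B v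
  have hTli : ∀ c : T → B, ∑ j, fB (c j) * v j = 0 → c = 0 := by
    intro c hc
    have h1 : LinearIndependent B (fun j : T => v j) := hT
    rw [Fintype.linearIndependent_iff] at h1
    funext j
    exact h1 c hc j
  let N : Submodule B BX := Submodule.span B (Set.range fun j : T => v j)
  have hNi : Submodule.span B (v '' T) = N := by
    congr 1
    exact Set.image_eq_range v T
  have hN : ∀ y, y ∈ N ↔ ∃ c : T → B, ∑ j, fB (c j) * v j = y := fun y =>
    Submodule.mem_span_range_iff_exists_fun B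
  -- the ideals of denominators
  let I : κ → Ideal B := fun j => N.comap (LinearMap.toSpanSingleton B BX (v j))
  have hIm : ∀ j b, b ∈ I j ↔ fB b * v j ∈ N := fun j b => Iff.rfl
  have hI0 : ∀ j, I j ≠ ⊥ := by
    intro j
    by_cases hj : j ∈ T
    · intro h
      have h1 : (1 : B) ∈ I j := by
        rw [hIm, map_one, one_mul]
        exact Submodule.subset_span ⟨⟨j, hj⟩, rfl⟩
      rw [h] at h1
      exact one_ne_zero h1
    · obtain ⟨a, ha, haN⟩ := hT' j hj
      intro h
      have h1 : a ∈ I j := by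
        rw [hNi] at haN
        exact haN
      rw [h] at h1
      exact ha h1
  have hIinv : ∀ j, Inv s t (I j) := by
    intro j
    refine inv_rel hs ht hfs hft (fun o : Option T => o.elim (v j) (fun i => v i))
      (by rintro (_ | i); exacts [hv j, hv i]) none (I j) ?_
    intro b
    rw [hIm, hN]
    constructor
    · rintro ⟨c, hc⟩
      refine ⟨fun o => o.elim b (fun i => - c i), rfl, ?_⟩
      rw [Fintype.sum_option]
      change fB b * v j + ∑ i : T, fB (- c i) * v i = 0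
      rw [← hc, ← Finset.sum_add_distrib]
      exact Finset.sum_eq_zero fun i _ => by rw [map_neg]; ring
    · rintro ⟨r, rfl, hr⟩
      rw [Fintype.sum_option] at hr
      refine ⟨fun i => - r (some i), ?_⟩
      change fB (r none) * v j + ∑ i : T, fB (r (some i)) * v i = 0 at hr
      rw [eq_neg_of_add_eq_zero_left hr, ← Finset.sum_neg_distrib]
      exact Finset.sum_congr rfl fun i _ => by rw [map_neg]; ring
  obtain ⟨hJinv, hJ0⟩ : Inv s t (∏ j, I j) ∧ (∏ j, I j) ≠ ⊥ := by
    refine Finset.prod_induction I (fun J => Inv s t J ∧ J ≠ ⊥) ?_ ?_ (fun j _ => ⟨hIinv j, hI0 j⟩)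
    · rintro a b ⟨h1, h2⟩ ⟨h3, h4⟩
      refine ⟨h1.mul h3, fun h => ?_⟩
      rcases hprime _ _ h1 h3 h with h | h
      exacts [h2 h, h4 h]
    · rw [Ideal.one_eq_top]
      exact ⟨Inv.top s t, top_ne_bot⟩
  set J : Ideal B := ∏ j, I j with hJ
  have hJN : ∀ b ∈ J, ∀ y : BX, fB b * y ∈ N := by
    intro b hb y
    obtain ⟨c, rfl⟩ := hgen y
    rw [Finset.mul_sum]
    refine N.sum_mem fun j _ => ?_
    have h1 : b ∈ I j := by
      have h2 : J ≤ Finset.univ.inf I := Ideal.prod_le_inf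
      exact (h2.trans (Finset.inf_le (Finset.mem_univ j))) hb
    have h2 : fB b * (fB (c j) * qX (x j)) = c j • (fB b * v j) := by
      change _ = fB (c j) * (fB b * v j)
      ring
    rw [h2]
    exact N.smul_mem _ ((hIm j b).1 h1)
  have hJJ0 : J * J ≠ ⊥ := fun h => by
    rcases hprime _ _ hJinv hJinv h with h | h
    exacts [hJ0 h, hJ0 h]
  -- a descended element in `J² BX`
  have hJX : Inv sX tX ((J * J).map fB.hom) := by
    have h1 := hJinv.mul hJinv
    unfold K603.Eff.Inv at h1 ⊢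
    rw [Ideal.map_map, Ideal.map_map]
    have e1 : sX.hom.comp fB.hom = fC.hom.comp s.hom := congr(($(hs.w)).hom).symm
    have e2 : tX.hom.comp fB.hom = fC.hom.comp t.hom := congr(($(ht.w)).hom).symm
    rw [e1, e2, ← Ideal.map_map, ← Ideal.map_map, h1]
  obtain ⟨α, hα, hα0⟩ : ∃ α : AX, qX α ∈ (J * J).map fB.hom ∧ qX α ≠ 0 := by
    by_contra hcon
    push Not at hcon
    have h1 : ((J * J).map fB.hom).comap qX.hom ≤ RingHom.ker qX.hom := fun α hα => hcon α hα
    have h2 := hX.map_comap hJX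
    have h3 : (J * J).map fB.hom ≤ ⊥ := by
      rw [← h2, Ideal.map_le_iff_le_comap]
      exact h1
    apply hJJ0
    rw [eq_bot_iff]
    intro b hb
    have h4 : fB b = 0 := h3 (Ideal.mem_map_of_mem _ hb)
    exact hinj (by rw [h4, map_zero])
  obtain ⟨c, hcJ, hc⟩ : ∃ c : T → B, (∀ j, c j ∈ J) ∧ ∑ j, fB (c j) * v j = qX α := by
    have h1 : ((J * J) • (⊤ : Submodule B BX)) ≤ J • N := by
      rw [Submodule.mul_smul]
      refine Submodule.smul_mono le_rfl ?_
      rw [Submodule.smul_le]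
      intro r hr y _
      exact hJN r hr y
    have h2 : qX α ∈ J • N := by
      apply h1
      rw [Ideal.smul_top_eq_map]
      exact hα
    obtain ⟨a, ha, ha'⟩ := (Submodule.mem_ideal_smul_span_iff_exists_sum J (fun j : T => v j) (qX α)).1 h2
    refine ⟨a, ha, ?_⟩
    rw [← ha']
    exact (Finsupp.sum_fintype a (fun (i : T) (c : B) => c • v i) (fun i => zero_smul B (v i))).symm
  have hcst := coord_inv hs ht hfs (fun j : T => v j) (fun j => hv j) hTli c hc (congr($(hX.po.w) α))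
  obtain ⟨j1, hj1⟩ : ∃ j, c j ≠ 0 := by
    by_contra hcon
    push Not at hcon
    apply hα0
    rw [← hc]
    exact Finset.sum_eq_zero fun j _ => by rw [hcon, map_zero, zero_mul]
  set a1 : B := c j1 with ha1
  have hst1 : s a1 = t a1 := hcst j1
  have hnzd1 := nzd hfs hft hprime hst1 hj1
  -- the coordinates of `a1`
  have hfa1 : sX (fB a1) = tX (fB a1) := by
    have e1 : sX (fB a1) = fC (s a1) := congr($(hs.w) a1).symm
    have e2 : tX (fB a1) = fC (t a1) := congr($(ht.w) a1).symm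
    rw [e1, e2, hst1]
  obtain ⟨d, hd⟩ := (hN _).1 (hJN a1 (hcJ j1) 1)
  rw [mul_one] at hd
  have hdst := coord_inv hs ht hfs (fun j : T => v j) (fun j => hv j) hTli d hd hfa1
  obtain ⟨i0, hi0⟩ : ∃ j, d j ≠ 0 := by
    by_contra hcon
    push Not at hcon
    apply hj1
    apply hinj
    rw [map_zero, ← hd]
    exact Finset.sum_eq_zero fun j _ => by rw [hcon, map_zero, zero_mul]
  let b : B := a1 * d i0
  have hb0 : b ≠ 0 := fun h => hi0 (hnzd1 _ h)
  have hb : s b = t b := by
    change s (a1 * d i0) = t (a1 * d i0)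
    rw [map_mul, map_mul, hst1, hdst]
  have hbnzd := nzd hfs hft hprime hb hb0
  have hbnzdC : ∀ z : C, s b * z = 0 → z = 0 := nzd_right hfs hbnzd
  obtain ⟨s0, t0, sub⟩ := exists_sub (inv_span hb)
  have hker : RingHom.ker (CommRingCat.ofHom (Ideal.Quotient.mk (Ideal.span {b}))).hom = Ideal.span {b} := Ideal.mk_ker
  refine ⟨_, _, K603.Glue.isEff_glue (s := s) (t := t) (b := b) rfl hb.symm hbnzd hbnzdC ?_ sub hker
    (hquot b hb hb0 sub hker) ?_⟩
  · intro s' t' hs' ht'
    have : Nonempty T := ⟨i0⟩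
    refine isEff_loc hs ht hX hfs (fun j : T => x j) rfl hb.symm hTli ?_ hs' ht'
    intro y
    obtain ⟨w, hw⟩ := (hN _).1 (hJN a1 (hcJ j1) y)
    refine ⟨fun j => d i0 * w j, ?_⟩
    change fB (a1 * d i0) * y = ∑ j : T, fB (d i0 * w j) * v j
    rw [map_mul, mul_comm (fB a1), mul_assoc, ← hw, Finset.mul_sum]
    exact Finset.sum_congr rfl fun j _ => by rw [map_mul, mul_assoc]
  · intro z hz
    obtain ⟨y0, w0, hy0⟩ := lift_step hb sub hker (fun {B2 C2 χ2 γ2 s2 t2} sub2 hk2 =>
      hquot (b ^ 2) (by rw [map_pow, map_pow, hb]) (fun h => hb0 (hbnzd b (by rw [← pow_two]; exact h))) sub2 hk2) z hz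
    set z2 : B := z + b * y0 with hz2
    obtain ⟨β, y', hβ⟩ := exists_approx hX (e := fB (b ^ 2)) (z := fB z2) (w := fC w0) (by
      have e1 : sX (fB (b ^ 2)) = fC (s (b ^ 2)) := congr($(hs.w) (b ^ 2)).symm
      have e2 : tX (fB (b ^ 2)) = fC (t (b ^ 2)) := congr($(ht.w) (b ^ 2)).symm
      have e3 : s (b ^ 2) = t (b ^ 2) := by rw [map_pow, map_pow, hb]
      rw [e1, e2, e3]) (by
      have e1 : sX (fB z2) = fC (s z2) := congr($(hs.w) z2).symm
      have e2 : tX (fB z2) = fC (t z2) := congr($(ht.w) z2).symm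
      have e3 : sX (fB (b ^ 2)) = fC (s (b ^ 2)) := congr($(hs.w) (b ^ 2)).symm
      rw [e1, e2, e3, ← map_sub, hy0, map_mul, map_pow s.hom])
    obtain ⟨w, hw⟩ := (hN _).1 (hJN a1 (hcJ j1) y')
    have h1 : ∑ j : T, fB (z2 * d j + b ^ 2 * w j) * v j = fB a1 * qX β := by
      rw [hβ, mul_add]
      have e1 : fB a1 * fB z2 = ∑ j : T, fB (z2 * d j) * v j := by
        rw [← hd, Finset.sum_mul]
        exact Finset.sum_congr rfl fun j _ => by rw [map_mul]; ring
      have e2 : fB a1 * (fB (b ^ 2) * y') = ∑ j : T, fB (b ^ 2 * w j) * v j := by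
        rw [mul_left_comm, ← hw, Finset.mul_sum]
        exact Finset.sum_congr rfl fun j _ => by rw [map_mul]; ring
      rw [e1, e2, ← Finset.sum_add_distrib]
      exact Finset.sum_congr rfl fun j _ => by rw [map_add]; ring
    have h2 := coord_inv hs ht hfs (fun j : T => v j) (fun j => hv j) hTli _ h1 (by
      have e1 : sX (qX β) = tX (qX β) := congr($(hX.po.w) β)
      rw [map_mul, map_mul, hfa1, e1]) i0
    refine ⟨y0 + a1 * w i0, ?_⟩
    have h3 : z + b * (y0 + a1 * w i0) = z2 + b * (a1 * w i0) := by rw [hz2]; ring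
    rw [h3]
    apply sub_eq_zero.1
    apply hbnzdC
    have h4 : b * (z2 + b * (a1 * w i0)) = a1 * (z2 * d i0 + b ^ 2 * w i0) := by
      change (a1 * d i0) * (z2 + b * (a1 * w i0)) = _
      change _ = a1 * (z2 * d i0 + b ^ 2 * w i0)
      have : b = a1 * d i0 := rfl
      rw [this]; ring
    have h5 : s (b * (z2 + b * (a1 * w i0))) = t (b * (z2 + b * (a1 * w i0))) := by
      rw [h4, map_mul, map_mul, hst1, h2]
    have e1 : s (b * (z2 + b * (a1 * w i0))) = s b * s (z2 + b * (a1 * w i0)) := map_mul s.hom _ _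
    have e2 : t (b * (z2 + b * (a1 * w i0))) = s b * t (z2 + b * (a1 * w i0)) := by
      rw [hb]; exact map_mul t.hom _ _
    rw [e1, e2] at h5
    rw [mul_sub, h5, sub_self]

end K603.Prime
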