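import Groth.Agent.AlgSp.K603.Prime
import Groth.Agent.AlgSp.K603.Milnor
import Groth.Agent.Sga3.H823.NilQuot
import Mathlib.RingTheory.Noetherian.Nilpotent

/-!
# The induction step of Chevalley's theorem (ring level)
-/

set_option autoImplicit false
universe u
open CategoryTheory CategoryTheory.Limits

namespace K603.Step

open K603.Eff

variable {B C : CommRingCat.{u}} {s t : B ⟶ C}

theorem Inv.inf (hs : s.hom.Flat) (ht : t.hom.Flat) {I J : Ideal B} (hI : Inv s t I) (hJ : Inv s t J) :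
    Inv s t (I ⊓ J) := by
  unfold K603.Eff.Inv at *
  apply le_antisymm
  · refine (Ideal.map_inf_le s.hom).trans ?_
    rw [hI, hJ]
    exact map_inf_le ht I J
  · refine (Ideal.map_inf_le t.hom).trans ?_
    rw [← hI, ← hJ]
    exact map_inf_le hs I J

/-- The kernel of a map to a cover is invariant. -/
theorem inv_ker {BX CX : CommRingCat.{u}} {fB : B ⟶ BX} {fC : C ⟶ CX} {sX tX : BX ⟶ CX}
    (hs : IsPushout s fB fC sX) (ht : IsPushout t fB fC tX) (hfs : s.hom.Flat) (hft : t.hom.Flat) :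
    Inv s t (RingHom.ker fB.hom) := by
  have key : ∀ {s : B ⟶ C} {sX : BX ⟶ CX}, IsPushout s fB fC sX → s.hom.Flat →
      (RingHom.ker fB.hom).map s.hom = RingHom.ker fC.hom := by
    intro s sX hs hfs
    apply le_antisymm
    · rw [Ideal.map_le_iff_le_comap]
      intro b hb
      have hb' : fB b = 0 := hb
      change fC (s b) = 0
      have e1 : fC (s b) = sX (fB b) := congr($(hs.w) b)
      rw [e1, hb', map_zero]
    · intro c hc
      have hc' : fC c = 0 := hc
      refine mem_map_of_mul_eq_zero hs hfs 1 c (by rw [hc', zero_mul]) _ fun b hb => ?_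
      rw [mul_one] at hb
      exact hb
  unfold K603.Eff.Inv
  rw [key hs hfs, key ht hft]

/-- Two closed sub-pairs with the same ideal. -/
theorem hasQuot_of_ker_eq {B1 C1 B2 C2 : CommRingCat.{u}} {χ1 : B ⟶ B1} {γ1 : C ⟶ C1} {s1 t1 : B1 ⟶ C1}
    {χ2 : B ⟶ B2} {γ2 : C ⟶ C2} {s2 t2 : B2 ⟶ C2} (h1 : Sub s t χ1 γ1 s1 t1) (h2 : Sub s t χ2 γ2 s2 t2)
    (hk : RingHom.ker χ1.hom = RingHom.ker χ2.hom) (hq : HasQuot s1 t1) : HasQuot s2 t2 := by
  obtain ⟨k, hk'⟩ := K603.Eff.exists_lift χ1.hom h1.surj χ2.hom hk.le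
  let p : B1 ⟶ B2 := CommRingCat.ofHom k
  have hp : χ1 ≫ p = χ2 := by ext x; exact congr($hk' x)
  obtain ⟨γ, hγ, sub⟩ := K603.Milnor.Sub.factor h1 h2 p hp
  have hpb : Function.Bijective p := by
    refine ⟨?_, sub.surj⟩
    rw [injective_iff_map_eq_zero p.hom]
    intro x hx
    obtain ⟨b, rfl⟩ := h1.surj x
    have h3 : χ2 b = 0 := by rw [← hp]; exact hx
    have h4 : b ∈ RingHom.ker χ1.hom := by rw [hk]; exact h3
    exact h4
  have hpi : IsIso p := (ConcreteCategory.isIso_iff_bijective p).2 hpb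
  have hγi : IsIso γ := sub.hs.isIso_inl_of_isIso
  obtain ⟨A, q, hq⟩ := hq
  refine ⟨A, q ≫ p, ?_, ?_⟩
  · rw [CommRingCat.hom_comp]
    exact RingHom.FaithfullyFlat.stableUnderComposition _ _ hq.ff (RingHom.FaithfullyFlat.of_bijective hpb)
  · exact IsPushout.of_iso hq.po (Iso.refl _) (asIso p) (asIso p) (asIso γ) (by simp) (by simp) (by simp [sub.hs.w])
      (by simp [sub.ht.w])

theorem hasQuot_of_subsingleton (h : Subsingleton B) : HasQuot s t := by
  have hC : Subsingleton C := by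
    refine ⟨fun a b => ?_⟩
    have h1 : (1 : C) = 0 := by
      rw [← map_one s.hom, ← map_zero s.hom]
      congr 1
      exact Subsingleton.elim _ _
    rw [← mul_one a, ← mul_one b, h1, mul_zero, mul_zero]
  have hs : IsIso s := (ConcreteCategory.isIso_iff_bijective s).2
    ⟨fun a b _ => Subsingleton.elim _ _, fun c => ⟨0, Subsingleton.elim _ _⟩⟩
  have hst : s = t := by ext x; exact Subsingleton.elim _ _
  subst hst
  exact ⟨B, 𝟙 B, RingHom.FaithfullyFlat.of_bijective Function.bijective_id,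
    IsPushout.of_horiz_isIso ⟨by simp⟩⟩

/-- **Induction step.** `X ⟶ Y` finite surjective with `X` affine; all closed subspaces `≠ Y` are affine; invariant
ideals are unions of invariant ideals of finite type. Then `Y` is affine. -/
theorem hasQuot_of_minimal {AX BX CX E : CommRingCat.{u}} {fB : B ⟶ BX} {fC : C ⟶ CX} {sX tX : BX ⟶ CX}
    {qX : AX ⟶ BX} {inl inr d1 : C ⟶ E}
    (hs : IsPushout s fB fC sX) (ht : IsPushout t fB fC tX) (hX : IsEff qX sX tX)
    (hfs : s.hom.FaithfullyFlat) (hft : t.hom.Flat)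
    (hE : IsPushout t s inl inr) (e1 : s ≫ d1 = s ≫ inl) (e2 : t ≫ d1 = t ≫ inr)
    {κ : Type u} [Fintype κ] (x : κ → AX) (hgen : ∀ y : BX, ∃ b : κ → B, y = ∑ j, fB (b j) * qX (x j))
    (hnil : ∀ b : B, fB b = 0 → IsNilpotent b)
    (hmin : ∀ J : Ideal B, Inv s t J → J ≠ ⊥ → ∀ {B0 C0 : CommRingCat.{u}} {χ : B ⟶ B0} {γ : C ⟶ C0}
      {s0 t0 : B0 ⟶ C0}, Sub s t χ γ s0 t0 → RingHom.ker χ.hom = J → HasQuot s0 t0)
    (hext : ∀ K : Ideal B, Inv s t K → ∀ b ∈ K, ∃ J : Ideal B, Inv s t J ∧ J.FG ∧ b ∈ J ∧ J ≤ K) : HasQuot s t := by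
  by_contra hcon
  have hnt : Nontrivial B := by
    by_contra hn
    exact hcon (hasQuot_of_subsingleton (not_nontrivial_iff_subsingleton.1 hn))
  -- no nonzero nilpotent invariant ideals
  have hnilp : ∀ N : Ideal B, Inv s t N → N ≠ ⊥ → ¬ IsNilpotent N := by
    intro N hN hN0 hNn
    obtain ⟨s0, t0, sub⟩ := exists_sub hN
    have hk : RingHom.ker (CommRingCat.ofHom (Ideal.Quotient.mk N)).hom = N := Ideal.mk_ker
    obtain ⟨A0, q0, hq0⟩ := hmin N hN hN0 sub hk
    obtain ⟨A, q, -, -, -, hq, hqq, -⟩ := Groth.Agent.Sga3.H823.NilQuot.exists_quot hq0.ff hq0.po sub.surj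
      (by rw [hk]; exact hNn) sub.hs.flip sub.ht.flip hfs hft hE e1 e2
    exact hcon ⟨A, q, hq, hqq⟩
  have hprime : ∀ I J : Ideal B, Inv s t I → Inv s t J → I * J = ⊥ → I = ⊥ ∨ J = ⊥ := by
    intro I J hI hJ hIJ
    by_contra hne
    push Not at hne
    by_cases hN : I ⊓ J = ⊥
    · obtain ⟨s1, t1, sub1⟩ := exists_sub hI
      obtain ⟨s2, t2, sub2⟩ := exists_sub hJ
      have hk1 : RingHom.ker (CommRingCat.ofHom (Ideal.Quotient.mk I)).hom = I := Ideal.mk_ker
      have hk2 : RingHom.ker (CommRingCat.ofHom (Ideal.Quotient.mk J)).hom = J := Ideal.mk_ker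
      exact hcon (K603.Milnor.hasQuot hfs.flat sub1 sub2 (by rw [hk1, hk2, hN])
        (hmin I hI hne.1 sub1 hk1) (hmin J hJ hne.2 sub2 hk2))
    · refine hnilp (I ⊓ J) (Inv.inf hfs.flat hft hI hJ) hN ⟨2, ?_⟩
      rw [Ideal.zero_eq_bot, eq_bot_iff, ← hIJ, pow_two]
      exact Ideal.mul_mono inf_le_left inf_le_right
  have hinj : Function.Injective fB := by
    rw [injective_iff_map_eq_zero fB.hom]
    intro b hb
    by_contra hb0
    obtain ⟨J, hJ, hFG, hbJ, hJK⟩ := hext _ (inv_ker hs ht hfs.flat hft) b hb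
    refine hnilp J hJ (fun h => hb0 ?_) ?_
    · rw [h] at hbJ; exact hbJ
    · rw [Ideal.FG.isNilpotent_iff_le_nilradical hFG]
      intro z hz
      exact hnil z (hJK hz)
  exact hcon (K603.Prime.hasQuot_of_prime hs ht hX hfs.flat hft hinj x hgen hprime
    (fun b hb hb0 {B0 C0 χ γ s0 t0} sub hk => hmin _ (K603.Prime.inv_span hb)
      (fun h => hb0 (Ideal.span_singleton_eq_bot.1 h)) sub hk))

end K603.Step
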