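import Groth.Agent.AlgSp.K603.ChevBase
import Groth.Agent.AlgSp.K597.Proper
import Groth.Agent.AlgSp.K637.ProjChow
import Groth.Agent.AlgSp.K617.FinLoc
import Groth.Agent.S10033

/-!
# A surjective universally closed morphism from an affine scheme has affine target
-/

set_option autoImplicit false
universe u
open CategoryTheory CategoryTheory.Limits AlgebraicGeometry Opposite
open AlgSp

namespace K603.UCAff

open K603.Chev K603.ChevBase K595.ChBase

/-- alias of the milestone used -/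
theorem S10033' (S : Scheme.{u}) [QuasiSeparatedSpace S]
    {X Y : AlgSp.Space S} (f : X ⟶ Y) (hf : AlgSp.IsIntegralMor f.hom) (hYqc : AlgSp.IsQuasiCompactSp Y.obj) (hYqs : AlgSp.IsQuasiSeparatedSp Y.obj) :
    ∃ (I : Type u) (_ : Preorder I) (_ : IsDirected I (fun a b => a ≤ b)) (_ : Nonempty I) (D : Iᵒᵖ ⥤ AlgSp.Sp S)
      (t : D ⟶ (Functor.const Iᵒᵖ).obj Y.obj) (c : Cone D) (_ : IsLimit c) (e : c.pt ≅ X.obj),
      (∀ i, AlgSp.IsAlgSpace (D.obj i)) ∧ (∀ (i j : Iᵒᵖ) (φ : i ⟶ j), AlgSp.IsAffineMor (D.map φ)) ∧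
      (∀ i, AlgSp.IsFiniteMor (t.app i) ∧ AlgSp.IsFinitePresentationMor (t.app i)) ∧ (∀ i, e.inv ≫ c.π.app i ≫ t.app i = f.hom) :=
  Groth.Agent.S10033.result S f hf hYqc hYqs

/-- affine source, affine base -/
theorem aff_of_integral {S : Scheme.{u}} [IsAffine S] {Y : Sp S} (hY : IsAlgSpace Y) (hYs : IsSeparatedSp Y)
    {T : Over S} (hT : IsAffine T.left) (f : (yon S).obj T ⟶ Y) (hf : RepWith @IsIntegralHom f)
    (hfs : RepWith @Surjective f) : Aff Y := by
  have hYqs : IsQuasiSeparatedSp Y := K603.Chev.isQuasiSeparatedSp_of_isSeparatedSp hYs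
  have hYqc : IsQuasiCompactSp Y := K596.QC.isQuasiCompactSp_of_surjective hY f
    (K609.Points.surjective_map_of_repWith_surjective hfs)
    (K609.QC.compactSpace_points (K596.QC.isQuasiCompactSp_yon T))
  let X' : Space S := ⟨(yon S).obj T, IsAlgSpace.yon_obj T⟩
  let Y' : Space S := ⟨Y, hY⟩
  let f' : X' ⟶ Y' := ⟨f⟩
  obtain ⟨I, _, _, _, D, t, c, hc, e, hD, hDa, ht, he⟩ :=
    S10033' S f' (K617.FinLoc.isIntegralMor_iff.2 hf) hYqc hYqs
  have hfin : ∀ i, RepWith @IsFinite (t.app i) := fun i => K617.FinLoc.isFiniteMor_iff.1 (ht i).1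
  have hDqc : ∀ i, IsQuasiCompactSp (D.obj i) := fun i => K596.QC.isQuasiCompactSp_of_repWith hYqc
    (K598.RepKit.repWith_mono (fun _ _ f (_ : IsFinite f) => (inferInstance : QuasiCompact f)) (hfin i))
  have hDs : ∀ i, IsSeparatedSp (D.obj i) := fun i => K608.SepAbs.isSeparatedSp_of_isSeparatedMor (t.app i)
    ((K595.DiagBasic.isSeparatedMor_iff_repWith (hfin i).1).2 (K598.RepKit.repWith_mono
      (fun _ _ f (_ : IsFinite f) => (inferInstance : IsSeparated f)) (hfin i))) hYs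
  obtain ⟨i, T', hT', ⟨e'⟩⟩ := Groth.Agent.S10006.result S D hD hDa hDqc
    (fun i => K603.Chev.isQuasiSeparatedSp_of_isSeparatedSp (hDs i)) c hc T hT e.symm
  refine aff_of_finite hY hT' (e'.hom ≫ t.app i) (MorphismProperty.RespectsIso.precomp _ _ _ (hfin i)) ?_
  refine MorphismProperty.RespectsIso.precomp _ _ _ ((K609.Points.repWith_surjective_iff (hfin i).1).2 ?_)
  intro y
  obtain ⟨x, hx⟩ := K609.Points.surjective_map_of_repWith_surjective hfs y
  refine ⟨Points.map (e.inv ≫ c.π.app i) x, ?_⟩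
  rw [← Points.map_comp, Category.assoc, he, ← hx]

/-- **S10044** -/
theorem aff_of_univClosed {S : Scheme.{u}} {Y : Sp S} (hY : IsAlgSpace Y) {T : Over S} (hT : IsAffine T.left)
    (f : (yon S).obj T ⟶ Y) (hfs : IsSurjectiveMor f) (hf : IsUnivClosedMor f) : Aff Y := by
  let g : S ⟶ ⊤_ Scheme.{u} := terminal.from S
  have : IsAffine (⊤_ Scheme.{u}) := inferInstance
  have hrep : Representable f := fun U g => by
    obtain ⟨W, p, q, sq⟩ := K609.Sep.exists_isPullback_yon hY.diag f g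
    exact ⟨W, q, _, sq⟩
  have h1 : RepWith @UniversallyClosed f := (K596.Univ.repWith_universallyClosed_iff hrep).2 hf
  have h2 : RepWith @Surjective f := (K609.Points.repWith_surjective_iff hrep).2 hfs
  let T' : Over (⊤_ Scheme.{u}) := (Over.map g).obj T
  have hT' : IsAffine T'.left := hT
  let f' : (yon (⊤_ Scheme.{u})).obj T' ⟶ (L g).obj Y := yonHom T ≫ (L g).map f
  have hf' : RepWith @UniversallyClosed f' := MorphismProperty.RespectsIso.precomp _ _ _ (repWith_L h1)
  have hfs' : RepWith @Surjective f' := MorphismProperty.RespectsIso.precomp _ _ _ (repWith_L h2)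
  have hY' := isAlgSpace_L (g := g) hY
  have hsep : IsSeparatedSp ((L g).obj Y) := isSeparatedSp_of_surjective_univClosed hY' hT' f'
    (K609.Points.surjective_map_of_repWith_surjective hfs') ((K596.Univ.repWith_universallyClosed_iff hf'.1).1 hf')
  have haff : RepWith @IsAffineHom f' := K637.ProjChow.repWith_affine hY' hsep hT' f'
  have hint : RepWith @IsIntegralHom f' := ⟨hf'.1, fun U V g fst snd sq =>
    IsIntegralHom.iff_universallyClosed_and_isAffineHom.2 ⟨hf'.2 g fst snd sq, haff.2 g fst snd sq⟩⟩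
  obtain ⟨T'', hT'', ⟨e⟩⟩ := aff_of_integral hY' hsep hT' f' hint hfs'
  obtain ⟨T₀, ⟨e1⟩, ⟨e2⟩⟩ := K631.BaseZ.exists_rep_of_L e
  exact ⟨T₀, IsAffine.of_isIso e1.hom, ⟨e2⟩⟩

end K603.UCAff
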