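import Groth.Agent.AlgSp.K603.ChevBase
import Groth.Agent.AlgSp.K636.Decomp

/-!
# An algebraic space which is the union of two affine closed subspaces is affine
-/

set_option autoImplicit false
universe u
open CategoryTheory CategoryTheory.Limits AlgebraicGeometry Opposite
open AlgSp

namespace K603.UnionAff

open K603.Chev K603.ChevBase K636.Decomp

variable {S : Scheme.{u}}

/-- finite on two complementary open subschemes -/
theorem isFinite_of_isCompl {V V1 V2 U : Scheme.{u}} (a : V1 ⟶ V) (b : V2 ⟶ V) [IsOpenImmersion a]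
    [IsOpenImmersion b] (h : IsCompl a.opensRange b.opensRange) (f : V ⟶ U) (h1 : IsFinite (a ≫ f))
    (h2 : IsFinite (b ≫ f)) : IsFinite f := by
  obtain ⟨hc⟩ := nonempty_isColimit_binaryCofanMk_of_isCompl a b h
  let e : (V1 ⨿ V2) ≅ V := (colimit.isColimit (pair V1 V2)).coconePointUniqueUpToIso hc
  have he1 : coprod.inl ≫ e.hom = a := by
    exact (colimit.isColimit (pair V1 V2)).comp_coconePointUniqueUpToIso_hom hc ⟨WalkingPair.left⟩
  have he2 : coprod.inr ≫ e.hom = b := by
    exact (colimit.isColimit (pair V1 V2)).comp_coconePointUniqueUpToIso_hom hc ⟨WalkingPair.right⟩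
  have h3 : e.hom ≫ f = coprod.desc (a ≫ f) (b ≫ f) := by
    apply coprod.hom_ext
    · rw [← Category.assoc, he1, coprod.inl_desc]
    · rw [← Category.assoc, he2, coprod.inr_desc]
  have h4 : f = e.inv ≫ coprod.desc (a ≫ f) (b ≫ f) := by rw [← h3, e.inv_hom_id_assoc]
  rw [h4]
  infer_instance

theorem range_of_isPullback {P X Y Z : Scheme.{u}} {p : P ⟶ X} {q : P ⟶ Y} {f : X ⟶ Z} {g : Y ⟶ Z}
    (h : IsPullback p q f g) : Set.range p = f ⁻¹' (Set.range g) := by
  rw [← h.isoPullback_hom_fst]
  have h1 : Set.range (h.isoPullback.hom ≫ pullback.fst f g) = Set.range (pullback.fst f g) := by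
    ext z
    constructor
    · rintro ⟨w, rfl⟩
      exact ⟨h.isoPullback.hom w, by rw [Scheme.Hom.comp_apply]⟩
    · rintro ⟨w, rfl⟩
      obtain ⟨w', rfl⟩ := (h.isoPullback.hom).surjective w
      exact ⟨w', by rw [Scheme.Hom.comp_apply]⟩
  rw [h1, Scheme.Pullback.range_fst]

theorem isFinite_cop {T1 T2 U V : Over S} (f : V ⟶ cop T1 T2) (s : V ⟶ U)
    (h : ∀ {W : Over S} (a : W ⟶ T1) (b : W ⟶ V), IsPullback b a f (copl T1 T2) → IsFinite (b ≫ s).left)
    (h' : ∀ {W : Over S} (a : W ⟶ T2) (b : W ⟶ V), IsPullback b a f (copr T1 T2) → IsFinite (b ≫ s).left) :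
    IsFinite s.left := by
  have p1 := IsPullback.of_hasPullback f (copl T1 T2)
  have p2 := IsPullback.of_hasPullback f (copr T1 T2)
  have q1 : IsPullback (pullback.fst f (copl T1 T2)).left (pullback.snd f (copl T1 T2)).left f.left (copl T1 T2).left :=
    p1.map (Over.forget S)
  have q2 : IsPullback (pullback.fst f (copr T1 T2)).left (pullback.snd f (copr T1 T2)).left f.left (copr T1 T2).left :=
    p2.map (Over.forget S)
  have hi1 : IsOpenImmersion (copl T1 T2).left := inferInstanceAs (IsOpenImmersion (coprod.inl : T1.left ⟶ T1.left ⨿ T2.left))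
  have hi2 : IsOpenImmersion (copr T1 T2).left := inferInstanceAs (IsOpenImmersion (coprod.inr : T2.left ⟶ T1.left ⨿ T2.left))
  have o1 : IsOpenImmersion (pullback.fst f (copl T1 T2)).left := MorphismProperty.of_isPullback q1.flip hi1
  have o2 : IsOpenImmersion (pullback.fst f (copr T1 T2)).left := MorphismProperty.of_isPullback q2.flip hi2
  have hc := isCompl_range_inl_inr T1.left T2.left
  have r1 := range_of_isPullback q1
  have r2 := range_of_isPullback q2
  refine isFinite_of_isCompl (pullback.fst f (copl T1 T2)).left (pullback.fst f (copr T1 T2)).left ?_ s.left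
    (h _ _ p1) (h' _ _ p2)
  have hc' : IsCompl (Set.range (copl T1 T2).left) (Set.range (copr T1 T2).left) := hc
  have hc2 : IsCompl (Set.range (pullback.fst f (copl T1 T2)).left) (Set.range (pullback.fst f (copr T1 T2)).left) := by
    rw [r1, r2, isCompl_iff]
    constructor
    · rw [Set.disjoint_iff_inter_eq_empty, ← Set.preimage_inter, Set.disjoint_iff_inter_eq_empty.1 hc'.disjoint,
        Set.preimage_empty]
    · rw [codisjoint_iff]
      have := hc'.sup_eq_top
      change f.left ⁻¹' _ ∪ f.left ⁻¹' _ = _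
      rw [← Set.preimage_union]
      change Set.range (copl T1 T2).left ∪ Set.range (copr T1 T2).left = _ at this
      rw [this]
      rfl
  constructor
  · rw [disjoint_iff]
    ext x
    have := Set.ext_iff.1 (Set.disjoint_iff_inter_eq_empty.1 hc2.disjoint) x
    exact this
  · rw [codisjoint_iff]
    ext x
    have h9 := hc2.sup_eq_top
    have := Set.ext_iff.1 h9 x
    exact this

/-- **Union of two affine closed subspaces.** -/
theorem aff_of_closed_cover {Y : Sp S} (hY : IsAlgSpace Y) {T1 T2 : Over S} (h1 : IsAffine T1.left)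
    (h2 : IsAffine T2.left) (j1 : (yon S).obj T1 ⟶ Y) (j2 : (yon S).obj T2 ⟶ Y)
    (hj1 : RepWith @IsClosedImmersion j1) (hj2 : RepWith @IsClosedImmersion j2)
    (hs : ∀ y : Points Y, y ∈ Set.range (Points.map j1) ∨ y ∈ Set.range (Points.map j2)) : Aff Y := by
  obtain ⟨c, hc1, hc2⟩ := (isDecomp_cop T1 T2).exists_desc j1 j2
  have hrep : Representable c := fun U g => by
    obtain ⟨W, p, q, sq⟩ := K609.Sep.exists_isPullback_yon hY.diag c g
    exact ⟨W, q, _, sq⟩
  have hfin : RepWith @IsFinite c := by
    refine ⟨hrep, fun U V g fst snd sq => ?_⟩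
    obtain ⟨f, rfl⟩ := (yon S).map_surjective fst
    refine isFinite_cop f snd (fun {W} a b sq' => ?_) (fun {W} a b sq' => ?_)
    · have h3 := (sq'.map (yon S)).flip.paste_vert sq
      rw [hc1, ← Functor.map_comp] at h3
      have : IsClosedImmersion (b ≫ snd).left := hj1.2 _ _ _ h3
      infer_instance
    · have h3 := (sq'.map (yon S)).flip.paste_vert sq
      rw [hc2, ← Functor.map_comp] at h3
      have : IsClosedImmersion (b ≫ snd).left := hj2.2 _ _ _ h3
      infer_instance
  refine aff_of_finite hY (T := cop T1 T2) (inferInstanceAs (IsAffine (T1.left ⨿ T2.left))) c hfin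
    ((K609.Points.repWith_surjective_iff hrep).2 ?_)
  intro y
  rcases hs y with ⟨x, hx⟩ | ⟨x, hx⟩
  · exact ⟨Points.map ((yon S).map (copl T1 T2)) x, by rw [← Points.map_comp, hc1, hx]⟩
  · exact ⟨Points.map ((yon S).map (copr T1 T2)) x, by rw [← Points.map_comp, hc2, hx]⟩

end K603.UnionAff
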