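import Groth.Agent.AlgSp.K603.UnionAff
import Groth.Agent.AlgSp.K610.SchLocus
import Groth.Agent.AlgSp.K598.Red

/-!
# An algebraic space which is the union of two closed subspaces which are schemes is a scheme
-/

set_option autoImplicit false
universe u
open CategoryTheory CategoryTheory.Limits AlgebraicGeometry Opposite
open AlgSp

namespace K603.UnionSch

open K603.Chev K603.UnionAff

theorem exists_affineOpen {T : Scheme.{u}} {O : T.Opens} {x : T} (hx : x ∈ O) :
    ∃ W : T.Opens, IsAffineOpen W ∧ x ∈ W ∧ W ≤ O := by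
  obtain ⟨W, hW, hxW, hle⟩ := TopologicalSpace.Opens.isBasis_iff_nbhd.1 T.isBasis_affineOpens hx
  exact ⟨W, hW, hxW, hle⟩

theorem exists_opens {T12 T1 T2 : Scheme.{u}} (a1 : T12 ⟶ T1) (a2 : T12 ⟶ T2) [IsClosedImmersion a1]
    [IsClosedImmersion a2] (x : T12) : ∃ (U1 : T1.Opens) (U2 : T2.Opens), IsAffineOpen U1 ∧ IsAffineOpen U2 ∧
      x ∈ a1 ⁻¹ᵁ U1 ∧ a1 ⁻¹ᵁ U1 = a2 ⁻¹ᵁ U2 := by
  obtain ⟨W1, hW1, hxW1, -⟩ := exists_affineOpen (show a1 x ∈ (⊤ : T1.Opens) from trivial)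
  obtain ⟨W2, hW2, hxW2, -⟩ := exists_affineOpen (show a2 x ∈ (⊤ : T2.Opens) from trivial)
  obtain ⟨g1, g2, h1, h2⟩ := exists_basicOpen_le_affine_inter (hW1.preimage a1) (hW2.preimage a2) x ⟨hxW1, hxW2⟩
  obtain ⟨f1, rfl⟩ := a1.app_surjective W1 hW1 g1
  obtain ⟨f2, rfl⟩ := a2.app_surjective W2 hW2 g2
  refine ⟨T1.basicOpen f1, T2.basicOpen f2, hW1.basicOpen f1, hW2.basicOpen f2, ?_, ?_⟩
  · rw [Scheme.preimage_basicOpen]
    exact h2
  · rw [Scheme.preimage_basicOpen, Scheme.preimage_basicOpen]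
    exact h1

/-- the three cases -/
theorem exists_opens' {T12 T1 T2 : Scheme.{u}} (a1 : T12 ⟶ T1) (a2 : T12 ⟶ T2) [IsClosedImmersion a1]
    [IsClosedImmersion a2] (x : T1) : ∃ (U1 : T1.Opens) (U2 : T2.Opens), IsAffineOpen U1 ∧ IsAffineOpen U2 ∧
      x ∈ U1 ∧ a1 ⁻¹ᵁ U1 = a2 ⁻¹ᵁ U2 := by
  by_cases hx : x ∈ Set.range a1
  · obtain ⟨x, rfl⟩ := hx
    exact exists_opens a1 a2 x
  · obtain ⟨W, hW, hxW, hle⟩ := exists_affineOpen
      (show x ∈ (⟨_, a1.isClosedEmbedding.isClosed_range.isOpen_compl⟩ : T1.Opens) from hx)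
    refine ⟨W, ⊥, hW, isAffineOpen_bot T2, hxW, ?_⟩
    ext y
    constructor
    · intro hy
      exact absurd ⟨y, rfl⟩ (hle hy)
    · intro hy
      exact absurd hy (fun h => h)

variable {S : Scheme.{u}}

theorem injective_closed {X : Sp S} (hX : IsAlgSpace X) {T : Over S} {j : (yon S).obj T ⟶ X}
    (hj : RepWith @IsClosedImmersion j) : Function.Injective (Points.ofPt j) ∧ IsClosedMap (Points.ofPt j) := by
  have h1 : Points.ofPt j = Points.map j ∘ Points.schemeHomeo T := by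
    funext t
    exact Points.ofPt_eq_map_ofScheme j t
  have h2 := (K610.OpenImm.isEmbedding_points hX (K610.OpenImm.repWith_isImmersion_of_closed hj)).1
  have h3 : IsClosedMap (Points.map j) := K596.Univ.isClosedMap_of_repWith (K598.RepKit.repWith_mono
    (fun _ _ f (_ : IsClosedImmersion f) => (inferInstance : UniversallyClosed f)) hj)
  rw [h1]
  exact ⟨h2.injective.comp (Points.schemeHomeo T).injective, h3.comp (Points.schemeHomeo T).isClosedMap⟩

/-- The open subspace with given affine traces on the two closed subschemes is affine. -/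
theorem isSch_of_traces {X : Space S} {T1 T2 T12 : Over S} (j1 : (yon S).obj T1 ⟶ X.obj) (j2 : (yon S).obj T2 ⟶ X.obj)
    (hj1 : RepWith @IsClosedImmersion j1) (hj2 : RepWith @IsClosedImmersion j2)
    (hs : ∀ y : Points X.obj, y ∈ Set.range (Points.ofPt j1) ∨ y ∈ Set.range (Points.ofPt j2))
    {a1 : T12 ⟶ T1} {a2 : T12 ⟶ T2} (sq : IsPullback ((yon S).map a1) ((yon S).map a2) j1 j2)
    (U1 : T1.left.Opens) (U2 : T2.left.Opens) (h1 : IsAffineOpen U1) (h2 : IsAffineOpen U2)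
    (h12 : a1.left ⁻¹ᵁ U1 = a2.left ⁻¹ᵁ U2) :
    K610.SchLocus.IsSch X.obj (Points.ofPt j1 '' U1 ∪ Points.ofPt j2 '' U2) := by
  have hpre : ∀ (t : T1.left) (t' : T2.left), Points.ofPt j1 t = Points.ofPt j2 t' →
      ∃ r : T12.left, a1.left r = t ∧ a2.left r = t' := fun t t' e => (K609.Points.ofPt_eq_ofPt_iff sq t t').1 e
  have hm12 : ∀ r : T12.left, a1.left r ∈ U1 ↔ a2.left r ∈ U2 := fun r => by
    have := TopologicalSpace.Opens.ext_iff.1 h12
    exact Set.ext_iff.1 this r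
  have hinj1 := (injective_closed X.property hj1).1
  have hinj2 := (injective_closed X.property hj2).1
  have hcl1 := (injective_closed X.property hj1).2
  have hcl2 := (injective_closed X.property hj2).2
  have hopen : IsOpen (Points.ofPt j1 '' (U1 : Set T1.left) ∪ Points.ofPt j2 '' (U2 : Set T2.left)) := by
    have : (Points.ofPt j1 '' (U1 : Set T1.left) ∪ Points.ofPt j2 '' (U2 : Set T2.left))ᶜ =
        Points.ofPt j1 '' (U1 : Set T1.left)ᶜ ∪ Points.ofPt j2 '' (U2 : Set T2.left)ᶜ := by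
      ext y
      constructor
      · intro hy
        rcases hs y with ⟨t, rfl⟩ | ⟨t, rfl⟩
        · exact Or.inl ⟨t, fun ht => hy (Or.inl ⟨t, ht, rfl⟩), rfl⟩
        · exact Or.inr ⟨t, fun ht => hy (Or.inr ⟨t, ht, rfl⟩), rfl⟩
      · rintro (⟨t, ht, rfl⟩ | ⟨t, ht, rfl⟩) (⟨t', ht', e⟩ | ⟨t', ht', e⟩)
        · rw [hinj1 e] at ht'
          exact ht ht'
        · obtain ⟨r, rfl, rfl⟩ := hpre _ _ e.symm
          exact ht ((hm12 r).2 ht')
        · obtain ⟨r, rfl, rfl⟩ := hpre _ _ e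
          exact ht ((hm12 r).1 ht')
        · rw [hinj2 e] at ht'
          exact ht ht'
    rw [← isClosed_compl_iff, this]
    exact (hcl1 _ U1.isOpen.isClosed_compl).union (hcl2 _ U2.isOpen.isClosed_compl)
  have htr1 : Points.ofPt j1 ⁻¹' (Points.ofPt j1 '' (U1 : Set T1.left) ∪ Points.ofPt j2 '' (U2 : Set T2.left)) = U1 := by
    ext t
    constructor
    · rintro (⟨t', ht', e⟩ | ⟨t', ht', e⟩)
      · rw [← hinj1 e]; exact ht'
      · obtain ⟨r, rfl, rfl⟩ := hpre _ _ e.symm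
        exact (hm12 r).2 ht'
    · intro ht
      exact Or.inl ⟨t, ht, rfl⟩
  have htr2 : Points.ofPt j2 ⁻¹' (Points.ofPt j1 '' (U1 : Set T1.left) ∪ Points.ofPt j2 '' (U2 : Set T2.left)) = U2 := by
    ext t
    constructor
    · rintro (⟨t', ht', e⟩ | ⟨t', ht', e⟩)
      · obtain ⟨r, rfl, rfl⟩ := hpre _ _ e
        exact (hm12 r).1 ht'
      · rw [← hinj2 e]; exact ht'
    · intro ht
      exact Or.inr ⟨t, ht, rfl⟩
  obtain ⟨V, j, hj, hr⟩ := Groth.Agent.S10195.result X _ hopen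
  have key : ∀ {T : Over S} (i : (yon S).obj T ⟶ X.obj) (_ : RepWith @IsClosedImmersion i) (U : T.left.Opens)
      (_ : IsAffineOpen U) (_ : Points.ofPt i ⁻¹' (Set.range (Points.map j.hom)) = U),
      ∃ (W : Over S) (i' : (yon S).obj W ⟶ V.obj), IsAffine W.left ∧ RepWith @IsClosedImmersion i' ∧
        ∀ y : Points V.obj, Points.map j.hom y ∈ Set.range (Points.ofPt i) → y ∈ Set.range (Points.map i') := by
    intro T i hi U hU htr
    obtain ⟨W, w, g, sqW⟩ := hj.1 i
    have hw : IsOpenImmersion w.left := hj.2 _ _ _ sqW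
    have hrw : w.left.opensRange = U := by
      have h3 := K609.Points.preimage_image_map sqW Set.univ
      rw [Set.image_univ, Set.preimage_univ, Set.image_univ] at h3
      apply TopologicalSpace.Opens.ext
      rw [← htr, h3]
      rfl
    refine ⟨W, g, ?_, MorphismProperty.of_isPullback sqW.flip hi, ?_⟩
    · rw [← hrw] at hU
      have : IsAffine w.left.opensRange.toScheme := hU
      exact IsAffine.of_isIso w.left.isoOpensRange.hom
    · rintro y ⟨t, ht⟩
      obtain ⟨z, hz, -⟩ := K609.Points.exists_of_isPullback sqW y (Points.ofScheme T t) (by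
        rw [← ht, Points.ofPt_eq_map_ofScheme])
      exact ⟨z, hz⟩
  obtain ⟨W1, i1, hW1, hi1, hr1⟩ := key j1 hj1 U1 h1 (by rw [hr]; exact htr1)
  obtain ⟨W2, i2, hW2, hi2, hr2⟩ := key j2 hj2 U2 h2 (by rw [hr]; exact htr2)
  rw [← hr, K610.SchLocus.isSch_iff hj]
  obtain ⟨T, -, ⟨e⟩⟩ := aff_of_closed_cover V.property hW1 hW2 i1 i2 hi1 hi2 (fun y => by
    rcases hs (Points.map j.hom y) with h | h
    · exact Or.inl (hr1 y h)
    · exact Or.inr (hr2 y h))
  exact K610.ZarGlue.isRepresentable_iff.2 ⟨T, ⟨e⟩⟩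

/-- **Union of two closed subspaces which are schemes.** -/
theorem isRepresentable_of_closed_cover {X : Space S} {T1 T2 : Over S} (j1 : (yon S).obj T1 ⟶ X.obj)
    (j2 : (yon S).obj T2 ⟶ X.obj) (hj1 : RepWith @IsClosedImmersion j1) (hj2 : RepWith @IsClosedImmersion j2)
    (hs : ∀ y : Points X.obj, y ∈ Set.range (Points.ofPt j1) ∨ y ∈ Set.range (Points.ofPt j2)) :
    X.obj.obj.IsRepresentable := by
  obtain ⟨T12, a1, a2, sq⟩ := K609.Sep.exists_isPullback_yon X.property.diag j1 j2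
  have ha2 : IsClosedImmersion a2.left := hj1.2 _ _ _ sq
  have ha1 : IsClosedImmersion a1.left := hj2.2 _ _ _ sq.flip
  rw [K610.SchLocus.isRepresentable_iff_forall]
  intro x
  rcases hs x with ⟨t, rfl⟩ | ⟨t, rfl⟩
  · obtain ⟨U1, U2, h1, h2, h3, h4⟩ := exists_opens' a1.left a2.left t
    exact ⟨_, isSch_of_traces j1 j2 hj1 hj2 hs sq U1 U2 h1 h2 h4, Or.inl ⟨t, h3, rfl⟩⟩
  · obtain ⟨U2, U1, h2, h1, h3, h4⟩ := exists_opens' a2.left a1.left t
    exact ⟨_, isSch_of_traces j1 j2 hj1 hj2 hs sq U1 U2 h1 h2 h4.symm, Or.inr ⟨t, h3, rfl⟩⟩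

/-- `X` not a scheme, all closed subspaces `≠ X` schemes: `X` is irreducible -/
theorem irreducibleSpace {X : Space S} (hX : ¬ X.obj.obj.IsRepresentable)
    (hmin : ∀ (Z : Space S) (i : Z ⟶ X), RepWith @IsClosedImmersion i.hom → ¬ IsIso i → Z.obj.obj.IsRepresentable) :
    IrreducibleSpace (Points X.obj) := by
  have hne : Nonempty (Points X.obj) := by
    by_contra hne
    rw [not_nonempty_iff] at hne
    exact hX (K610.SchLocus.isRepresentable_iff_forall.2 fun x => isEmptyElim x)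
  have hred : ∀ C : Set (Points X.obj), IsClosed C → C ≠ Set.univ → ∃ (T : Over S) (j : (yon S).obj T ⟶ X.obj),
      RepWith @IsClosedImmersion j ∧ Set.range (Points.ofPt j) = C := by
    intro C hC hC1
    obtain ⟨Z, i, hZ, hi⟩ := K598.Red.exists_isRedInduced X.property C hC
    let Z' : Space S := ⟨Z, hZ⟩
    let i' : Z' ⟶ X := ⟨i⟩
    have h1 : ¬ IsIso i' := by
      intro h
      have h2 : IsIso i := (inferInstance : IsIso ((ObjectProperty.ι _).map i'))
      apply hC1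
      rw [← hi.2.1, Set.range_eq_univ]
      intro x
      refine ⟨Points.map (inv i) x, ?_⟩
      rw [← Points.map_comp, IsIso.inv_hom_id, Points.map_id]
    obtain ⟨T, ⟨e⟩⟩ := K610.ZarGlue.isRepresentable_iff.1 (hmin Z' i' hi.1 h1)
    refine ⟨T, e.hom ≫ i, MorphismProperty.RespectsIso.precomp _ _ _ hi.1, ?_⟩
    rw [K610.SchLocus.range_comp_of_surjective _ _ (K610.SchLocus.surjective_ofPt_iso e), hi.2.1]
  have hpre : IsPreirreducible (Set.univ : Set (Points X.obj)) := by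
    rw [isPreirreducible_iff_isClosed_union_isClosed]
    intro C1 C2 hC1 hC2 h12
    by_contra hcon
    push Not at hcon
    obtain ⟨T1, j1, hj1, hr1⟩ := hred C1 hC1 (fun h => hcon.1 h.ge)
    obtain ⟨T2, j2, hj2, hr2⟩ := hred C2 hC2 (fun h => hcon.2 h.ge)
    refine hX (isRepresentable_of_closed_cover j1 j2 hj1 hj2 fun y => ?_)
    rw [hr1, hr2]
    exact h12 (Set.mem_univ y)
  have : PreirreducibleSpace (Points X.obj) := ⟨hpre⟩
  exact ⟨inferInstance⟩

end K603.UnionSch
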