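import Groth.Agent.AlgSp.K603.UnivClosedAux

/-!
# Closedness over an affine test scheme from closedness over affine spaces
-/

set_option autoImplicit false
universe u
open CategoryTheory CategoryTheory.Limits AlgebraicGeometry Opposite
open AlgSp

namespace K603.UnivClosedMain

variable {S : Scheme.{u}}

open K603.Points K603.UnivClosedAux

/-- The affine space over a scheme over `S`, as a scheme over `S`. -/
noncomputable abbrev Aff (n : ℕ) (V : Over S) : Over S :=
  Over.mk ((𝔸(ULift.{u} (Fin n); V.left) ↘ V.left) ≫ V.hom)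

noncomputable abbrev affπ (n : ℕ) (V : Over S) : Aff n V ⟶ V :=
  Over.homMk (𝔸(ULift.{u} (Fin n); V.left) ↘ V.left)

noncomputable abbrev affMap (n : ℕ) {V V' : Over S} (g : V ⟶ V') : Aff n V ⟶ Aff n V' :=
  Over.homMk (AffineSpace.map _ g.left) (by
    change AffineSpace.map _ g.left ≫ (𝔸(ULift.{u} (Fin n); V'.left) ↘ V'.left) ≫ V'.hom =
      (𝔸(ULift.{u} (Fin n); V.left) ↘ V.left) ≫ V.hom
    rw [AffineSpace.map_over_assoc, Over.w])

noncomputable abbrev affVec (n : ℕ) {T V : Over S} (g : T ⟶ V) (b : ULift.{u} (Fin n) → Γ(T.left, ⊤)) :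
    T ⟶ Aff n V :=
  Over.homMk (AffineSpace.homOfVector g.left b) (by
    change AffineSpace.homOfVector g.left b ≫ (𝔸(ULift.{u} (Fin n); V.left) ↘ V.left) ≫ V.hom = T.hom
    rw [AffineSpace.homOfVector_over_assoc, Over.w])

theorem isPullback_of_left {A B C D : Over S} {a : A ⟶ B} {b : A ⟶ C} {c : B ⟶ D} {d : C ⟶ D}
    (h : IsPullback a.left b.left c.left d.left) : IsPullback a b c d := by
  refine IsPullback.of_map (Over.forget S) ?_ h
  apply Over.OverMorphism.ext
  exact h.w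

theorem isPullback_affMap (n : ℕ) {V V' : Over S} (g : V ⟶ V') :
    IsPullback (affMap n g) (affπ n V) (affπ n V') g :=
  isPullback_of_left (AffineSpace.isPullback_map g.left)

theorem repWith_of_isPullback (P : MorphismProperty Scheme.{u}) {F G F' G' : Sp S} {fst : F' ⟶ F}
    {snd : F' ⟶ G'} {f : F ⟶ G} {g : G' ⟶ G} (sq : IsPullback fst snd f g) (hf : RepWith P f) :
    RepWith P snd :=
  (repWith_isStableUnderBaseChange (S := S) P).of_isPullback sq hf

theorem exists_isPullback {F G H : Sp S} (f : F ⟶ G) (g : H ⟶ G) :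
    ∃ (P : Sp S) (fst : P ⟶ F) (snd : P ⟶ H), IsPullback fst snd f g :=
  ⟨_, _, _, IsPullback.of_hasPullback f g⟩

variable {X Y : Sp S} (f : X ⟶ Y) {V : Over S} (p : (yon S).obj V ⟶ Y)

/-- Main step: closedness over an affine test scheme. -/
theorem isClosedMap_of_aff
    (H : ∀ (n : ℕ) (P : Sp S) (fst : P ⟶ X) (snd : P ⟶ (yon S).obj (Aff n V)),
      IsPullback fst snd f ((yon S).map (affπ n V) ≫ p) → IsClosedMap (AlgSp.Points.map snd))
    {R B : Type u} [CommRing R] [CommRing B] [Algebra R B]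
    (ι : Spec (.of R) ⟶ V.left) [IsOpenImmersion ι]
    {X₀ : Sp S} {fst₀ : X₀ ⟶ X} {snd₀ : X₀ ⟶ (yon S).obj (Over.mk (ι ≫ V.hom))}
    (sq₀ : IsPullback fst₀ snd₀ f ((yon S).map (Over.homMk ι : Over.mk (ι ≫ V.hom) ⟶ V) ≫ p))
    {U : Over S} (u : (yon S).obj U ⟶ X₀) (hu : RepWith @Etale u) (hus : RepWith @Surjective u)
    [CompactSpace U.left]
    {PT : Sp S} {fstT : PT ⟶ X}
    {sndT : PT ⟶ (yon S).obj (Over.mk (Spec.map (CommRingCat.ofHom (algebraMap R B)) ≫ ι ≫ V.hom))}
    (sqT : IsPullback fstT sndT f ((yon S).map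
      (Over.homMk (Spec.map (CommRingCat.ofHom (algebraMap R B)) ≫ ι) :
        Over.mk (Spec.map (CommRingCat.ofHom (algebraMap R B)) ≫ ι ≫ V.hom) ⟶ V) ≫ p)) :
    IsClosedMap (AlgSp.Points.map sndT) := by
  let ψ := Spec.map (CommRingCat.ofHom (algebraMap R B))
  let W₀ : Over S := Over.mk (ι ≫ V.hom)
  let ιo : W₀ ⟶ V := Over.homMk ι
  let T : Over S := Over.mk (ψ ≫ ι ≫ V.hom)
  let φ : T ⟶ W₀ := Over.homMk ψ
  have hφ : (Over.homMk (ψ ≫ ι) : T ⟶ V) = φ ≫ ιo := Over.OverMorphism.ext rfl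
  change IsPullback fst₀ snd₀ f ((yon S).map ιo ≫ p) at sq₀
  change IsPullback fstT sndT f ((yon S).map (Over.homMk (ψ ≫ ι) : T ⟶ V) ≫ p) at sqT
  rw [hφ, Functor.map_comp, Category.assoc] at sqT
  obtain ⟨gU, hgU⟩ := (yon S).map_surjective (u ≫ snd₀)
  -- the fibre product of `U` and `T`
  let UT : Over S := Over.mk (pullback.fst gU.left φ.left ≫ U.hom)
  let fstU : UT ⟶ U := Over.homMk (pullback.fst gU.left φ.left)
  let sndU : UT ⟶ T := Over.homMk (pullback.snd gU.left φ.left) (by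
    have h1 := pullback.condition (f := gU.left) (g := φ.left)
    change pullback.snd gU.left φ.left ≫ T.hom = pullback.fst gU.left φ.left ≫ U.hom
    rw [← Over.w gU, ← Over.w φ, ← Category.assoc, ← Category.assoc, h1])
  have sqUl : IsPullback fstU.left sndU.left gU.left φ.left :=
    IsPullback.of_hasPullback gU.left φ.left
  have sqU : IsPullback fstU sndU gU φ := isPullback_of_left sqUl
  -- the map `uT`
  let kT : PT ⟶ X₀ := sq₀.lift fstT (sndT ≫ (yon S).map φ) (by rw [sqT.w, Category.assoc])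
  have hkT1 : kT ≫ fst₀ = fstT := sq₀.lift_fst _ _ _
  have hkT2 : kT ≫ snd₀ = sndT ≫ (yon S).map φ := sq₀.lift_snd _ _ _
  have sqkT : IsPullback kT sndT snd₀ ((yon S).map φ) := by
    refine IsPullback.of_right ?_ hkT2 sq₀
    rwa [hkT1]
  have sqyU := sqU.map (yon S)
  rw [hgU] at sqyU
  let uT : (yon S).obj UT ⟶ PT := sqkT.lift ((yon S).map fstU ≫ u) ((yon S).map sndU) (by
    rw [Category.assoc]; exact sqyU.w)
  have huT1 : uT ≫ kT = (yon S).map fstU ≫ u := sqkT.lift_fst _ _ _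
  have huT2 : uT ≫ sndT = (yon S).map sndU := sqkT.lift_snd _ _ _
  -- the closed subset
  intro C hC
  rw [← isOpen_compl_iff]
  let D : Set T.left := AlgSp.Points.schemeHomeo T ⁻¹' (AlgSp.Points.map sndT '' C)ᶜ
  suffices hD : IsOpen D by
    have : (AlgSp.Points.map sndT '' C)ᶜ = (AlgSp.Points.schemeHomeo T).symm ⁻¹' D := by
      ext x; simp [D]
    rw [this]
    exact hD.preimage (AlgSp.Points.schemeHomeo T).symm.continuous
  rw [isOpen_iff_forall_mem_open]
  intro t ht
  let Z : Set UT.left := AlgSp.Points.ofPt uT ⁻¹' C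
  have hZ : IsClosed Z := hC.preimage (AlgSp.Points.continuous_ofPt uT)
  have hsndu : ∀ z : UT.left, AlgSp.Points.map sndT (AlgSp.Points.ofPt uT z) =
      AlgSp.Points.schemeHomeo T (sndU.left z) := by
    intro z
    rw [AlgSp.Points.map_ofPt, huT2, ofPt_eq_map, map_yon]
    rfl
  have hzt : ∀ z ∈ Z, sndU.left z ≠ t := by
    rintro z hz rfl
    exact ht ⟨_, hz, hsndu z⟩
  obtain ⟨n, b, W, hW1, hW2⟩ := exists_separating (R := R) (B := B) (X := U.left) gU.left sqUl Z hZ t hzt
  let A := Aff n V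
  let A₀ := Aff n W₀
  let AU := Aff n U
  -- base changes to affine space
  obtain ⟨XA, fstA, sndA, sqA⟩ := exists_isPullback f ((yon S).map (affπ n V) ≫ p)
  obtain ⟨XA₀, fstA₀, sndA₀, sqA₀⟩ :=
    exists_isPullback f ((yon S).map (affπ n W₀) ≫ (yon S).map ιo ≫ p)
  have hcA := (isPullback_affMap n ιo).map (yon S)
  have hcA' : (yon S).map (affMap n ιo) ≫ (yon S).map (affπ n V) ≫ p =
      (yon S).map (affπ n W₀) ≫ (yon S).map ιo ≫ p := by
    rw [← Category.assoc, hcA.w, Category.assoc]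
  let j : XA₀ ⟶ XA :=
    sqA.lift fstA₀ (sndA₀ ≫ (yon S).map (affMap n ιo)) (by
      rw [sqA₀.w, Category.assoc, hcA'])
  have hj1 : j ≫ fstA = fstA₀ := sqA.lift_fst _ _ _
  have hj2 : j ≫ sndA = sndA₀ ≫ (yon S).map (affMap n ιo) := sqA.lift_snd _ _ _
  have sqj : IsPullback j sndA₀ sndA ((yon S).map (affMap n ιo)) := by
    refine IsPullback.of_right ?_ hj2 sqA
    rw [hj1, hcA']
    exact sqA₀
  let k : XA₀ ⟶ X₀ :=
    sq₀.lift fstA₀ (sndA₀ ≫ (yon S).map (affπ n W₀)) (by
      rw [sqA₀.w, Category.assoc])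
  have hk1 : k ≫ fst₀ = fstA₀ := sq₀.lift_fst _ _ _
  have hk2 : k ≫ snd₀ = sndA₀ ≫ (yon S).map (affπ n W₀) := sq₀.lift_snd _ _ _
  have sqk : IsPullback k sndA₀ snd₀ ((yon S).map (affπ n W₀)) := by
    refine IsPullback.of_right ?_ hk2 sq₀
    rw [hk1]
    exact sqA₀
  have hcU := (isPullback_affMap n gU).map (yon S)
  rw [hgU] at hcU
  let w₀ : (yon S).obj (Aff n U) ⟶ XA₀ :=
    sqk.lift ((yon S).map (affπ n U) ≫ u) ((yon S).map (affMap n gU)) (by
      rw [Category.assoc]; exact hcU.w.symm)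
  have hw1 : w₀ ≫ k = (yon S).map (affπ n U) ≫ u := sqk.lift_fst _ _ _
  have hw2 : w₀ ≫ sndA₀ = (yon S).map (affMap n gU) := sqk.lift_snd _ _ _
  have sqw : IsPullback ((yon S).map (affπ n U)) w₀ u k := by
    refine IsPullback.of_bot (v₂₁ := sndA₀) (h₃₁ := (yon S).map (affπ n W₀)) (v₂₂ := snd₀) ?_ hw1.symm sqk
    rw [hw2]
    exact hcU.flip
  have hw₀e : RepWith @Etale w₀ := repWith_of_isPullback _ sqw hu
  have hw₀s : RepWith @Surjective w₀ := repWith_of_isPullback _ sqw hus
  have hje : RepWith @IsOpenImmersion j := by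
    refine repWith_of_isPullback _ sqj.flip ((repWith_yon_map_iff _ _).2 ?_)
    exact MorphismProperty.of_isPullback (P := @IsOpenImmersion)
      (AffineSpace.isPullback_map (n := ULift.{u} (Fin n)) ι).flip inferInstance
  have hjm : Mono j := by
    have : Mono (affMap n ιo) := by
      have h1 : IsOpenImmersion (AffineSpace.map (ULift.{u} (Fin n)) ι) :=
        MorphismProperty.of_isPullback (P := @IsOpenImmersion)
          (AffineSpace.isPullback_map (n := ULift.{u} (Fin n)) ι).flip inferInstance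
      have : Mono (affMap n ιo).left := inferInstanceAs (Mono (AffineSpace.map (ULift.{u} (Fin n)) ι))
      exact Over.mono_of_mono_left _
    have h2 : Mono ((yon S).map (affMap n ιo)) := inferInstance
    exact (MorphismProperty.monomorphisms (Sp S)).of_isPullback sqj.flip h2
  have hwo : IsOpenMap (AlgSp.Points.ofPt (w₀ ≫ j)) := by
    refine isOpenMap_ofPt _ ?_
    exact (repWith_isMultiplicative (S := S) @UniversallyOpen).comp_mem _ _
      (repWith_universallyOpen_of_etale hw₀e)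
      (repWith_mono (fun _ _ g hg => by
        have : IsOpenImmersion g := hg
        infer_instance) hje)
  -- the vector given by `b`
  let γ₀ : T ⟶ Aff n W₀ := affVec n φ b
  let γU : UT ⟶ Aff n U := affVec n fstU (fun i => sndU.left.appTop (b i))
  have hγ₀ : γ₀ ≫ affπ n W₀ = φ := Over.OverMorphism.ext (AffineSpace.homOfVector_over _ _)
  have hγU : γU ≫ affπ n U = fstU := Over.OverMorphism.ext (AffineSpace.homOfVector_over _ _)
  have sqγ : IsPullback γU sndU (affMap n gU) γ₀ :=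
    isPullback_of_left (Groth.Agent.Ega43.UnivOpenAffine.isPullback_homOfVector sqUl b)
  let m₀ : PT ⟶ XA₀ := sqA₀.lift fstT (sndT ≫ (yon S).map γ₀) (by
    rw [sqT.w, Category.assoc, ← hγ₀, Functor.map_comp]
    simp only [Category.assoc])
  have hm1 : m₀ ≫ fstA₀ = fstT := sqA₀.lift_fst _ _ _
  have hm2 : m₀ ≫ sndA₀ = sndT ≫ (yon S).map γ₀ := sqA₀.lift_snd _ _ _
  have sqm : IsPullback m₀ sndT sndA₀ ((yon S).map γ₀) := by
    refine IsPullback.of_right ?_ hm2 sqA₀
    rw [hm1, ← Functor.map_comp_assoc, hγ₀]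
    exact sqT
  have hkm : m₀ ≫ k = kT := by
    apply sq₀.hom_ext
    · rw [Category.assoc, hk1, hm1, hkT1]
    · rw [Category.assoc, hk2, hkT2, ← Category.assoc, hm2, Category.assoc, ← Functor.map_comp, hγ₀]
  have huw : uT ≫ m₀ = (yon S).map γU ≫ w₀ := by
    apply sqk.hom_ext
    · rw [Category.assoc, hkm, huT1, Category.assoc, hw1, ← Functor.map_comp_assoc, hγU]
    · rw [Category.assoc, hm2, ← Category.assoc, huT2, Category.assoc, hw2, ← Functor.map_comp,
        ← Functor.map_comp, sqγ.w]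
  have squ : IsPullback ((yon S).map γU) uT w₀ m₀ := by
    refine IsPullback.of_bot (v₂₁ := sndT) (h₃₁ := (yon S).map γ₀) (v₂₂ := sndA₀) ?_ huw.symm sqm
    rw [huT2, hw2]
    exact sqγ.map (yon S)
  -- the open set `E` and the closed complement of its image
  let W' : Set (Aff n U).left := (show (Aff n U).left.Opens from W).1
  have hW'o : IsOpen W' := (show (Aff n U).left.Opens from W).2
  let E : Set (AlgSp.Points XA) := AlgSp.Points.ofPt (w₀ ≫ j) '' W'
  have hE : IsOpen E := hwo _ hW'o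
  have hF := H n XA fstA sndA sqA _ hE.isClosed_compl
  let F' : Set (Aff n V).left := AlgSp.Points.schemeHomeo (Aff n V) ⁻¹' (AlgSp.Points.map sndA '' Eᶜ)
  have hF' : IsClosed F' := hF.preimage (AlgSp.Points.schemeHomeo (Aff n V)).continuous
  let γ : T ⟶ Aff n V := γ₀ ≫ affMap n ιo
  refine ⟨γ.left ⁻¹' F'ᶜ, ?_, hF'.isOpen_compl.preimage γ.left.continuous, ?_⟩
  · -- disjoint from `D`
    rintro t₁ ht₁ ⟨c, hc, hct⟩
    have e1 : AlgSp.Points.map sndA (AlgSp.Points.map (m₀ ≫ j) c) =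
        AlgSp.Points.schemeHomeo _ (γ.left t₁) := by
      rw [← AlgSp.Points.map_comp, Category.assoc, hj2, ← Category.assoc, hm2, Category.assoc,
        ← Functor.map_comp, AlgSp.Points.map_comp, hct]
      exact map_yon _ _
    by_cases hcE : AlgSp.Points.map (m₀ ≫ j) c ∈ E
    · obtain ⟨a, ha, hac⟩ := hcE
      have h1 : AlgSp.Points.map w₀ (AlgSp.Points.schemeEquiv _ a) = AlgSp.Points.map m₀ c := by
        apply injective_of_mono j
        rw [← AlgSp.Points.map_comp, ← AlgSp.Points.map_comp, ← hac, ofPt_eq_map]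
      obtain ⟨q, hq1, hq2⟩ := exists_of_isPullback squ _ _ h1
      obtain ⟨z, rfl⟩ := exists_schemeEquiv q
      rw [map_yon] at hq1
      have hza : γU.left z = a := (AlgSp.Points.schemeEquiv (Aff n U)).injective hq1
      refine hW1 z ?_ ?_
      · change AlgSp.Points.ofPt uT z ∈ C
        rwa [ofPt_eq_map, hq2]
      · have : γU.left z ∈ W' := by rwa [hza]
        exact this
    · exact ht₁ ⟨_, hcE, e1⟩
  · -- contains `t`
    rintro ⟨x, hx, hxt⟩
    apply hx
    have h1 : AlgSp.Points.map sndA x = AlgSp.Points.map ((yon S).map (affMap n ιo))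
        (AlgSp.Points.schemeEquiv _ (γ₀.left t)) := by
      rw [map_yon]; exact hxt
    obtain ⟨x₀, hx1, hx2⟩ := exists_of_isPullback sqj _ _ h1
    obtain ⟨a', ha'⟩ := surjective_map_of_repWith w₀ hw₀s x₀
    obtain ⟨a, rfl⟩ := exists_schemeEquiv a'
    have h2 : (affMap n gU).left a = γ₀.left t := by
      apply (AlgSp.Points.schemeEquiv (Aff n W₀)).injective
      rw [← hx2, ← ha', ← AlgSp.Points.map_comp, hw2, map_yon]
    obtain ⟨z, hz1, hz2⟩ := exists_of_isPullback (sqγ.map (yon S)) (AlgSp.Points.schemeEquiv _ a)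
      (AlgSp.Points.schemeEquiv _ t) (by rw [map_yon, map_yon, h2])
    obtain ⟨z, rfl⟩ := exists_schemeEquiv z
    rw [map_yon] at hz1 hz2
    have hz1' := (AlgSp.Points.schemeEquiv (Aff n U)).injective hz1
    have hz2' := (AlgSp.Points.schemeEquiv T).injective hz2
    refine ⟨a, ?_, ?_⟩
    · have h3 : γU.left z ∈ W' := hW2 z hz2'
      rwa [hz1'] at h3
    · rw [ofPt_eq_map, AlgSp.Points.map_comp, ha', hx1]

end K603.UnivClosedMain
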